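import Groth.Agent.Lib.Euler.Vanish
import Mathlib.Topology.KrullDimension

/-!
# Bounding the dimension of a closed subset by chains of points
-/

universe u

open CategoryTheory AlgebraicGeometry TopologicalSpace

namespace GrothLib.Snapper

variable {X : Scheme.{u}}

/-- Chains of specializations in `S` have length `< d`. -/
def DimLT (S : Set X) (d : ℕ) : Prop := ∀ l : LTSeries X, (∀ i, l i ∈ S) → l.length < d

/-- `closure {x}` has dimension exactly `d`. -/
def IsTop (d : ℕ) (x : X) : Prop := topologicalKrullDim (closure ({x} : Set X)) = (d : WithBot ℕ∞)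

theorem DimLT.mono {S T : Set X} {d : ℕ} (h : DimLT S d) (hT : T ⊆ S) : DimLT T d :=
  fun l hl => h l fun i => hT (hl i)

theorem not_dimLT_zero {S : Set X} (hS : S.Nonempty) : ¬ DimLT S 0 := fun h => by
  obtain ⟨x, hx⟩ := hS
  exact absurd (h (RelSeries.singleton _ x) fun _ => hx) (Nat.not_lt_zero _)

theorem eq_empty_of_dimLT_zero {S : Set X} (h : DimLT S 0) : S = ∅ :=
  Set.not_nonempty_iff_eq_empty.1 fun hne => not_dimLT_zero hne h

theorem length_le_dim (S : Set X) (l : LTSeries X) (hl : ∀ i, l i ∈ S) :
    (l.length : WithBot ℕ∞) ≤ topologicalKrullDim S := by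
  let e : ∀ i, IrreducibleCloseds S := fun i =>
    ⟨closure {(⟨l i, hl i⟩ : S)}, isIrreducible_singleton.closure, isClosed_closure⟩
  have hmem : ∀ i j, (⟨l i, hl i⟩ : S) ∈ closure {(⟨l j, hl j⟩ : S)} ↔ l j ⤳ l i := fun i j => by
    rw [← specializes_iff_mem_closure]
    exact Topology.IsInducing.subtypeVal.specializes_iff.symm
  have hstep : ∀ i : Fin l.length, e i.castSucc < e i.succ := fun i => by
    have h : l i.succ ⤳ l i.castSucc := (l.step i).le
    refine lt_of_le_not_ge (show closure _ ≤ closure _ from
      closure_minimal (Set.singleton_subset_iff.2 ((hmem _ _).2 h)) isClosed_closure) fun hle => ?_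
    have h' : l i.castSucc ⤳ l i.succ := (hmem _ _).1 (hle (subset_closure rfl))
    exact (l.step i).not_ge h'
  exact le_iSup_of_le (⟨l.length, e, hstep⟩ : LTSeries (IrreducibleCloseds S)) le_rfl

theorem dimLT_of_dim_le {S : Set X} {d : ℕ} (h : topologicalKrullDim S ≤ (d : WithBot ℕ∞)) :
    DimLT S (d + 1) := fun l hl => by
  have := (length_le_dim S l hl).trans h
  rw [Nat.lt_succ_iff]
  exact_mod_cast this

theorem dim_le_of_dimLT {S : Set X} (hS : IsClosed S) {d : ℕ} (h : DimLT S (d + 1)) :
    topologicalKrullDim S ≤ (d : WithBot ℕ∞) := by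
  haveI : QuasiSober S := hS.isClosedEmbedding_subtypeVal.quasiSober
  refine iSup_le fun l => ?_
  let p : IrreducibleCloseds S → X := fun C => (C.isIrreducible.genericPoint : S).1
  have hgen : ∀ C : IrreducibleCloseds S, closure {(C.isIrreducible.genericPoint : S)} = (C : Set S) := fun C =>
    C.isIrreducible.genericPoint_closure_eq.trans C.isClosed.closure_eq
  have hp : StrictMono p := fun C D hCD => by
    have hle : p D ⤳ p C := by
      refine Topology.IsInducing.subtypeVal.specializes_iff.2 (specializes_iff_mem_closure.2 ?_)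
      rw [hgen]
      exact hCD.le ((hgen C).le (subset_closure rfl))
    refine lt_of_le_not_ge hle fun h' => hCD.ne (IrreducibleCloseds.ext ?_)
    rw [← hgen C, ← hgen D, show (C.isIrreducible.genericPoint : S) = D.isIrreducible.genericPoint from
      Subtype.ext ((show p C ⤳ p D from h').antisymm hle).eq]
  have := h (l.map p hp) fun i => Subtype.coe_prop _
  exact_mod_cast Nat.lt_succ_iff.1 this

theorem dimLT_zero_of_dim_le_bot {S : Set X} (h : topologicalKrullDim S = ⊥) : DimLT S 0 := fun l hl => by
  have := (length_le_dim S l hl).trans h.le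
  exact absurd (le_bot_iff.1 this) (WithBot.natCast_ne_bot _)

theorem IsTop.dimLT {d : ℕ} {x : X} (h : IsTop d x) : DimLT (closure ({x} : Set X)) (d + 1) :=
  dimLT_of_dim_le h.le

theorem IsTop.exists_series {d : ℕ} {x : X} (h : IsTop d x) :
    ∃ l : LTSeries X, (∀ i, l i ∈ closure ({x} : Set X)) ∧ d ≤ l.length := by
  by_contra hne
  push Not at hne
  rcases Nat.eq_zero_or_pos d with hd | hd
  · exact absurd (hne (RelSeries.singleton _ x) fun _ => subset_closure rfl) (by omega)
  · obtain ⟨e, rfl⟩ : ∃ e, d = e + 1 := ⟨d - 1, by omega⟩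
    have h1 := dim_le_of_dimLT isClosed_closure (show DimLT (closure ({x} : Set X)) (e + 1) from hne)
    rw [show topologicalKrullDim (closure ({x} : Set X)) = _ from h] at h1
    exact absurd (show e + 1 ≤ e by exact_mod_cast h1) (by omega)

theorem isTop_of {d : ℕ} {x : X} (h1 : DimLT (closure ({x} : Set X)) (d + 1))
    (h2 : ¬ DimLT (closure ({x} : Set X)) d) : IsTop d x := by
  refine le_antisymm (dim_le_of_dimLT isClosed_closure h1) ?_
  simp only [DimLT, not_forall, not_lt] at h2
  obtain ⟨l, hl, hd⟩ := h2
  exact le_trans (by exact_mod_cast hd) (length_le_dim _ l hl)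

/-- In a set of dimension `≤ d` a point with `d`-dimensional closure has no proper generalisation. -/
theorem IsTop.eq_of_specializes {d : ℕ} {x y : X} (h : IsTop d x) (hyx : y ⤳ x)
    (hS : DimLT (closure ({y} : Set X)) (d + 1)) : y = x := by
  by_contra hne
  obtain ⟨l, hl, hd⟩ := h.exists_series
  have hlast : l.last < y := by
    have h1 : y ⤳ l.last := hyx.trans (specializes_iff_mem_closure.2 (hl (Fin.last _)))
    refine lt_of_le_not_ge h1 fun h2 => hne (Specializes.antisymm hyx ?_).eq
    exact (specializes_iff_mem_closure.2 (hl (Fin.last _))).trans h2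
  have := hS (l.snoc y hlast) fun i => by
    refine Fin.lastCases ?_ (fun i => ?_) i
    · rw [show (l.snoc y hlast) (Fin.last _) = y from RelSeries.last_snoc l y hlast]
      exact subset_closure rfl
    · rw [show (l.snoc y hlast) i.castSucc = l i from RelSeries.snoc_castSucc l y hlast i]
      exact specializes_iff_mem_closure.1 (hyx.trans (specializes_iff_mem_closure.2 (hl i)))
  simp at this
  omega

/-- A proper closed subset of an irreducible closed set drops dimension. -/
theorem dimLT_of_notMem {d : ℕ} {η : X} {T : Set X} (hZ : DimLT (closure ({η} : Set X)) (d + 1))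
    (hT : T ⊆ closure {η}) (hη : η ∉ T) : DimLT T d := fun l hl => by
  have hlast : l.last < η := by
    have h1 : η ⤳ l.last := specializes_iff_mem_closure.2 (hT (hl _))
    refine lt_of_le_not_ge h1 fun h2 => hη ?_
    rw [← (Specializes.antisymm (show l.last ⤳ η from h2) h1).eq]
    exact hl _
  have := hZ (l.snoc η hlast) fun i => by
    refine Fin.lastCases ?_ (fun i => ?_) i
    · rw [show (l.snoc η hlast) (Fin.last _) = η from RelSeries.last_snoc l η hlast]
      exact subset_closure rfl
    · rw [show (l.snoc η hlast) i.castSucc = l i from RelSeries.snoc_castSucc l η hlast i]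
      exact hT (hl i)
  simp at this
  omega

/-- Only finitely many points of a closed set have no proper generalisation in it. -/
theorem finite_of_maximal [NoetherianSpace X] {S : Set X} (hS : IsClosed S) {T : Set X} (hT : T ⊆ S)
    (h : ∀ x ∈ T, ∀ y ∈ S, y ⤳ x → y = x) : T.Finite := by
  obtain ⟨F, hF, hFirr, hFcl, hcov⟩ := NoetherianSpace.exists_finite_set_isClosed_irreducible hS
  choose η hη using fun C : F => QuasiSober.sober (hFcl C C.2) (hFirr C C.2)
  haveI := hF.to_subtype
  refine (Set.finite_range η).subset fun x hx => ?_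
  obtain ⟨C, hC, hxC⟩ := (hcov ▸ hT hx : x ∈ ⋃₀ F)
  exact ⟨⟨C, hC⟩, h x hx _ (hcov.ge (Set.mem_sUnion_of_mem (hη ⟨C, hC⟩).mem hC))
    ((hη ⟨C, hC⟩).specializes hxC)⟩

end GrothLib.Snapper
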