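import Groth.Agent.Lib.Snapper.Leray
import Groth.Agent.Lib.AffDom.PointDim
import Groth.Agent.Lib.CycBasic.SubLength
import Groth.Agent.Lib.SheafCoh.ModGroth
import Groth.Agent.S0037
import Groth.Agent.S0927
import Groth.Agent.Lib.Misc6.NoethFibres

/-!
# Twisted Euler characteristics of pullbacks to an integral scheme
-/

set_option linter.style.haveILetI false

universe u

open CategoryTheory CategoryTheory.Limits AlgebraicGeometry TopologicalSpace

noncomputable section

namespace GrothLib.Snapper

open GrothLib.Euler (tF)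
open GrothLib.AffDom (ptDim)

theorem subsingleton_stalk_push {X Z : Scheme.{u}} (g : Z ⟶ X) (N : Z.Modules) {x : X}
    (hcl : IsClosed (Set.range g.base)) (hx : x ∉ Set.range g.base) :
    Subsingleton (((Scheme.Modules.pushforward g).obj N).presheaf.stalk x) := by
  let W : X.Opens := ⟨(Set.range g.base)ᶜ, hcl.isOpen_compl⟩
  refine not_not.1 (GrothLib.QCoh.notMem_support_of_forall_subsingleton ((Scheme.Modules.pushforward g).obj N)
    (W := W) (fun V hV => ⟨fun a b => ?_⟩) hx)
  exact TopCat.Presheaf.section_ext ⟨N.presheaf, N.isSheaf⟩ (g ⁻¹ᵁ V) a b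
    fun z hz => (hV hz ⟨z, rfl⟩).elim

/-- The stalk of a direct image at a point with one-point fibre, for a closed map. -/
theorem pushStalkHom_bijective_of_fibre {X Z : Scheme.{u}} (f : Z ⟶ X) (hf : IsClosedMap f.base) (y : Z)
    (hy : f.base ⁻¹' {f y} ⊆ {y}) (N : Z.Modules) :
    Function.Bijective (QCoh.pushStalkHom f y N).hom := by
  have hnb : ∀ W : Z.Opens, y ∈ W → ∃ O : X.Opens, f y ∈ O ∧ f ⁻¹ᵁ O ≤ W := fun W hW => by
    refine ⟨⟨(f.base '' (W : Set Z)ᶜ)ᶜ, (hf _ W.isOpen.isClosed_compl).isOpen_compl⟩, ?_, fun z hz => ?_⟩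
    · rintro ⟨z, hz, hzy⟩
      exact hz ((hy hzy : z = y) ▸ hW)
    · by_contra hzW
      exact hz ⟨z, hzW, rfl⟩
  refine ⟨(injective_iff_map_eq_zero (QCoh.pushStalkHom f y N).hom).2 fun e he ↦ ?_, fun e ↦ ?_⟩
  · obtain ⟨V, hV, s, rfl⟩ := OX.germ_exists ((Scheme.Modules.pushforward f).obj N).val e
    have he : OX.germ N.val (f ⁻¹ᵁ V) hV s = 0 := (QCoh.pushStalkHom_germ f y N V hV s).symm.trans he
    obtain ⟨W, hyW, i₁, i₂, h⟩ := TopCat.Presheaf.germ_eq N.presheaf y (U := f ⁻¹ᵁ V) (V := f ⁻¹ᵁ V) hV hV s 0
      (he.trans (map_zero _).symm)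
    obtain ⟨O, hyO, hOW⟩ := hnb W hyW
    have hle : O ⊓ V ≤ V := inf_le_right
    rw [← OX.germ_map _ (homOfLE hle) ⟨hyO, hV⟩ s]
    have hle' : f ⁻¹ᵁ (O ⊓ V) ≤ W := fun z hz ↦ hOW hz.1
    have h0 : N.presheaf.map (homOfLE hle').op (N.presheaf.map i₁.op s) = 0 := by
      rw [h, map_zero, map_zero]
    replace h0 := (Cohom.map_map_apply N i₁ (homOfLE hle') s).symm.trans h0
    refine Eq.trans (congrArg (OX.germ _ _ _) ?_) (map_zero _)
    exact h0
  · obtain ⟨W, hyW, t, rfl⟩ := OX.germ_exists N.val e
    obtain ⟨O, hyO, hOW⟩ := hnb W hyW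
    refine ⟨OX.germ ((Scheme.Modules.pushforward f).obj N).val O (hyO : y ∈ f ⁻¹ᵁ O)
      (N.presheaf.map (homOfLE hOW).op t), ?_⟩
    exact (QCoh.pushStalkHom_germ f y N O _ _).trans (OX.germ_map N.val (homOfLE hOW) _ t)

theorem length_via_residue {A K L : Type u} [CommRing A] [Field K] [Field L] (π : A →+* K)
    (hπ : Function.Surjective π) (j : K →+* L) [Module A L] (h : ∀ (a : A) (x : L), a • x = j (π a) * x)
    (hfin : j.Finite) :
    Module.length A L = (@Module.finrank K L _ _ j.toAlgebra.toModule : ℕ∞) := by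
  letI := j.toAlgebra
  haveI : Module.Finite K L := hfin
  rw [CycBasic.length_eq_of_surjective π hπ L fun a x => by rw [h, Algebra.smul_def]; rfl]
  exact Module.length_eq_finrank K L

variable {k : Type u} [Field k] {X Z : Scheme.{u}} [X.Over (Spec (CommRingCat.of k))]
  [Z.Over (Spec (CommRingCat.of k))] [IsProper (X ↘ Spec (CommRingCat.of k))]
  [IsProper (Z ↘ Spec (CommRingCat.of k))] [IsIntegral Z] {g : Z ⟶ X}
  (hg : g ≫ X ↘ Spec (CommRingCat.of k) = Z ↘ Spec (CommRingCat.of k))
  {d : ℕ} (hd : topologicalKrullDim Z = d)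

include hd in
theorem isTop_genericPoint : IsTop d (genericPoint Z) := by
  show topologicalKrullDim (closure ({genericPoint Z} : Set Z)) = _
  rw [(genericPoint_spec Z).def]
  exact (IsHomeomorph.topologicalKrullDim_eq _ (Homeomorph.Set.univ Z).isHomeomorph).trans hd

include hg hd in
theorem dimLT_image : DimLT (closure ({g (genericPoint Z)} : Set X)) (d + 1) := by
  haveI : IsProper (g ≫ X ↘ Spec (CommRingCat.of k)) := by rw [hg]; infer_instance
  haveI : IsProper g := IsProper.of_comp g (X ↘ Spec (CommRingCat.of k))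
  obtain ⟨a, ha⟩ := AffDom.exists_nat_ptDim (X ↘ Spec (CommRingCat.of k)) (g (genericPoint Z))
  haveI : LocallyOfFiniteType (g.fiberToSpecResidueField (g (genericPoint Z))) :=
    MorphismProperty.pullback_snd g (X.fromSpecResidueField _) inferInstance
  obtain ⟨b, hb⟩ := @AffDom.exists_nat_ptDim (X.residueField (g (genericPoint Z))) _ _
    (g.fiberToSpecResidueField (g (genericPoint Z))) this (g.asFiber (genericPoint Z))
  have h := AffDom.ptDim_eq_add g (X ↘ Spec (CommRingCat.of k)) (genericPoint Z)
  rw [show ptDim (genericPoint Z) = d from isTop_genericPoint hd, ha, hb] at h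
  have h' : d = a + b := by exact_mod_cast h
  refine dimLT_of_dim_le ?_
  rw [show topologicalKrullDim (closure ({g (genericPoint Z)} : Set X)) = a from ha]
  exact_mod_cast (show a ≤ d by omega)

include hg hd in
theorem fibre_subset (hw : IsTop d (g (genericPoint Z))) :
    g.base ⁻¹' {g (genericPoint Z)} ⊆ {genericPoint Z} := by
  intro z hz
  haveI : IsProper (g ≫ X ↘ Spec (CommRingCat.of k)) := by rw [hg]; infer_instance
  haveI : IsProper g := IsProper.of_comp g (X ↘ Spec (CommRingCat.of k))
  haveI : LocallyOfFiniteType (g.fiberToSpecResidueField (g z)) :=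
    MorphismProperty.pullback_snd g (X.fromSpecResidueField _) inferInstance
  obtain ⟨b, hb⟩ := @AffDom.exists_nat_ptDim (X.residueField (g z)) _ _
    (g.fiberToSpecResidueField (g z)) this (g.asFiber z)
  obtain ⟨c, hc⟩ := AffDom.exists_nat_ptDim (Z ↘ Spec (CommRingCat.of k)) z
  have h := AffDom.ptDim_eq_add g (X ↘ Spec (CommRingCat.of k)) z
  rw [hc, hb, show ptDim (g z) = d from (congrArg ptDim (show g z = g (genericPoint Z) from hz)).trans hw] at h
  have hcd : c = d + b := by exact_mod_cast h
  have hle : c ≤ d := by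
    have := AffDom.ptDim_le z
    rw [hc, hd] at this
    exact_mod_cast this
  have hz' : IsTop d z := by
    show ptDim z = _
    rw [hc, show c = d by omega]
  exact (hz'.eq_of_specializes (genericPoint_specializes z) (isTop_genericPoint hd).dimLT).symm

include hg hd in
theorem isTop_iff_finite :
    IsTop d (g (genericPoint Z)) ↔ (g.residueFieldMap (genericPoint Z)).hom.Finite := by
  haveI : IsProper (g ≫ X ↘ Spec (CommRingCat.of k)) := by rw [hg]; infer_instance
  haveI : IsProper g := IsProper.of_comp g (X ↘ Spec (CommRingCat.of k))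
  let ξ := genericPoint Z
  let q := X ↘ Spec (CommRingCat.of k)
  obtain ⟨a, ha, ha'⟩ := AffDom.exists_dim_closure q (g ξ)
  obtain ⟨c, hc, hc'⟩ := AffDom.exists_dim_closure (g ≫ q) ξ
  have hcd : c = d := by
    have := hc.symm.trans (show topologicalKrullDim (closure ({ξ} : Set Z)) = d from isTop_genericPoint hd)
    exact_mod_cast this
  subst hcd
  let j := (g.residueFieldMap ξ).hom
  letI := (AffDom.toRes q (g ξ)).toAlgebra
  letI := (AffDom.toRes (g ≫ q) ξ).toAlgebra
  letI : Algebra (X.residueField (g ξ)) (Z.residueField ξ) := j.toAlgebra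
  haveI : IsScalarTower k (X.residueField (g ξ)) (Z.residueField ξ) :=
    IsScalarTower.of_algebraMap_eq' (AffDom.toRes_comp g q ξ)
  haveI : Algebra.EssFiniteType (X.residueField (g ξ)) (Z.residueField ξ) :=
    Misc6.residueFieldMap_essFiniteType g ξ
  constructor
  · intro hw
    have hta : Algebra.trdeg k (X.residueField (g ξ)) = (c : Cardinal) := by
      rw [show Algebra.trdeg k (X.residueField (g ξ)) = a from ha']
      have := ha.symm.trans (show topologicalKrullDim (closure ({g ξ} : Set X)) = c from hw)
      exact_mod_cast this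
    have h := trdeg_add_eq k (X.residueField (g ξ)) (A := Z.residueField ξ)
    rw [hta, show Algebra.trdeg k (Z.residueField ξ) = (c : Cardinal) from hc'] at h
    haveI : Algebra.IsAlgebraic (X.residueField (g ξ)) (Z.residueField ξ) := by
      rw [← trdeg_eq_zero_iff]
      exact Cardinal.eq_of_add_eq_add_left (h.trans (add_zero _).symm) (Cardinal.natCast_lt_aleph0)
    exact Algebra.finite_of_essFiniteType_of_isAlgebraic
  · intro hfin
    haveI : Module.Finite (X.residueField (g ξ)) (Z.residueField ξ) := hfin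
    haveI : Algebra.IsAlgebraic (X.residueField (g ξ)) (Z.residueField ξ) := Algebra.IsAlgebraic.of_finite _ _
    have h := Dim.trdeg_eq_of_algebraic (k := k) (A := X.residueField (g ξ)) (B := Z.residueField ξ)
    rw [show Algebra.trdeg k (Z.residueField ξ) = (c : Cardinal) from hc',
      show Algebra.trdeg k (X.residueField (g ξ)) = a from ha'] at h
    show topologicalKrullDim (closure ({g ξ} : Set X)) = _
    rw [ha, show c = a from by exact_mod_cast h]

include hg hd in
theorem mult_pushforward (hw : IsTop d (g (genericPoint Z))) :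
    mult ((Scheme.Modules.pushforward g).obj (Coh.structureModule Z)) (g (genericPoint Z)) =
      g.residueDegree (genericPoint Z) := by
  haveI : IsProper (g ≫ X ↘ Spec (CommRingCat.of k)) := by rw [hg]; infer_instance
  haveI : IsProper g := IsProper.of_comp g (X ↘ Spec (CommRingCat.of k))
  let ξ := genericPoint Z
  have hb := pushStalkHom_bijective_of_fibre g g.isClosedMap ξ (fibre_subset hg hd hw) (Coh.structureModule Z)
  let A := X.presheaf.stalk (g ξ)
  letI : Module A (Z.residueField ξ) := Module.compHom _ ((Z.residue ξ).hom.comp (g.stalkMap ξ).hom)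
  letI : Module A (Z.presheaf.stalk ξ) := Module.compHom _ (g.stalkMap ξ).hom
  let u := (GrothLib.HomSh.unitStalk (X := Z) ξ).symm
  let e₁ : ((Scheme.Modules.pushforward g).obj (Coh.structureModule Z)).presheaf.stalk (g ξ) ≃ₗ[A]
      Z.presheaf.stalk ξ :=
    (LinearEquiv.ofBijective _ hb).trans
      { u.toAddEquiv with map_smul' := fun r m => u.map_smul ((g.stalkMap ξ).hom r) m }
  have hinj : Function.Injective (Z.residue ξ).hom := (Z.residue ξ).hom.injective (R := Z.functionField)
  let e₂ : Z.presheaf.stalk ξ ≃ₗ[A] Z.residueField ξ :=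
    LinearEquiv.ofBijective
      { toFun := (Z.residue ξ).hom
        map_add' := map_add _
        map_smul' := fun r m => map_mul (Z.residue ξ).hom ((g.stalkMap ξ).hom r) m }
      ⟨hinj, Z.residue_surjective ξ⟩
  rw [mult, (e₁.trans e₂).length_eq,
    length_via_residue (X.residue (g ξ)).hom (X.residue_surjective (g ξ)) (g.residueFieldMap ξ).hom
      (fun a x => by
        show (Z.residue ξ).hom ((g.stalkMap ξ).hom a) * x = _
        rw [show (Z.residue ξ).hom ((g.stalkMap ξ).hom a) = (g.residueFieldMap ξ).hom ((X.residue (g ξ)).hom a) from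
          congrArg (fun φ => φ.hom a) (Scheme.residue_residueFieldMap g ξ).symm])
      ((isTop_iff_finite hg hd).1 hw)]
  rfl

include hg hd in
theorem residueDegree_eq_zero (hw : ¬ IsTop d (g (genericPoint Z))) : g.residueDegree (genericPoint Z) = 0 := by
  letI := (g.residueFieldMap (genericPoint Z)).hom.toAlgebra
  exact Module.finrank_of_infinite_dimensional fun h => hw ((isTop_iff_finite hg hd).2 h)

include hg hd in
/-- The higher direct images of the structure sheaf at the image of the generic point. -/
theorem rpush_structure [HasInjectiveResolutions Z.Modules] (i : ℕ) :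
    Coh.IsCoh ((Coh.Rpush g i).obj (Coh.structureModule Z)) ∧
      CohB1.support ((Coh.Rpush g i).obj (Coh.structureModule Z)) ⊆ closure {g (genericPoint Z)} ∧
      (IsTop d (g (genericPoint Z)) → mult ((Coh.Rpush g i).obj (Coh.structureModule Z)) (g (genericPoint Z)) =
        if i = 0 then g.residueDegree (genericPoint Z) else 0) := by
  haveI := Euler.isNoetherian_of_proper (X := X) k
  haveI : IsProper (g ≫ X ↘ Spec (CommRingCat.of k)) := by rw [hg]; infer_instance
  haveI : IsProper g := IsProper.of_comp g (X ↘ Spec (CommRingCat.of k))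
  let O := Coh.structureModule Z
  have hO : Coh.IsCoh O := by
    haveI := Euler.isNoetherian_of_proper (X := Z) k
    exact Euler.isCoh_of_isInvertible Euler.isInvertible_structure
  let w := g (genericPoint Z)
  let R := fun i => (Coh.Rpush g i).obj O
  have hR : ∀ i, Coh.IsCoh (R i) := fun i => Cohom.isCoh_Rpush g O hO i
  have hst : ∀ i (x : X), IsZero (TopCat.Presheaf.stalk ((Coh.RpushAb g i).obj (Coh.toAb O)).obj x) →
      x ∉ CohB1.support (R i) := fun i x hz hx => by
    obtain ⟨e⟩ := Groth.Agent.S11319.result g O i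
    exact hx (AddCommGrpCat.subsingleton_of_isZero (hz.of_iso
      ((TopCat.Presheaf.stalkFunctor AddCommGrpCat.{u} x).mapIso ((sheafToPresheaf _ _).mapIso e))))
  have hrange : Set.range g.base = closure {w} := by
    rw [← Set.image_univ, ← (genericPoint_spec Z).def]
    exact (g.isClosedMap.closure_image_eq_of_continuous g.continuous _).symm.trans
      (congrArg closure Set.image_singleton)
  have h0 : R 0 ≅ (Scheme.Modules.pushforward g).obj O :=
    haveI : PreservesFiniteLimits (Scheme.Modules.pushforward g) :=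
      haveI : PreservesLimitsOfSize.{0, 0} (Scheme.Modules.pushforward g) :=
        (Scheme.Modules.pullbackPushforwardAdjunction g).rightAdjoint_preservesLimits
      PreservesLimitsOfSize.preservesFiniteLimits.{0, 0} _
    (Functor.rightDerivedZeroIsoSelf (Scheme.Modules.pushforward g)).app O
  have hsupp : ∀ i, CohB1.support (R i) ⊆ closure {w} := by
    intro i x hx
    by_contra hxw
    have hxr : x ∉ Set.range g.base := fun h => hxw (hrange ▸ h)
    cases i with
    | zero =>
      rw [QCoh.support_eq_of_iso h0] at hx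
      exact hx (subsingleton_stalk_push g O g.isClosedMap.isClosed_range hxr)
    | succ i =>
      refine hst (i + 1) x (Groth.Agent.S0037.result g x ?_ O hO (i + 1) (Nat.succ_pos _)) hx
      rw [show g.base ⁻¹' {x} = ∅ from Set.eq_empty_of_forall_notMem fun z hz => hxr ⟨z, hz⟩]
      exact Set.finite_empty
  refine ⟨hR i, hsupp i, fun hw => ?_⟩
  by_cases hi : i = 0
  · subst hi
    rw [if_pos rfl, ← mult_pushforward hg hd hw]
    unfold mult
    exact congrArg ENat.toNat (LinearEquiv.length_eq ((OX.stalk w).mapIso h0).toLinearEquiv)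
  · rw [if_neg hi]
    exact mult_of_notMem (hst i w (Groth.Agent.S0037.result g w
      ((Set.finite_singleton _).subset (fibre_subset hg hd hw)) O hO i (Nat.pos_of_ne_zero hi)))

include hg in
/-- `χ` of a pullback is the alternating sum of `χ` of twists of the higher direct images. -/
theorem exists_euler_pullback_eq_sum [HasInjectiveResolutions Z.Modules] :
    ∃ M₀ : ℕ, ∀ N : X.Modules, FlatMod.IsFinLocFree N →
      Curv2.euler k Z ((Scheme.Modules.pullback g).obj N) = ∑ i ∈ Finset.range (M₀ + 1),
        (-1 : ℤ) ^ i * Curv2.euler k X ((tF N).obj ((Coh.Rpush g i).obj (Coh.structureModule Z))) := by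
  haveI := Euler.isNoetherian_of_proper (X := X) k
  haveI := Euler.isNoetherian_of_proper (X := Z) k
  haveI : IsProper (g ≫ X ↘ Spec (CommRingCat.of k)) := by rw [hg]; infer_instance
  haveI : IsProper g := IsProper.of_comp g (X ↘ Spec (CommRingCat.of k))
  haveI : (QCoh.toAbFun X).Faithful := inferInstanceAs (SheafOfModules.toSheaf _).Faithful
  let O := Coh.structureModule Z
  have hO : Coh.IsCoh O := Euler.isCoh_of_isInvertible Euler.isInvertible_structure
  let R := fun i => (Coh.Rpush g i).obj O
  obtain ⟨M₀, hM₀⟩ := Groth.Agent.S0031.result g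
  have hRz : ∀ i, M₀ ≤ i → IsZero (R i) := fun i hi => by
    obtain ⟨e⟩ := Groth.Agent.S11319.result g O i
    have h : IsZero ((QCoh.toAbFun X).obj (R i)) := (hM₀ O hO.1 i hi).of_iso e
    rw [IsZero.iff_id_eq_zero] at h ⊢
    apply (QCoh.toAbFun X).map_injective
    rw [CategoryTheory.Functor.map_id, Functor.map_zero]
    exact h
  refine ⟨M₀, fun N hN => ?_⟩
  let G := CohB1.tensorMod ((Scheme.Modules.pullback g).obj N) O
  have eG : G ≅ (Scheme.Modules.pullback g).obj N := Euler.tFUnitIso _
  have hG : Coh.IsCoh G := QCoh.isCoh_of_iso eG.symm (Euler.isCoh_of_isFinLocFree (OX.isFinLocFree_pullback g hN))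
  have hi : ∀ i, Curv2.euler k X ((Coh.Rpush g i).obj G) = Curv2.euler k X ((tF N).obj (R i)) := fun i => by
    obtain ⟨e⟩ := Groth.Agent.S0927.result g O N hN i
    exact Euler.euler_of_iso k ((((OX.tensorBraiding (X := X)).app N).app (R i) ≪≫ e).symm)
  rw [← Euler.euler_of_iso k eG, euler_eq_finsum_Rpush k hg G hG,
    finsum_eq_sum_of_support_subset _ (s := Finset.range (M₀ + 1)) (fun i hi' => ?_)]
  · exact Finset.sum_congr rfl fun i _ => by rw [hi i]
  · rw [Finset.coe_range, Set.mem_Iio]
    by_contra hle
    exact hi' (show (-1 : ℤ) ^ i * Curv2.euler k X ((Coh.Rpush g i).obj G) = 0 by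
      rw [hi i, euler_eq_zero_of_isZero k ((tF N).map_isZero (hRz i (by omega))), mul_zero])

include hg hd in
/-- `χ` of twists pulled back to `Z` is the residue degree times that of the image, modulo lower degree. -/
theorem phi_pullback_sub_mem {r : ℕ} {L : Fin r → X.Modules} (hL : ∀ i, PicF.IsInvertible (L i)) :
    phi k r (fun i => (Scheme.Modules.pullback g).obj (L i)) (Coh.structureModule Z) -
      g.residueDegree (genericPoint Z) • phi k r L (ptMod (g (genericPoint Z))) ∈ polyLT r d := by
  haveI := Euler.isNoetherian_of_proper (X := X) k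
  haveI : EnoughInjectives Z.Modules := SheafCoh.enoughInjectives_sheafOfModules Z.ringCatSheaf
  let w := g (genericPoint Z)
  let R := fun i => (Coh.Rpush g i).obj (Coh.structureModule Z)
  have hdim := dimLT_image hg hd
  have hterm : ∀ i, phi k r L (R i) - (if i = 0 then g.residueDegree (genericPoint Z) else 0) •
      phi k r L (ptMod w) ∈ polyLT r d := by
    intro i
    obtain ⟨hR, hsupp, hmult⟩ := rpush_structure hg hd i
    have hmem := phi_sub_sum_mem k hL hR (hdim.mono hsupp)
    suffices h : (∑ᶠ x : X, topTerm (phi k r L) d (R i) x) =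
        (if i = 0 then g.residueDegree (genericPoint Z) else 0) • phi k r L (ptMod w) by rwa [h] at hmem
    rw [finsum_eq_single _ w fun x hne => topTerm_eq_zero (phi k r L) fun hx hxs =>
      hne (hx.eq_of_specializes (specializes_iff_mem_closure.2 (hsupp hxs)) hdim).symm]
    by_cases hw : IsTop d w
    · rw [topTerm_of _ hw, hmult hw]
    · rw [topTerm_eq_zero _ fun h => absurd h hw]
      split_ifs
      · rw [residueDegree_eq_zero hg hd hw, zero_smul]
      · rw [zero_smul]
  obtain ⟨M₀, hM₀⟩ := exists_euler_pullback_eq_sum hg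
  have hphi : phi k r (fun i => (Scheme.Modules.pullback g).obj (L i)) (Coh.structureModule Z) =
      ∑ i ∈ Finset.range (M₀ + 1), ((-1 : ℚ) ^ i) • phi k r L (R i) := by
    funext n
    obtain ⟨eN⟩ := nonempty_pullback_invPows g r L hL n
    rw [Finset.sum_apply]
    show (Curv2.euler k Z ((tF _).obj (Coh.structureModule Z)) : ℚ) = _
    refine (congrArg Int.cast ((Euler.euler_of_iso k (OX.tensorUnitLeftIso _ ≪≫ eN.symm)).trans
      (hM₀ _ (Euler.isFinLocFree_of_isInvertible (isInvertible_invPows r L hL n))))).trans ?_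
    push_cast
    rfl
  have hsum : g.residueDegree (genericPoint Z) • phi k r L (ptMod w) =
      ∑ i ∈ Finset.range (M₀ + 1), ((-1 : ℚ) ^ i) •
        ((if i = 0 then g.residueDegree (genericPoint Z) else 0) • phi k r L (ptMod w)) := by
    rw [Finset.sum_eq_single 0 (fun i _ hi => by rw [if_neg hi, zero_smul, smul_zero])
      (fun h => absurd (Finset.mem_range.2 (Nat.succ_pos _)) h)]
    simp
  rw [hphi, hsum, ← Finset.sum_sub_distrib]
  exact Submodule.sum_mem _ fun i _ => by rw [← smul_sub]; exact Submodule.smul_mem _ _ (hterm i)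

end GrothLib.Snapper
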