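import Groth.Agent.Lib.Snapper.Intersection
import Groth.Agent.Lib.Euler.InvHom
import Groth.Agent.Lib.Euler.AmpleComponents
import Groth.Agent.Lib.ProjCoh.Generic
import Mathlib.Algebra.BigOperators.Finprod
import Mathlib.Data.Nat.Choose.Sum

/-!
# Positivity of top self-intersection numbers of ample invertible modules
-/

set_option linter.style.haveILetI false

universe u

open CategoryTheory CategoryTheory.Limits AlgebraicGeometry TopologicalSpace

noncomputable section

namespace GrothLib.Snapper

open GrothLib.Euler (tF)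
open GrothLib.QCoh (stalkLin)

/-! ## Functions of the sum of the exponents -/

/-- The sum of the variables, as the one variable. -/
def sumArg (r : ℕ) (n : Fin r → ℕ) : Fin 1 → ℕ := fun _ => ∑ i, n i

theorem sum_mul_mem {r e : ℕ} {f : (Fin r → ℕ) → ℚ} (hf : f ∈ polyLT r e) :
    (fun n => (∑ i, (n i : ℚ)) * f n) ∈ polyLT r (e + 1) := by
  induction hf using Submodule.span_induction with
  | mem g hg =>
    obtain ⟨m, hm, rfl⟩ := hg
    have h : (fun n => (∑ i, (n i : ℚ)) * mono m n) = ∑ i, mono (m + Pi.single i 1) := by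
      funext n
      rw [Finset.sum_apply, Finset.sum_mul]
      refine Finset.sum_congr rfl fun i _ => ?_
      simp only [mono, Pi.add_apply, pow_add, Finset.prod_mul_distrib]
      rw [Finset.prod_eq_single (f := fun x => (n x : ℚ) ^ (Pi.single i 1 : Fin r → ℕ) x) i
        (fun j _ hj => by simp [hj]) (fun h => absurd (Finset.mem_univ i) h)]
      simp [mul_comm]
    rw [h]
    refine Submodule.sum_mem _ fun i _ => mono_mem ?_
    have hm' : ∑ j, m j < e := hm
    simp only [Pi.add_apply, Finset.sum_add_distrib, Finset.sum_pi_single', Finset.mem_univ, if_true]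
    omega
  | zero => simp only [Pi.zero_apply, mul_zero]; exact Submodule.zero_mem _
  | add f g _ _ hf hg =>
    rw [show (fun n => (∑ i, (n i : ℚ)) * (f + g) n) = (fun n => (∑ i, (n i : ℚ)) * f n) +
      fun n => (∑ i, (n i : ℚ)) * g n from funext fun n => by simp [mul_add]]
    exact Submodule.add_mem _ hf hg
  | smul c f _ hf =>
    have h : (fun n => (∑ i, (n i : ℚ)) * (c • f) n) = c • fun n => (∑ i, (n i : ℚ)) * f n := by
      funext n; simp; ring
    rw [h]; exact Submodule.smul_mem _ _ hf

theorem sum_pow_mem (r : ℕ) : ∀ j : ℕ, (fun n : Fin r → ℕ => (∑ i, (n i : ℚ)) ^ j) ∈ polyLT r (j + 1)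
  | 0 => by simpa using const_mem (r := r) (d := 0) 1
  | j + 1 => by simpa only [pow_succ, mul_comm] using sum_mul_mem (sum_pow_mem r j)

theorem comp_sumArg_mem {r e : ℕ} {g : (Fin 1 → ℕ) → ℚ} (hg : g ∈ polyLT 1 e) :
    g ∘ sumArg r ∈ polyLT r e := by
  refine comp_mem _ (fun m hm => ?_) hg
  have h : mono m ∘ sumArg r = fun n : Fin r → ℕ => (∑ i, (n i : ℚ)) ^ m 0 := by
    funext n
    simp [mono, sumArg]
  rw [h]
  exact polyLT_mono (by simpa [Nat.succ_le_iff] using hm) (sum_pow_mem r (m 0))

theorem mixed_sum_pow : ∀ e : ℕ, mixed e (fun n => (∑ i, (n i : ℚ)) ^ e) = (e.factorial : ℚ) := by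
  intro e
  induction e with
  | zero => simp [mixed]
  | succ e ih =>
    rw [mixed_succ (sum_pow_mem (e + 1) (e + 1))]
    have h : ((fun n : Fin e → ℕ => (∑ i, ((Fin.cons 1 n : Fin (e + 1) → ℕ) i : ℚ)) ^ (e + 1)) -
        fun n : Fin e → ℕ => (∑ i, ((Fin.cons 0 n : Fin (e + 1) → ℕ) i : ℚ)) ^ (e + 1)) =
        ∑ j ∈ Finset.range (e + 1), ((e + 1).choose j : ℚ) • fun n : Fin e → ℕ => (∑ i, (n i : ℚ)) ^ j := by
      funext n
      simp only [Pi.sub_apply, Fin.sum_univ_succ, Fin.cons_zero, Fin.cons_succ, Nat.cast_one, Nat.cast_zero,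
        zero_add, Finset.sum_apply, Pi.smul_apply, smul_eq_mul]
      rw [add_comm (1 : ℚ), add_pow, Finset.sum_range_succ _ (e + 1)]
      simp [mul_comm]
    rw [h, map_sum, Finset.sum_range_succ, Finset.sum_eq_zero fun j hj => by
      rw [map_smul, mixed_eq_zero (polyLT_mono (Finset.mem_range.1 hj) (sum_pow_mem e j)), smul_zero],
      map_smul, ih, zero_add, Nat.choose_succ_self_right, Nat.factorial_succ, smul_eq_mul]
    push_cast
    ring

theorem exists_lead {d : ℕ} {g : (Fin 1 → ℕ) → ℚ} (hg : g ∈ polyLT 1 (d + 1)) :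
    ∃ c : ℚ, g - c • mono (fun _ => d) ∈ polyLT 1 d := by
  induction hg using Submodule.span_induction with
  | mem g hg =>
    obtain ⟨m, hm, rfl⟩ := hg
    have hm' : m 0 < d + 1 := by simpa using hm
    by_cases h : m 0 = d
    · refine ⟨1, ?_⟩
      rw [one_smul, show m = fun _ => d from funext fun i => by rw [Fin.eq_zero i, h], sub_self]
      exact Submodule.zero_mem _
    · refine ⟨0, ?_⟩
      rw [zero_smul, sub_zero]
      exact mono_mem (by simp; omega)
  | zero => exact ⟨0, by simp⟩
  | add f g _ _ hf hg =>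
    obtain ⟨c, hc⟩ := hf
    obtain ⟨c', hc'⟩ := hg
    exact ⟨c + c', by rw [add_smul, add_sub_add_comm]; exact Submodule.add_mem _ hc hc'⟩
  | smul a f _ hf =>
    obtain ⟨c, hc⟩ := hf
    exact ⟨a * c, by rw [mul_smul, ← smul_sub]; exact Submodule.smul_mem _ _ hc⟩

theorem mixed_comp_sumArg {d : ℕ} {g : (Fin 1 → ℕ) → ℚ} {c : ℚ} (hc : g - c • mono (fun _ => d) ∈ polyLT 1 d) :
    mixed d (g ∘ sumArg d) = c * (d.factorial : ℚ) := by
  have h := mixed_eq_zero (comp_sumArg_mem (r := d) hc)
  have e : (g - c • mono (fun _ : Fin 1 => d)) ∘ sumArg d =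
      g ∘ sumArg d - c • fun n : Fin d → ℕ => (∑ i, (n i : ℚ)) ^ d := by
    funext n
    simp [mono, sumArg]
  rw [e, map_sub, map_smul, mixed_sum_pow, sub_eq_zero] at h
  exact h

theorem scale_mem {e : ℕ} (a : ℕ) {g : (Fin 1 → ℕ) → ℚ} (hg : g ∈ polyLT 1 e) :
    g ∘ (a • ·) ∈ polyLT 1 e := by
  refine comp_mem _ (fun m hm => ?_) hg
  have h : mono m ∘ (fun n : Fin 1 → ℕ => a • n) = ((a : ℚ) ^ m 0) • mono m := by
    funext n
    simp [mono, mul_pow]
  rw [h]
  exact Submodule.smul_mem _ _ (mono_mem hm)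

/-! ## Powers of one module -/

variable {X : Scheme.{u}}

theorem nonempty_tensorPow_add (L : X.Modules) (a : ℕ) : ∀ b : ℕ,
    Nonempty (CohB1.tensorPow L (a + b) ≅ (tF (CohB1.tensorPow L b)).obj (CohB1.tensorPow L a))
  | 0 => ⟨(Euler.tFUnitIso _).symm⟩
  | b + 1 => by
    obtain ⟨e⟩ := nonempty_tensorPow_add L a b
    exact ⟨(tF L).mapIso e ≪≫ OX.tensorAssoc (CohB1.tensorPow L a) (CohB1.tensorPow L b) L⟩

theorem nonempty_tensorPow_mul (L : X.Modules) (m : ℕ) : ∀ a : ℕ,
    Nonempty (CohB1.tensorPow (CohB1.tensorPow L m) a ≅ CohB1.tensorPow L (m * a))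
  | 0 => ⟨Iso.refl _⟩
  | a + 1 => by
    obtain ⟨e⟩ := nonempty_tensorPow_mul L m a
    obtain ⟨e'⟩ := nonempty_tensorPow_add L (m * a) m
    exact ⟨(tF (CohB1.tensorPow L m)).mapIso e ≪≫ e'.symm⟩

theorem nonempty_invPows_const (L : X.Modules) : ∀ (r : ℕ) (n : Fin r → ℕ),
    Nonempty (invPows r (fun _ => L) n ≅ CohB1.tensorPow L (∑ i, n i))
  | 0, n => ⟨Iso.refl _⟩
  | r + 1, n => by
    obtain ⟨e⟩ := nonempty_invPows_const L r (fun i => n i.castSucc)
    obtain ⟨e'⟩ := nonempty_tensorPow_add L (∑ i : Fin r, n i.castSucc) (n (Fin.last r))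
    rw [Fin.sum_univ_castSucc]
    exact ⟨(tF (CohB1.tensorPow L (n (Fin.last r)))).mapIso e ≪≫ e'.symm⟩

variable (k : Type u) [Field k] [X.Over (Spec (CommRingCat.of k))]

theorem phi_const_eq (L F : X.Modules) {r : ℕ} (n : Fin r → ℕ) :
    phi k r (fun _ => L) F n = (Curv2.euler k X ((tF (CohB1.tensorPow L (∑ i, n i))).obj F) : ℚ) := by
  obtain ⟨e⟩ := nonempty_invPows_const L r n
  exact congrArg Int.cast (Euler.euler_of_iso k (((DCoh.tensorBi (X := X)).obj F).mapIso e))

theorem phi_const_comp (L F : X.Modules) (r : ℕ) :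
    phi k r (fun _ => L) F = phi k 1 (fun _ => L) F ∘ sumArg r := by
  funext n
  rw [Function.comp_apply, phi_const_eq, phi_const_eq, Fin.sum_univ_one]
  rfl

theorem phi_const_pow (L F : X.Modules) (m : ℕ) (n : Fin 1 → ℕ) :
    phi k 1 (fun _ => CohB1.tensorPow L m) F n = phi k 1 (fun _ => L) F (m • n) := by
  rw [phi_const_eq, phi_const_eq, Fin.sum_univ_one, Fin.sum_univ_one]
  obtain ⟨e⟩ := nonempty_tensorPow_mul L m (n 0)
  exact congrArg Int.cast (Euler.euler_of_iso k (((DCoh.tensorBi (X := X)).obj F).mapIso e))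

variable [IsProper (X ↘ Spec (CommRingCat.of k))]

theorem mixed_const_pow {L F : X.Modules} (hL : PicF.IsInvertible L) (hF : Coh.IsCoh F) {d : ℕ}
    (hd : DimLT (CohB1.support F) (d + 1)) (m : ℕ) :
    mixed d (phi k d (fun _ => CohB1.tensorPow L m) F) = (m : ℚ) ^ d * mixed d (phi k d (fun _ => L) F) := by
  obtain ⟨c, hc⟩ := exists_lead (phi_mem_polyLT k (r := 1) (L := fun _ => L) (fun _ => hL) (d + 1) F hF hd)
  rw [phi_const_comp k L F d, phi_const_comp k (CohB1.tensorPow L m) F d, mixed_comp_sumArg hc,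
    mixed_comp_sumArg (c := (m : ℚ) ^ d * c)]
  · ring
  have h := scale_mem m hc
  have e : phi k 1 (fun _ => CohB1.tensorPow L m) F - ((m : ℚ) ^ d * c) • mono (fun _ : Fin 1 => d) =
      (phi k 1 (fun _ => L) F - c • mono (fun _ : Fin 1 => d)) ∘ (m • ·) := by
    funext n
    simp only [Pi.sub_apply, Pi.smul_apply, Function.comp_apply, smul_eq_mul, phi_const_pow]
    simp [mono, mul_pow]
    ring
  rw [e]
  exact h

/-! ## Loci of sections -/

omit [X.Over (Spec (CommRingCat.of k))] in
theorem stalk_bijective_of_isIso_restrict {M N : X.Modules} (s : M ⟶ N) (U : X.Opens)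
    [IsIso ((Scheme.Modules.restrictFunctor U.ι).map s)] {x : X} (hx : x ∈ U) :
    Function.Bijective (stalkLin s x) := by
  have hM : IsIso ((Scheme.Modules.restrictFunctor U.ι ⋙ Scheme.Modules.toPresheaf _ ⋙
      TopCat.Presheaf.stalkFunctor _ (⟨x, hx⟩ : U.toScheme)).map s) := by
    rw [Functor.comp_map]
    infer_instance
  haveI : IsIso ((Scheme.Modules.toPresheaf X ⋙ TopCat.Presheaf.stalkFunctor _ x).map s) :=
    (NatIso.isIso_map_iff (Scheme.Modules.restrictStalkNatIso U.ι (⟨x, hx⟩ : U.toScheme)) s).1 hM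
  exact ConcreteCategory.bijective_of_isIso
    ((Scheme.Modules.toPresheaf X ⋙ TopCat.Presheaf.stalkFunctor _ x).map s)

omit [X.Over (Spec (CommRingCat.of k))] in
theorem stalk_bijective_of_mem_genLocus {L : X.Modules} (s : Coh.structureModule X ⟶ L) {x : X}
    (hx : x ∈ CohB1.genLocus L s) : Function.Bijective (stalkLin s x) := by
  obtain ⟨U, hU, hxU⟩ := Opens.mem_sSup.1 hx
  exact @stalk_bijective_of_isIso_restrict X _ _ s U hU x hxU

omit [X.Over (Spec (CommRingCat.of k))] in
theorem le_genLocus {L : X.Modules} (s : Coh.structureModule X ⟶ L) (U : X.Opens)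
    (h : ∀ x ∈ U, Function.Bijective (stalkLin s x)) : U ≤ CohB1.genLocus L s := by
  refine le_sSup (show IsIso ((Scheme.Modules.restrictFunctor U.ι).map s) from ?_)
  refine (OX.isIso_iff _).2 fun y => (ConcreteCategory.isIso_iff_bijective _).2 ?_
  have hM : IsIso ((TopCat.Presheaf.stalkFunctor Ab (U.ι y)).map ((Scheme.Modules.toPresheaf X).map s)) :=
    (ConcreteCategory.isIso_iff_bijective _).2 (h (U.ι y) y.2)
  have : IsIso ((Scheme.Modules.restrictFunctor U.ι ⋙ Scheme.Modules.toPresheaf _ ⋙
      TopCat.Presheaf.stalkFunctor _ y).map s) :=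
    (NatIso.isIso_map_iff (Scheme.Modules.restrictStalkNatIso U.ι y) s).2 hM
  exact ConcreteCategory.bijective_of_isIso ((Scheme.Modules.restrictFunctor U.ι ⋙ Scheme.Modules.toPresheaf _ ⋙
      TopCat.Presheaf.stalkFunctor _ y).map s)

/-! ## Positivity -/

theorem phi_cons_one {e : ℕ} (L : Fin (e + 1) → X.Modules) (F : X.Modules) (n : Fin e → ℕ) :
    phi k (e + 1) L F (Fin.cons 1 n) = phi k e (fun j => L j.succ) ((tF (L 0)).obj F) n := by
  have hc : (Fin.cons 1 n : Fin (e + 1) → ℕ) = Fin.cons 0 n + Pi.single 0 1 := by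
    funext j
    refine Fin.cases ?_ (fun j => ?_) j
    · simp
    · simp [Fin.succ_ne_zero]
  rw [hc, phi_add_single, phi_cons_zero]

variable (d : ℕ)

/-- The induction hypothesis in dimension `d`. -/
def PosHyp : Prop :=
  ∀ (X : Scheme.{u}) [X.Over (Spec (CommRingCat.of k))] [IsProper (X ↘ Spec (CommRingCat.of k))]
    (L : X.Modules), CohB1.IsAmple L → ∀ F : X.Modules, Coh.IsCoh F → DimLT (CohB1.support F) (d + 1) →
      (∃ x ∈ CohB1.support F, IsTop d x) → 0 < mixed d (phi k d (fun _ => L) F)

variable {k d}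

theorem mixed_integral_zero [IsIntegral X] (hd : topologicalKrullDim X ≤ 0) (L : X.Modules) :
    0 < mixed 0 (phi k 0 (fun _ => L) (Coh.structureModule X)) := by
  haveI := Euler.isNoetherian_of_proper (X := X) k
  have hO : Coh.IsCoh (Coh.structureModule X) := Euler.isCoh_of_isInvertible Euler.isInvertible_structure
  have hd' : topologicalKrullDim (Set.univ : Set X) ≤ 0 :=
    (IsHomeomorph.topologicalKrullDim_eq _ (Homeomorph.Set.univ X).isHomeomorph).le.trans hd
  have hcl : ∀ x : X, IsClosed ({x} : Set X) := fun x =>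
    Euler.isClosed_singleton_of_dim_le_zero isClosed_univ hd' (x := x) trivial
  have hfin : (Set.univ : Set X).Finite := Euler.finite_of_closed_points isClosed_univ fun x _ => hcl x
  have h : mixed 0 (phi k 0 (fun _ => L) (Coh.structureModule X)) = phi k 0 (fun _ => L) (Coh.structureModule X) 0 := by
    simp only [mixed, LinearMap.coe_mk, AddHom.coe_mk]
    rw [show (Finset.univ : Finset (Finset (Fin 0))) = {∅} by decide, Finset.sum_singleton]
    simp only [Finset.card_empty, Nat.sub_zero, pow_zero, one_mul]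
    exact congrArg _ (Subsingleton.elim _ _)
  rw [h, phi_zero, Euler.euler_eq_of_finite_support k _ (hfin.subset (Set.subset_univ _)) fun x _ => hcl x]
  haveI := Euler.finiteDimensional_HH k hO 0
  haveI : Nontrivial (Coh.HH X (Coh.structureModule X) 0) := by
    haveI : Nontrivial Γ(Coh.structureModule X, ⊤) := inferInstanceAs (Nontrivial Γ(X, ⊤))
    exact (ProjCoh.H0top (Coh.structureModule X)).toEquiv.nontrivial
  exact_mod_cast Module.finrank_pos (R := k) (M := Coh.HH X (Coh.structureModule X) 0)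

theorem mixed_integral_succ [IsIntegral X] {e : ℕ} (ih : PosHyp.{u} k e)
    (hd : topologicalKrullDim X = ((e + 1 : ℕ) : WithBot ℕ∞)) {L : X.Modules} (hA : CohB1.IsAmple L) :
    0 < mixed (e + 1) (phi k (e + 1) (fun _ => L) (Coh.structureModule X)) := by
  haveI := Euler.isNoetherian_of_proper (X := X) k
  have hO : Coh.IsCoh (Coh.structureModule X) := Euler.isCoh_of_isInvertible Euler.isInvertible_structure
  have hu : DimLT (Set.univ : Set X) (e + 1 + 1) := dimLT_of_dim_le
    ((IsHomeomorph.topologicalKrullDim_eq _ (Homeomorph.Set.univ X).isHomeomorph).le.trans hd.le)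
  let η := genericPoint X
  have htop : IsTop (e + 1) η := by
    show topologicalKrullDim (closure ({η} : Set X)) = _
    rw [(genericPoint_spec X).def]
    exact (IsHomeomorph.topologicalKrullDim_eq _ (Homeomorph.Set.univ X).isHomeomorph).trans hd
  -- a point with `e`-dimensional closure
  obtain ⟨y, hy, hyη⟩ : ∃ y : X, IsTop e y ∧ y ≠ η := by
    obtain ⟨l, -, hl⟩ := htop.exists_series
    have hlen : l.length = e + 1 := le_antisymm (Nat.lt_succ_iff.1 (hu l fun _ => trivial)) hl
    let i : Fin (l.length + 1) := ⟨e, by omega⟩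
    have hlt : l i < l.last := l.strictMono (show e < l.length by omega)
    have hne : l i ≠ η := fun h => hlt.not_ge (h ▸ genericPoint_specializes _)
    refine ⟨l i, isTop_of (dimLT_of_notMem htop.dimLT ?_ ?_) fun h => ?_, hne⟩
    · rw [show closure ({η} : Set X) = Set.univ from (genericPoint_spec X).def]
      exact Set.subset_univ _
    · exact fun h => hne (Specializes.antisymm (specializes_iff_mem_closure.2 h) (genericPoint_specializes _)).eq
    · have := h (l.take i) fun j => specializes_iff_mem_closure.1 (by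
        show l i ⤳ (l.take i) j
        exact l.monotone (show (j : ℕ) ≤ e from Nat.lt_succ_iff.1 j.2))
      simp [i] at this
  let O : X.Opens := ⟨(closure ({y} : Set X))ᶜ, isClosed_closure.isOpen_compl⟩
  have hηO : η ∈ O := fun h =>
    hyη (Specializes.antisymm (specializes_iff_mem_closure.2 h) (genericPoint_specializes _)).eq
  obtain ⟨n, s, hηs, hsO, -⟩ := Ample.exists_affine_genLocus_le hA hηO
  let M := CohB1.tensorPow L (n + 1)
  have hM : PicF.IsInvertible M := Ample.isInvertible_tensorPow hA.1 _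
  have hMA : CohB1.IsAmple M := (Ample.isAmple_tensorPow_iff hA.1 n.succ_pos).1 hA
  have hs0 : s ≠ 0 := fun h => by
    have hb := (stalk_bijective_of_mem_genLocus s hηs).1
    haveI : Nontrivial ((Coh.structureModule X).presheaf.stalk η) :=
      (HomSh.unitStalk (X := X) η).symm.toEquiv.nontrivial
    obtain ⟨v, hv⟩ := exists_ne (0 : (Coh.structureModule X).presheaf.stalk η)
    refine hv (hb ?_)
    subst h
    obtain ⟨U, hU, a, rfl⟩ := TopCat.Presheaf.exists_germ_eq (Coh.structureModule X).presheaf v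
    rw [QCoh.stalkLin_germ, map_zero]
    exact map_zero _
  haveI := Euler.mono_of_ne_zero Euler.isInvertible_structure hM hs0
  let S : ShortComplex X.Modules := ShortComplex.mk s (cokernel.π s) (cokernel.condition s)
  have hS : S.ShortExact :=
    haveI : Mono S.f := ‹Mono s›
    haveI : Epi S.g := inferInstanceAs (Epi (cokernel.π s))
    { exact := ShortComplex.exact_of_g_is_cokernel _ (cokernelIsCokernel _) }
  have hQ : Coh.IsCoh (cokernel s) := QCoh.isCoh_cokernel s hO (Euler.isCoh_of_isInvertible hM)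
  have hQd : DimLT (CohB1.support (cokernel s)) (e + 1) := by
    refine (dimLT_of_notMem htop.dimLT (T := (CohB1.genLocus M s : Set X)ᶜ) ?_ fun h => h hηs).mono fun x hx hxs => ?_
    · rw [show closure ({η} : Set X) = Set.univ from (genericPoint_spec X).def]
      exact Set.subset_univ _
    · exact QCoh.notMem_support_cokernel_of_surjective s (stalk_bijective_of_mem_genLocus s hxs).2 hx
  have hyQ : y ∈ CohB1.support (cokernel s) := by
    by_contra h
    let U : X.Opens := ⟨(CohB1.support (cokernel s))ᶜ, (QCoh.isClosed_support_of_isCoh hQ).isOpen_compl⟩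
    refine hsO (le_genLocus s U (fun x hx => ⟨QCoh.stalkLin_injective s x, ?_⟩) (show y ∈ U from h))
      (subset_closure rfl)
    intro v
    haveI : Subsingleton ((cokernel s).presheaf.stalk x) := QCoh.stalk_subsingleton_of_notMem hx
    have he := (ShortComplex.ShortExact.moduleCat_exact_iff_function_exact _).1 ((OX.shortExact_iff S).1 hS x).exact
    exact (he v).1 (Subsingleton.elim (α := (cokernel s).presheaf.stalk x) _ _)
  have hpos := ih X M hMA (cokernel s) hQ hQd ⟨y, hyQ, hy⟩
  have hadd := phi_additive k (r := e) (L := fun _ => M) (fun _ => hM) hS hO (Euler.isCoh_of_isInvertible hM) hQ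
  have hmix : mixed (e + 1) (phi k (e + 1) (fun _ => M) (Coh.structureModule X)) =
      mixed e (phi k e (fun _ => M) (cokernel s)) := by
    rw [mixed_succ (phi_mem_polyLT k (fun _ => hM) (e + 1 + 1) _ hO (hu.mono fun _ _ => trivial))]
    congr 1
    have h1 : phi k e (fun _ => M) ((tF M).obj (Coh.structureModule X)) = phi k e (fun _ => M) M :=
      phi_of_iso k _ (OX.tensorUnitLeftIso M)
    funext m
    rw [Pi.sub_apply, phi_cons_one, phi_cons_zero, h1]
    have := congrFun hadd m
    simp only [S, Pi.add_apply] at this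
    rw [this, add_sub_cancel_left]
  rw [← hmix, mixed_const_pow k hA.1 hO (hu.mono fun _ _ => trivial)] at hpos
  exact (mul_pos_iff_of_pos_left (pow_pos (by exact_mod_cast n.succ_pos) _)).1 hpos

variable (k) in
/-- The top self-intersection of an ample module is positive on a coherent module of that dimension. -/
theorem mixed_pos : ∀ d : ℕ, PosHyp.{u} k d := by
  intro d
  induction d using Nat.strong_induction_on with
  | _ d ih =>
    intro X _ _ L hA F hF hd hx
    haveI := Euler.isNoetherian_of_proper (X := X) k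
    have hFc := QCoh.isClosed_support_of_isCoh hF
    let L' : Fin d → X.Modules := fun _ => L
    have h := mixed_eq_zero (phi_sub_sum_mem k (L := L') (fun _ => hA.1) hF hd)
    rw [map_sub, sub_eq_zero, map_finsum (mixed d) (finite_support_topTerm (phi k d L') hFc hd subset_rfl)] at h
    have hpt : ∀ x : X, IsTop d x → 0 < mixed d (phi k d L' (ptMod x)) := by
      intro x hxt
      let I := Scheme.IdealSheafData.vanishingIdeal (⟨closure ({x} : Set X), isClosed_closure⟩ : Closeds X)
      letI : I.subscheme.Over (Spec (CommRingCat.of k)) := ⟨I.subschemeι ≫ X ↘ Spec (CommRingCat.of k)⟩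
      haveI : IsProper (I.subscheme ↘ Spec (CommRingCat.of k)) :=
        inferInstanceAs (IsProper (I.subschemeι ≫ X ↘ Spec (CommRingCat.of k)))
      haveI : IsIntegral I.subscheme := isIntegral_pt x
      let LZ := (Scheme.Modules.pullback I.subschemeι).obj L
      have hAZ : CohB1.IsAmple LZ := Ample.isAmple_pullback_of_isAffineHom I.subschemeι hA
      have hphi : phi k d L' (ptMod x) = phi k d (fun _ => LZ) (Coh.structureModule I.subscheme) :=
        funext fun n => (phi_push k I.subschemeι rfl (fun _ => hA.1) n).trans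
          (congrArg Int.cast (Euler.euler_of_iso k (OX.tensorUnitLeftIso _).symm))
      have hdim : topologicalKrullDim I.subscheme = (d : WithBot ℕ∞) := by
        refine (IsHomeomorph.topologicalKrullDim_eq _
          I.subschemeι.isClosedEmbedding.isEmbedding.toHomeomorph.isHomeomorph).trans ?_
        rw [range_pt]
        exact hxt
      rw [hphi]
      cases d with
      | zero => exact mixed_integral_zero (by exact_mod_cast hdim.le) LZ
      | succ e => exact mixed_integral_succ (ih e (Nat.lt_succ_self e)) hdim hAZ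
    show 0 < mixed d (phi k d L' F)
    rw [h]
    obtain ⟨x, hxF, hxt⟩ := hx
    have hnn : ∀ y, 0 ≤ mixed d (topTerm (phi k d L') d F y) := fun y => by
      by_cases hy : IsTop d y
      · rw [topTerm_of _ hy, map_nsmul]; exact nsmul_nonneg (hpt y hy).le _
      · simp [topTerm, hy]
    refine lt_of_lt_of_le ?_ (single_le_finsum x
      ((finite_support_topTerm (phi k d L') hFc hd subset_rfl).subset fun y hy h0 => hy (by simp only; rw [h0, map_zero])) hnn)
    rw [topTerm_of _ hxt, map_nsmul]
    refine nsmul_pos (hpt x hxt) ?_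
    intro h0
    have hne := length_ne_top k hF hd hxt
    rw [mult, ENat.toNat_eq_zero] at h0
    rcases h0 with h0 | h0
    · exact hxF (Module.length_eq_zero_iff.1 h0)
    · exact hne h0

end GrothLib.Snapper
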