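import Groth.Agent.Lib.Snapper.Polynomial
import Groth.Agent.Lib.Euler.Divisor
import Groth.Prelude.Def_FGA

/-!
# Intersection numbers as coefficients of Euler characteristic polynomials
-/

set_option linter.style.haveILetI false

universe u

open CategoryTheory CategoryTheory.Limits AlgebraicGeometry TopologicalSpace

noncomputable section

namespace GrothLib.Snapper

open GrothLib.Euler (tF)

variable {X : Scheme.{u}}

theorem support_quotMod (D : X.IdealSheafData) : CohB1.support (ClSub.quotMod D) ⊆ (D.support : Set X) := by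
  rw [← D.range_subschemeι]
  exact QCoh.support_pushforward_subset_range D.subschemeι _

theorem dimLT_quotMod (D : X.IdealSheafData) {d : ℕ}
    (hD : topologicalKrullDim (D.support : Set X) ≤ (d : WithBot ℕ∞)) :
    DimLT (CohB1.support (ClSub.quotMod D)) (d + 1) :=
  (dimLT_of_dim_le hD).mono (support_quotMod D)

/-- Multi-exponents on the last variables. -/
theorem nonempty_invPows_cons_zero {e : ℕ} (L : Fin (e + 1) → X.Modules) (n : Fin e → ℕ) :
    Nonempty (invPows (e + 1) L (Fin.cons 0 n) ≅ invPows e (fun j => L j.succ) n) := by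
  suffices h : ∀ s : ℕ, ∀ n : Fin e → ℕ, ∑ i, n i = s →
      Nonempty (invPows (e + 1) L (Fin.cons 0 n) ≅ invPows e (fun j => L j.succ) n) from h _ n rfl
  intro s
  induction s with
  | zero =>
    intro n hn
    obtain rfl : n = 0 := funext fun i => by
      have := Finset.single_le_sum (f := n) (fun j _ => Nat.zero_le _) (Finset.mem_univ i)
      simp only [Pi.zero_apply]
      omega
    have h0 : (Fin.cons 0 (0 : Fin e → ℕ) : Fin (e + 1) → ℕ) = 0 := Fin.cons_self_tail (0 : Fin (e + 1) → ℕ)
    rw [h0]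
    exact ⟨(invPows_zero_iso _ L).some ≪≫ (invPows_zero_iso _ _).some.symm⟩
  | succ s ih =>
    intro n hn
    obtain ⟨i, hi⟩ : ∃ i, 0 < n i := by
      by_contra h
      push Not at h
      have : ∑ i, n i = 0 := Finset.sum_eq_zero fun i _ => Nat.le_zero.1 (h i)
      omega
    obtain ⟨m, rfl⟩ : ∃ m, n = m + Pi.single i 1 := ⟨Function.update n i (n i - 1), funext fun j => by
      by_cases hj : j = i
      · subst hj
        simp only [Pi.add_apply, Function.update_self, Pi.single_eq_same]
        omega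
      · simp [hj]⟩
    have hm : ∑ j, m j = s := by
      simp only [Pi.add_apply, Finset.sum_add_distrib, Finset.sum_pi_single', Finset.mem_univ, if_true] at hn
      omega
    have hc : (Fin.cons 0 (m + Pi.single i 1) : Fin (e + 1) → ℕ) = Fin.cons 0 m + Pi.single i.succ 1 := by
      funext j
      refine Fin.cases ?_ (fun j => ?_) j
      · simp [(Fin.succ_ne_zero i).symm]
      · simp [Pi.single_apply]
    rw [hc]
    obtain ⟨a⟩ := nonempty_invPows_add_single (e + 1) L (Fin.cons 0 m) i.succ
    obtain ⟨b⟩ := nonempty_invPows_add_single e (fun j => L j.succ) m i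
    obtain ⟨c⟩ := ih m hm
    exact ⟨a ≪≫ ((DCoh.tensorBi (X := X)).obj (L i.succ)).mapIso c ≪≫ b.symm⟩

theorem mono_comp_cons {e : ℕ} (a : ℕ) (m : Fin (e + 1) → ℕ) :
    mono m ∘ (fun n : Fin e → ℕ => Fin.cons a n) = ((a : ℚ) ^ m 0) • mono (Fin.tail m) := by
  funext n
  simp [mono, Fin.prod_univ_succ, Fin.tail]

/-- Splitting off the first variable of the mixed difference. -/
theorem mixed_succ {e : ℕ} {D : ℕ} {f : (Fin (e + 1) → ℕ) → ℚ} (hf : f ∈ polyLT (e + 1) D) :
    mixed (e + 1) f = mixed e ((fun n => f (Fin.cons 1 n)) - fun n => f (Fin.cons 0 n)) := by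
  let T : ((Fin (e + 1) → ℕ) → ℚ) →ₗ[ℚ] ℚ :=
    (mixed e).comp (LinearMap.funLeft ℚ ℚ (fun n : Fin e → ℕ => (Fin.cons 1 n : Fin (e + 1) → ℕ)) -
      LinearMap.funLeft ℚ ℚ (fun n : Fin e → ℕ => (Fin.cons 0 n : Fin (e + 1) → ℕ)))
  show mixed (e + 1) f = T f
  refine LinearMap.eqOn_span (R := ℚ) (f := mixed (e + 1)) (g := T) ?_ hf
  rintro _ ⟨m, -, rfl⟩
  show mixed (e + 1) (mono m) = mixed e (mono m ∘ _ - mono m ∘ _)
  rw [mono_comp_cons, mono_comp_cons, ← sub_smul, map_smul, mixed_mono, mixed_mono]
  simp only [Nat.cast_one, one_pow, Nat.cast_zero, smul_eq_mul]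
  by_cases h0 : m 0 = 0
  · rw [if_neg (fun h => by have := h 0; omega)]
    simp [h0]
  · simp only [zero_pow h0, sub_zero, one_mul]
    refine if_congr ⟨fun h i => h i.succ, fun h i => Fin.cases (Nat.one_le_iff_ne_zero.2 h0) h i⟩ rfl rfl

variable (k : Type u) [Field k] [X.Over (Spec (CommRingCat.of k))]

theorem phi_cons_zero {e : ℕ} (L : Fin (e + 1) → X.Modules) (F : X.Modules) (n : Fin e → ℕ) :
    phi k (e + 1) L F (Fin.cons 0 n) = phi k e (fun j => L j.succ) F n :=
  congrArg Int.cast (Euler.euler_of_iso k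
    (((DCoh.tensorBi (X := X)).obj F).mapIso (nonempty_invPows_cons_zero L n).some))

variable [IsProper (X ↘ Spec (CommRingCat.of k))]

include k in
theorem isCoh_quotMod (D : X.IdealSheafData) : Coh.IsCoh (ClSub.quotMod D) :=
  haveI := Euler.isNoetherian_of_proper (X := X) k
  QCoh.pushUnit_isCoh D.subschemeι

theorem evalFun_eq_phi {r : ℕ} (L : Fin r → X.Modules) (F : X.Modules) (P : MvPolynomial (Fin r) ℚ)
    (hP : ∀ n : Fin r → ℕ, (Curv2.euler k X (Curv2.tensorPows F r L n) : ℚ) =
      MvPolynomial.eval (fun i => (n i : ℚ)) P) :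
    evalFun P = phi k r L F :=
  funext fun n => by rw [← euler_tensorPows]; exact (hP n).symm

/-- The top coefficient is the mixed difference. -/
theorem coeff_eq_mixed_phi {d : ℕ} {L : Fin d → X.Modules} (hL : ∀ i, PicF.IsInvertible (L i))
    {F : X.Modules} (hF : Coh.IsCoh F) (hd : DimLT (CohB1.support F) (d + 1)) (P : MvPolynomial (Fin d) ℚ)
    (hP : ∀ n : Fin d → ℕ, (Curv2.euler k X (Curv2.tensorPows F d L n) : ℚ) =
      MvPolynomial.eval (fun i => (n i : ℚ)) P) :
    MvPolynomial.coeff (Finsupp.equivFunOnFinite.symm fun _ : Fin d => 1) P = mixed d (phi k d L F) := by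
  have h := evalFun_eq_phi k L F P hP
  rw [coeff_eq_mixed (h ▸ phi_mem_polyLT k hL (d + 1) F hF hd), h]

theorem phi_ptMod {r : ℕ} {L : Fin r → X.Modules} (hL : ∀ i, PicF.IsInvertible (L i)) (ξ : X) (n : Fin r → ℕ) :
    phi k r L (ptMod ξ) n =
      (@Curv2.euler k _
        (Scheme.IdealSheafData.vanishingIdeal (⟨closure ({ξ} : Set X), isClosed_closure⟩ : Closeds X)).subscheme
        ⟨(Scheme.IdealSheafData.vanishingIdeal (⟨closure ({ξ} : Set X), isClosed_closure⟩ : Closeds X)).subschemeι ≫
          (X ↘ (Spec (CommRingCat.of k)))⟩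
        (invPows r (fun i => (Scheme.Modules.pullback
          (Scheme.IdealSheafData.vanishingIdeal (⟨closure ({ξ} : Set X), isClosed_closure⟩ : Closeds X)).subschemeι).obj
            (L i)) n) : ℚ) := by
  let I := Scheme.IdealSheafData.vanishingIdeal (⟨closure ({ξ} : Set X), isClosed_closure⟩ : Closeds X)
  letI : I.subscheme.Over (Spec (CommRingCat.of k)) := ⟨I.subschemeι ≫ X ↘ Spec (CommRingCat.of k)⟩
  exact phi_push k I.subschemeι rfl hL n

/-- `χ` of `E`-twists on a closed subscheme. -/
theorem euler_tF_quotMod (D : X.IdealSheafData) {E : X.Modules} (hE : FlatMod.IsFinLocFree E) :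
    Curv2.euler k X ((tF E).obj (ClSub.quotMod D)) =
      @Curv2.euler k _ D.subscheme ⟨D.subschemeι ≫ (X ↘ (Spec (CommRingCat.of k)))⟩
        ((Scheme.Modules.pullback D.subschemeι).obj E) := by
  letI : D.subscheme.Over (Spec (CommRingCat.of k)) := ⟨D.subschemeι ≫ X ↘ Spec (CommRingCat.of k)⟩
  haveI := ProjFormula.isIso_projHom D.subschemeι hE (Coh.structureModule D.subscheme)
  let E' := (Scheme.Modules.pullback D.subschemeι).obj E
  have e1 : (tF E).obj (ClSub.quotMod D) ≅ (Scheme.Modules.pushforward D.subschemeι).obj E' :=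
    ((OX.tensorBraiding (X := X)).app E).app _ ≪≫
      asIso (ProjFormula.projHom D.subschemeι E (Coh.structureModule D.subscheme)) ≪≫
      (Scheme.Modules.pushforward D.subschemeι).mapIso (Euler.tFUnitIso E')
  haveI : E'.IsQuasicoherent :=
    Euler.isQuasicoherent_of_isFinLocFree (OX.isFinLocFree_pullback D.subschemeι hE)
  rw [Euler.euler_of_iso k e1, euler_pushforward D.subschemeι rfl E']

theorem euler_quotMod (D : X.IdealSheafData) :
    Curv2.euler k X (ClSub.quotMod D) =
      @Curv2.euler k _ D.subscheme ⟨D.subschemeι ≫ (X ↘ (Spec (CommRingCat.of k)))⟩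
        (Coh.structureModule D.subscheme) := by
  letI : D.subscheme.Over (Spec (CommRingCat.of k)) := ⟨D.subschemeι ≫ X ↘ Spec (CommRingCat.of k)⟩
  haveI := Cohom.isQuasicoherent_structureModule D.subscheme
  exact euler_pushforward D.subschemeι rfl (Coh.structureModule D.subscheme)

include k in
/-- An effective Cartier divisor has smaller dimension. -/
theorem dimLT_effCartier {D : X.IdealSheafData} (hD : BlowUp.IsEffCartierIdeal D) {d : ℕ}
    (hX : DimLT (Set.univ : Set X) (d + 1)) : DimLT (D.support : Set X) d := by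
  have := Euler.isNoetherian_of_proper (X := X) k
  intro l hl
  obtain ⟨η, hη, hηy⟩ : ∃ η ∈ genericPoints (X : Type u), η ⤳ l.last :=
    ⟨_, (genericPoints.ofComponent ⟨_, irreducibleComponent_mem_irreducibleComponents l.last⟩).2,
      (genericPoints.isGenericPoint_ofComponent _).specializes mem_irreducibleComponent⟩
  have hne : η ∉ (D.support : Set X) := fun h => Euler.disjoint_genericPoints_of_isEffCartier hD hη h
  have hlast : l.last < η := lt_of_le_not_ge hηy fun h => hne (by
    rw [← (Specializes.antisymm (show l.last ⤳ η from h) hηy).eq]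
    exact hl _)
  have := hX (l.snoc η hlast) fun _ => trivial
  simp at this
  omega

/-- Cutting with an effective Cartier divisor. -/
theorem mixed_effCartier {e : ℕ} (hX : topologicalKrullDim X ≤ ((e + 1 : ℕ) : WithBot ℕ∞)) {D : X.IdealSheafData}
    (hD : BlowUp.IsEffCartierIdeal D) {L : Fin (e + 1) → X.Modules} (hL : ∀ j, PicF.IsInvertible (L j))
    (hLD : ClSub.IsInverseOf (L 0) (ClSub.idealMod D)) :
    mixed (e + 1) (phi k (e + 1) L (Coh.structureModule X)) =
      mixed e (phi k e (fun j => L j.succ) (ClSub.quotMod D)) := by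
  have := Euler.isNoetherian_of_proper (X := X) k
  have hu : DimLT (Set.univ : Set X) (e + 1 + 1) := by
    refine dimLT_of_dim_le ?_
    exact (IsHomeomorph.topologicalKrullDim_eq _ (Homeomorph.Set.univ X).isHomeomorph).le.trans hX
  have hO : Coh.IsCoh (Coh.structureModule X) := Euler.isCoh_of_isInvertible Euler.isInvertible_structure
  have hQ := isCoh_quotMod k D
  have hQd : DimLT (CohB1.support (ClSub.quotMod D)) (e + 1) :=
    (dimLT_effCartier k hD hu).mono (support_quotMod D)
  rw [mixed_succ (phi_mem_polyLT k hL (e + 1 + 1) _ hO (hu.mono fun _ _ => trivial))]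
  let L' : Fin e → X.Modules := fun j => L j.succ
  have hL' : ∀ j, PicF.IsInvertible (L' j) := fun j => hL _
  haveI := Euler.epi_toSubscheme D
  let S := ShortComplex.mk (ClSub.idealModι D) (ClSub.toSubscheme D) (kernel.condition _)
  haveI : Mono S.f := inferInstanceAs (Mono (kernel.ι (ClSub.toSubscheme D)))
  haveI : Epi S.g := Euler.epi_toSubscheme D
  have hS : S.ShortExact := { exact := ShortComplex.exact_of_f_is_kernel _ (kernelIsKernel _) }
  have hI : Coh.IsCoh (ClSub.idealMod D) :=
    Euler.isCoh_of_isInvertible (IdealModSec.isInvertible_of_isEffCartier hD)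
  have hlf := Euler.isFinLocFree_of_isInvertible (hL 0)
  have hadd := phi_additive k hL' (OX.tensor_map_shortExact (OX.flat_of_isFinLocFree hlf) hS)
    (Euler.isCoh_tF hI hlf) (Euler.isCoh_tF hO hlf) (Euler.isCoh_tF hQ hlf)
  simp only [ShortComplex.map_X₁, ShortComplex.map_X₂, ShortComplex.map_X₃, S] at hadd
  obtain ⟨eLD⟩ := hLD
  have e1 : phi k e L' ((tF (L 0)).obj (ClSub.idealMod D)) = phi k e L' (Coh.structureModule X) :=
    phi_of_iso k L' ((((OX.tensorBraiding (X := X)).app (L 0)).app (ClSub.idealMod D)) ≪≫ eLD)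
  have e2 : (fun n => phi k (e + 1) L (Coh.structureModule X) (Fin.cons 1 n)) =
      phi k e L' ((tF (L 0)).obj (Coh.structureModule X)) := funext fun n => by
    have hc : (Fin.cons 1 n : Fin (e + 1) → ℕ) = Fin.cons 0 n + Pi.single 0 1 := by
      funext j
      refine Fin.cases ?_ (fun j => ?_) j
      · simp
      · simp [Fin.succ_ne_zero]
    rw [hc, phi_add_single, phi_cons_zero]
  have e3 : (fun n => phi k (e + 1) L (Coh.structureModule X) (Fin.cons 0 n)) =
      phi k e L' (Coh.structureModule X) := funext fun n => phi_cons_zero k L _ n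
  have hdiff := phi_tF_sub_mem k hL' (hL 0) hQ hQd
  rw [e2, e3, hadd, e1, add_sub_cancel_left, ← sub_eq_zero, ← map_sub]
  exact mixed_eq_zero hdiff

end GrothLib.Snapper
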