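import Groth.Agent.Lib.Cohom.Compare
import Groth.Agent.Lib.Euler.Basic

/-!
# Cohomology along an affine morphism over the base ring, linearly
-/

set_option linter.style.haveILetI false

universe u

open CategoryTheory CategoryTheory.Limits Opposite TopologicalSpace AlgebraicGeometry Abelian

namespace GrothLib.Snapper

open GrothLib.Cohom

theorem HEquivTop_map {T : Type u} [TopologicalSpace T] {F G : AbSheaf T} (φ : F ⟶ G) (n : ℕ)
    (x : Sheaf.H F n) :
    HEquivTop G n (Sheaf.H.map φ n x) = (HEquivTop F n x).comp (Ext.mk₀ φ) (add_zero n) :=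
  (Ext.comp_assoc_of_third_deg_zero (C := AbSheaf T) (Ext.mk₀ freeTopIso.hom) (show Ext.{u} _ F n from x)
    (Ext.mk₀ φ) (zero_add n)).symm

theorem toGlobal_comp {A : Type u} [CommRing A] {X S : Scheme.{u}} (f : X ⟶ S) (q : S ⟶ Spec (CommRingCat.of A))
    (a : A) : Coh.toGlobal (f ≫ q) a = f.appTop (Coh.toGlobal q a) := rfl

theorem smulAb_pushforward {X S : Scheme.{u}} (f : X ⟶ S) (M : X.Modules) (r : Coh.Γtop S) :
    Coh.smulAb ((Scheme.Modules.pushforward f).obj M) r =
      (pushFun f.base).map (Coh.smulAb M (f.appTop r)) := by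
  ext U m
  refine (Coh.smulAb_app _ _ _ _).trans (Eq.trans ?_ (Coh.smulAb_app M _ _ _).symm)
  exact congrArg (fun z => z • (show Γ(M, f ⁻¹ᵁ U.unop) from m))
    (ConcreteCategory.congr_hom (f.naturality (homOfLE (le_top : U.unop ≤ ⊤)).op) r)

variable {A : Type u} [CommRing A] {X S : Scheme.{u}} [X.Over (Spec (CommRingCat.of A))]
  [S.Over (Spec (CommRingCat.of A))]

/-- `H^n(X, M) = H^n(S, f_* M)` linearly over the base, for affine `f`. -/
theorem nonempty_HH_linearEquiv_pushforward (f : X ⟶ S) [IsAffineHom f]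
    (hf : f ≫ S ↘ Spec (CommRingCat.of A) = X ↘ Spec (CommRingCat.of A))
    (M : X.Modules) [M.IsQuasicoherent] (n : ℕ) :
    Nonempty (Coh.HH X M n ≃ₗ[A] Coh.HH S ((Scheme.Modules.pushforward f).obj M) n) := by
  obtain ⟨c⟩ := nonempty_comparison_pushFun f.base (S.isBasis_affineOpens) ⊤ n
  let N := (Scheme.Modules.pushforward f).obj M
  let hM := acyclicOn_of_isAffineHom f M
  let e : Coh.HH X M n ≃+ Coh.HH S N n :=
    (HEquivTop _ n).trans ((c.equiv (Coh.toAb M) hM).trans (HEquivTop _ n).symm)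
  refine ⟨{ e with map_smul' := fun a x => ?_ }⟩
  show e (a • x) = a • e x
  have he : ∀ y, HEquivTop (Coh.toAb N) n (e y) = c.equiv (Coh.toAb M) hM (HEquivTop (Coh.toAb M) n y) := fun y =>
    (HEquivTop _ n).apply_symm_apply _
  apply (HEquivTop (Coh.toAb N) n).injective
  refine (he _).trans ?_
  show c.equiv (Coh.toAb M) hM (HEquivTop _ n
      (Sheaf.H.map (Coh.smulAb M (Coh.toGlobal (X ↘ Spec (CommRingCat.of A)) a)) n x)) =
    HEquivTop _ n (Sheaf.H.map (Coh.smulAb N (Coh.toGlobal (S ↘ Spec (CommRingCat.of A)) a)) n (e x))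
  refine ((congrArg (c.equiv _ hM) (HEquivTop_map _ n x)).trans (c.naturality _ hM hM _)).trans ?_
  refine Eq.trans ?_ (HEquivTop_map _ n (e x)).symm
  rw [he x, smulAb_pushforward f M, ← toGlobal_comp, hf]
  rfl

variable {k : Type u} [Field k] {Z Y : Scheme.{u}} [Z.Over (Spec (CommRingCat.of k))]
  [Y.Over (Spec (CommRingCat.of k))]

/-- The Euler characteristic of a direct image along an affine morphism. -/
theorem euler_pushforward (i : Z ⟶ Y) [IsAffineHom i]
    (hi : i ≫ Y ↘ Spec (CommRingCat.of k) = Z ↘ Spec (CommRingCat.of k))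
    (M : Z.Modules) [M.IsQuasicoherent] :
    Curv2.euler k Y ((Scheme.Modules.pushforward i).obj M) = Curv2.euler k Z M :=
  finsum_congr fun n => by
    obtain ⟨e⟩ := nonempty_HH_linearEquiv_pushforward i hi M n
    rw [e.finrank_eq]

end GrothLib.Snapper
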