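import Groth.Agent.Lib.Snapper.DimLT
import Groth.Agent.Lib.Euler.AmpleComponents
import Groth.Agent.Lib.QCoh.DevissageSummands
import Mathlib.RingTheory.Length
import Mathlib.RingTheory.SimpleModule.Basic

/-!
# An additive function killing small supports is the sum of its values on the top-dimensional pieces
-/

set_option linter.style.haveILetI false

universe u

open CategoryTheory CategoryTheory.Limits AlgebraicGeometry TopologicalSpace

noncomputable section

namespace GrothLib.Snapper

open GrothLib.QCoh (stalkLin)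

variable {X : Scheme.{u}}

/-- The structure sheaf of the reduced closed subscheme `closure {x}`, on `X`. -/
abbrev ptMod (x : X) : X.Modules :=
  ClSub.quotMod (Scheme.IdealSheafData.vanishingIdeal (⟨closure {x}, isClosed_closure⟩ : Closeds X))

/-- The multiplicity of `M` at `x`. -/
def mult (M : X.Modules) (x : X) : ℕ :=
  (Module.length (X.presheaf.stalk x) (M.presheaf.stalk x)).toNat

theorem isIntegral_pt (x : X) :
    IsIntegral (Scheme.IdealSheafData.vanishingIdeal (⟨closure {x}, isClosed_closure⟩ : Closeds X)).subscheme :=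
  Euler.isIntegral_vanishingIdeal _ isIrreducible_singleton.closure

theorem range_pt (x : X) :
    Set.range (Scheme.IdealSheafData.vanishingIdeal (⟨closure {x}, isClosed_closure⟩ : Closeds X)).subschemeι =
      closure {x} :=
  RedSub.range_subschemeι_vanishingIdeal _

theorem isCoh_ptMod [IsNoetherian X] (x : X) : Coh.IsCoh (ptMod x) :=
  QCoh.pushUnit_isCoh _

theorem support_ptMod (x : X) : CohB1.support (ptMod x) ⊆ closure {x} := by
  conv_rhs => rw [← range_pt x]
  exact QCoh.support_pushforward_subset_range _ _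

theorem nonempty_ptMod_stalk_equiv (x : X) :
    Nonempty ((ptMod x).presheaf.stalk x ≃ₗ[X.presheaf.stalk x] IsLocalRing.ResidueField (X.presheaf.stalk x)) := by
  let I := Scheme.IdealSheafData.vanishingIdeal (⟨closure {x}, isClosed_closure⟩ : Closeds X)
  haveI := isIntegral_pt x
  have hgp : I.subschemeι (genericPoint I.subscheme) = x :=
    (inseparable_iff_closure_eq.2
      ((QCoh.closure_singleton_eq_range I.subschemeι).trans (range_pt x))).eq
  have h := QCoh.nonempty_pushUnit_stalk_equiv I.subschemeι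
  rw [hgp] at h
  exact h

theorem length_stalk_add {S : ShortComplex X.Modules} (hS : S.ShortExact) (x : X) :
    Module.length (X.presheaf.stalk x) (S.X₂.presheaf.stalk x) =
      Module.length (X.presheaf.stalk x) (S.X₁.presheaf.stalk x) +
        Module.length (X.presheaf.stalk x) (S.X₃.presheaf.stalk x) := by
  have h := (OX.shortExact_iff S).1 hS x
  exact Module.length_eq_add_of_exact (stalkLin S.f x) (stalkLin S.g x) h.moduleCat_injective_f
    h.moduleCat_surjective_g ((ShortComplex.ShortExact.moduleCat_exact_iff_function_exact _).1 h.exact)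

theorem length_of_notMem {M : X.Modules} {x : X} (h : x ∉ CohB1.support M) :
    Module.length (X.presheaf.stalk x) (M.presheaf.stalk x) = 0 :=
  Module.length_eq_zero_iff.2 (QCoh.stalk_subsingleton_of_notMem h)

theorem mult_of_notMem {M : X.Modules} {x : X} (h : x ∉ CohB1.support M) : mult M x = 0 := by
  rw [mult, length_of_notMem h]; rfl

theorem length_ptMod (x : X) : Module.length (X.presheaf.stalk x) ((ptMod x).presheaf.stalk x) = 1 := by
  obtain ⟨e⟩ := nonempty_ptMod_stalk_equiv x
  rw [e.length_eq, Module.length_eq_one_iff]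
  exact isSimpleModule_iff_quot_maximal.2 ⟨IsLocalRing.maximalIdeal _, inferInstance, ⟨LinearEquiv.refl _ _⟩⟩

variable [IsNoetherian X] {V : Type*} [AddCommGroup V] (φ : X.Modules → V)

/-- The top-dimensional term at `x`. -/
def topTerm (d : ℕ) (M : X.Modules) (x : X) : V :=
  haveI := Classical.propDecidable (IsTop d x)
  if IsTop d x then mult M x • φ (ptMod x) else 0

theorem topTerm_of {d : ℕ} {M : X.Modules} {x : X} (h : IsTop d x) :
    topTerm φ d M x = mult M x • φ (ptMod x) := by
  rw [topTerm, if_pos h]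

theorem topTerm_eq_zero {d : ℕ} {M : X.Modules} {x : X} (h : IsTop d x → x ∉ CohB1.support M) :
    topTerm φ d M x = 0 := by
  rw [topTerm]
  split_ifs with ht
  · rw [mult_of_notMem (h ht), zero_smul]
  · rfl

theorem finite_support_topTerm {d : ℕ} {S : Set X} (hScl : IsClosed S) (hS : DimLT S (d + 1)) {M : X.Modules}
    (hM : CohB1.support M ⊆ S) : (Function.support (topTerm φ d M)).Finite := by
  refine (finite_of_maximal hScl (T := {x | IsTop d x ∧ x ∈ CohB1.support M}) (fun x hx => hM hx.2)
    fun x hx y hy hyx => hx.1.eq_of_specializes hyx (hS.mono (hScl.closure_subset_iff.2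
      (Set.singleton_subset_iff.2 hy)))).subset fun x hx => ?_
  by_contra h
  exact hx (topTerm_eq_zero φ fun ht hx' => h ⟨ht, hx'⟩)

/-- Multiplicities at points with `d`-dimensional closure are finite, and an additive function vanishing
on coherent modules with support of dimension `< d` is the sum of the top-dimensional terms. -/
theorem top_decomposition (hiso : ∀ M N : X.Modules, Nonempty (M ≅ N) → φ M = φ N)
    {d : ℕ} {S : Set X} (hScl : IsClosed S) (hS : DimLT S (d + 1))
    (hadd : ∀ T : ShortComplex X.Modules, T.ShortExact → Coh.IsCoh T.X₁ → Coh.IsCoh T.X₂ → Coh.IsCoh T.X₃ →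
      CohB1.support T.X₂ ⊆ S → φ T.X₂ = φ T.X₁ + φ T.X₃)
    (hvan : ∀ M : X.Modules, Coh.IsCoh M → CohB1.support M ⊆ S → DimLT (CohB1.support M) d → φ M = 0)
    (F : X.Modules) (hF : Coh.IsCoh F) (hFS : CohB1.support F ⊆ S) :
    (∀ x, IsTop d x → Module.length (X.presheaf.stalk x) (F.presheaf.stalk x) ≠ ⊤) ∧
      φ F = ∑ᶠ x : X, topTerm φ d F x := by
  have key : ∀ M : X.Modules, Coh.IsCoh M → CohB1.support M ⊆ S → DimLT (CohB1.support M) d →
      (∀ x, IsTop d x → x ∉ CohB1.support M) := by
    intro M hM hMS hd x hx hxM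
    obtain ⟨l, hl, hle⟩ := hx.exists_series
    have := (hd.mono ((QCoh.isClosed_support_of_isCoh hM).closure_subset_iff.2
      (Set.singleton_subset_iff.2 hxM))) l hl
    omega
  let P : X.Modules → Prop := fun M => Coh.IsCoh M ∧ CohB1.support M ⊆ S ∧
    (∀ x, IsTop d x → Module.length (X.presheaf.stalk x) (M.presheaf.stalk x) ≠ ⊤) ∧
      φ M = ∑ᶠ x : X, topTerm φ d M x
  have hsmall : ∀ M : X.Modules, Coh.IsCoh M → CohB1.support M ⊆ S → DimLT (CohB1.support M) d → P M := by
    intro M hM hMS hd
    have h := key M hM hMS hd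
    refine ⟨hM, hMS, fun x hx => by rw [length_of_notMem (h x hx)]; exact ENat.zero_ne_top, ?_⟩
    rw [hvan M hM hMS hd]
    exact (finsum_eq_zero_of_forall_eq_zero fun x => topTerm_eq_zero φ (h x)).symm
  have hsum : ∀ T : ShortComplex X.Modules, T.ShortExact → CohB1.support T.X₂ ⊆ S →
      CohB1.support T.X₁ ⊆ S → CohB1.support T.X₃ ⊆ S →
      (∀ x, IsTop d x → Module.length (X.presheaf.stalk x) (T.X₂.presheaf.stalk x) ≠ ⊤) →
      (∑ᶠ x : X, topTerm φ d T.X₂ x) = (∑ᶠ x : X, topTerm φ d T.X₁ x) + ∑ᶠ x : X, topTerm φ d T.X₃ x := by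
    intro T hT h2 h1 h3 hfin
    rw [← finsum_add_distrib (finite_support_topTerm φ hScl hS h1) (finite_support_topTerm φ hScl hS h3)]
    refine finsum_congr fun x => ?_
    by_cases hx : IsTop d x
    · have h := length_stalk_add hT x
      have hne := hfin x hx
      rw [h] at hne
      rw [topTerm_of φ hx, topTerm_of φ hx, topTerm_of φ hx, ← add_smul, mult, mult, mult, h,
        ENat.toNat_add (fun h' => hne (by rw [h', top_add])) fun h' => hne (by rw [h', add_top])]
    · simp [topTerm, hx]
  have hP : ∀ M N : X.Modules, Nonempty (M ≅ N) → P M → P N := by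
    rintro M N ⟨e⟩ ⟨hM, hMS, hfin, he⟩
    have hlen : ∀ x, Module.length (X.presheaf.stalk x) (M.presheaf.stalk x) =
        Module.length (X.presheaf.stalk x) (N.presheaf.stalk x) := fun x =>
      (LinearEquiv.length_eq ((OX.stalk x).mapIso e).toLinearEquiv : _)
    refine ⟨QCoh.isCoh_of_iso e hM, (QCoh.support_eq_of_iso e).ge.trans hMS, fun x hx => hlen x ▸ hfin x hx, ?_⟩
    rw [← hiso M N ⟨e⟩, he]
    exact finsum_congr fun x => by
      unfold topTerm mult
      rw [hlen x]
  have h0 : ∀ M : X.Modules, IsZero M → P M := fun M hM => by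
    have hs : CohB1.support M ⊆ ∅ := fun x hx =>
      hx (ModuleCat.isZero_iff_subsingleton.1 ((OX.stalk x).map_isZero hM))
    exact hsmall M (Euler.isCoh_of_isZero hM) (hs.trans (Set.empty_subset _)) fun l hl => (hs (hl 0)).elim
  suffices P F from ⟨this.2.2.1, this.2.2.2⟩
  refine QCoh.devissage P hP h0 (fun T hT a b c => ⟨?_, ?_, ?_⟩) S ?_ F hF hFS
  · rintro ⟨-, hs₁, hf₁, e₁⟩ ⟨-, hs₂, hf₂, e₂⟩
    have hs₃ : CohB1.support T.X₃ ⊆ S := (have := hT.epi_g; QCoh.support_subset_of_epi T.g).trans hs₂
    refine ⟨c, hs₃, fun x hx => fun h => hf₂ x hx (by rw [length_stalk_add hT x, h, add_top]), ?_⟩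
    have h := hadd T hT a b c hs₂
    rw [e₂, hsum T hT hs₂ hs₁ hs₃ hf₂, e₁] at h
    exact (add_left_cancel h).symm
  · rintro ⟨-, hs₁, hf₁, e₁⟩ ⟨-, hs₃, hf₃, e₃⟩
    have hs₂ : CohB1.support T.X₂ ⊆ S := (QCoh.support_subset_union hT).trans (Set.union_subset hs₁ hs₃)
    have hf₂ : ∀ x, IsTop d x → Module.length (X.presheaf.stalk x) (T.X₂.presheaf.stalk x) ≠ ⊤ := fun x hx => by
      rw [length_stalk_add hT x]
      exact WithTop.add_ne_top.2 ⟨hf₁ x hx, hf₃ x hx⟩
    refine ⟨b, hs₂, hf₂, ?_⟩
    rw [hadd T hT a b c hs₂, hsum T hT hs₂ hs₁ hs₃ hf₂, e₁, e₃]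
  · rintro ⟨-, hs₂, hf₂, e₂⟩ ⟨-, hs₃, hf₃, e₃⟩
    have hs₁ : CohB1.support T.X₁ ⊆ S := (have := hT.mono_f; QCoh.support_subset_of_mono T.f).trans hs₂
    refine ⟨a, hs₁, fun x hx => fun h => hf₂ x hx (by rw [length_stalk_add hT x, h, top_add]), ?_⟩
    have h := hadd T hT a b c hs₂
    rw [e₂, hsum T hT hs₂ hs₁ hs₃ hf₂, e₃] at h
    exact (add_right_cancel h).symm
  · intro Z i _ _ hiS
    let η := i (genericPoint Z)
    have hcl : closure ({η} : Set X) = Set.range i := QCoh.closure_singleton_eq_range i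
    refine ⟨ptMod η, isCoh_ptMod η, (support_ptMod η).trans hcl.le, nonempty_ptMod_stalk_equiv η, ?_⟩
    have hsub : CohB1.support (ptMod η) ⊆ S := ((support_ptMod η).trans hcl.le).trans hiS
    by_cases hd : DimLT (closure ({η} : Set X)) d
    · exact hsmall _ (isCoh_ptMod η) hsub (hd.mono (support_ptMod η))
    · have hη : IsTop d η := isTop_of (hS.mono (hcl.le.trans hiS)) hd
      have hz : ∀ x, IsTop d x → x ≠ η → x ∉ CohB1.support (ptMod η) := fun x hx hne hxs =>
        hne (hx.eq_of_specializes (specializes_iff_mem_closure.2 (support_ptMod η hxs)) hη.dimLT).symm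
      refine ⟨isCoh_ptMod η, hsub, fun x hx => ?_, ?_⟩
      · by_cases he : x = η
        · subst he; rw [length_ptMod]; exact ENat.one_ne_top
        · rw [length_of_notMem (hz x hx he)]; exact ENat.zero_ne_top
      · rw [finsum_eq_single _ η fun x hne => topTerm_eq_zero φ fun hx => hz x hx hne, topTerm_of φ hη,
          mult, length_ptMod]
        simp

end GrothLib.Snapper
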