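import Groth.Agent.Lib.Snapper.Positive

/-!
# The growth of higher cohomology of powers of an ample invertible module
-/

set_option linter.style.haveILetI false

universe u

open CategoryTheory CategoryTheory.Limits AlgebraicGeometry TopologicalSpace

noncomputable section

namespace GrothLib.Snapper

open GrothLib.Euler (tF)
open GrothLib.QCoh (stalkLin)

variable {X : Scheme.{u}} (k : Type u) [Field k] [X.Over (Spec (CommRingCat.of k))]

/-- The total dimension of the cohomology in positive degrees. -/
def hpos (F : X.Modules) : ℕ := ∑ᶠ i : ℕ, Module.finrank k (Coh.HH X F (i + 1))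

theorem hpos_eq_sum {F : X.Modules} {N : ℕ} (h : ∀ i, N ≤ i → Subsingleton (Coh.HH X F i)) :
    hpos k F = ∑ i ∈ Finset.range N, Module.finrank k (Coh.HH X F (i + 1)) := by
  refine finsum_eq_sum_of_support_subset _ fun i hi => ?_
  rw [Finset.coe_range, Set.mem_Iio]
  by_contra hle
  haveI := h (i + 1) (by omega)
  exact hi Module.finrank_zero_of_subsingleton

theorem hpos_of_iso {F G : X.Modules} (e : F ≅ G) : hpos k F = hpos k G :=
  finsum_congr fun i => (Euler.hhEquiv (A := k) e (i + 1)).finrank_eq

variable [IsProper (X ↘ Spec (CommRingCat.of k))]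

theorem exact_finrank_le {A B C : Type u} [AddCommGroup A] [Module k A] [AddCommGroup B] [Module k B]
    [AddCommGroup C] [Module k C] [FiniteDimensional k A] [FiniteDimensional k B] [FiniteDimensional k C]
    {f : A →ₗ[k] B} {g : B →ₗ[k] C} (h : Function.Exact f g) :
    Module.finrank k B ≤ Module.finrank k A + Module.finrank k C := by
  rw [Euler.finrank_eq_add_of_exact h]
  exact Nat.add_le_add (LinearMap.finrank_range_le f) (Submodule.finrank_le _)

theorem hpos_X₂_le {S : ShortComplex X.Modules} (hS : S.ShortExact) (h₁ : Coh.IsCoh S.X₁)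
    (h₂ : Coh.IsCoh S.X₂) (h₃ : Coh.IsCoh S.X₃) : hpos k S.X₂ ≤ hpos k S.X₁ + hpos k S.X₃ := by
  obtain ⟨N, hN⟩ := Euler.exists_bound (X := X) k
  haveI := h₁.1
  haveI := h₂.1
  haveI := h₃.1
  haveI := fun n => Euler.finiteDimensional_HH k h₁ n
  haveI := fun n => Euler.finiteDimensional_HH k h₂ n
  haveI := fun n => Euler.finiteDimensional_HH k h₃ n
  rw [hpos_eq_sum k (hN S.X₁), hpos_eq_sum k (hN S.X₂), hpos_eq_sum k (hN S.X₃), ← Finset.sum_add_distrib]
  exact Finset.sum_le_sum fun i _ => exact_finrank_le k (Cohom.exact₂ hS (i + 1))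

theorem hpos_X₃_le {S : ShortComplex X.Modules} (hS : S.ShortExact) (h₁ : Coh.IsCoh S.X₁)
    (h₂ : Coh.IsCoh S.X₂) (h₃ : Coh.IsCoh S.X₃) : hpos k S.X₃ ≤ hpos k S.X₂ + hpos k S.X₁ := by
  obtain ⟨N, hN⟩ := Euler.exists_bound (X := X) k
  haveI := h₁.1
  haveI := h₂.1
  haveI := h₃.1
  haveI := fun n => Euler.finiteDimensional_HH k h₁ n
  haveI := fun n => Euler.finiteDimensional_HH k h₂ n
  haveI := fun n => Euler.finiteDimensional_HH k h₃ n
  rw [hpos_eq_sum k (N := N + 1) (fun i hi => hN S.X₁ i (by omega)), hpos_eq_sum k (hN S.X₂),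
    hpos_eq_sum k (hN S.X₃), Finset.sum_range_succ']
  refine le_trans ?_ (Nat.add_le_add_left (Nat.le_add_right _ _) _)
  rw [← Finset.sum_add_distrib]
  exact Finset.sum_le_sum fun i _ => exact_finrank_le k (Cohom.exact₃ hS (i + 1))

include k in
theorem hpos_eq_zero_of_dimLT_one {F : X.Modules} (hF : Coh.IsCoh F) (hd : DimLT (CohB1.support F) 1) :
    hpos k F = 0 := by
  haveI := Euler.isNoetherian_of_proper (X := X) k
  have hcl := QCoh.isClosed_support_of_isCoh hF
  have h0 : topologicalKrullDim (CohB1.support F) ≤ 0 := by exact_mod_cast dim_le_of_dimLT hcl hd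
  have hp := fun x hx => Euler.isClosed_singleton_of_dim_le_zero hcl h0 (x := x) hx
  have hfin := Euler.finite_of_closed_points hcl hp
  refine finsum_eq_zero_of_forall_eq_zero fun i => ?_
  haveI := Euler.subsingleton_HH_of_finite_support F hfin hp (i + 1) (by omega)
  exact Module.finrank_zero_of_subsingleton

omit [X.Over (Spec (CommRingCat.of k))] in
/-- A function of degree `< d` is `O((n + 1)^{d-1})`. -/
theorem exists_abs_le_of_mem {d : ℕ} {f : (Fin 1 → ℕ) → ℚ} (hf : f ∈ polyLT 1 d) :
    ∃ C : ℚ, ∀ n : ℕ, |f (fun _ => n)| ≤ C * ((n : ℚ) + 1) ^ (d - 1) := by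
  induction hf using Submodule.span_induction with
  | mem g hg =>
    obtain ⟨m, hm, rfl⟩ := hg
    refine ⟨1, fun n => ?_⟩
    have hm' : m 0 < d := by simpa using hm
    simp only [mono, Fin.prod_univ_one, one_mul]
    rw [abs_of_nonneg (pow_nonneg (Nat.cast_nonneg n) _)]
    exact le_trans (pow_le_pow_left₀ (Nat.cast_nonneg n) (by linarith) _)
      (pow_le_pow_right₀ (le_add_of_nonneg_left (Nat.cast_nonneg n)) (by omega))
  | zero => exact ⟨0, fun n => by simp⟩
  | add f g _ _ hf hg =>
    obtain ⟨A, hA⟩ := hf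
    obtain ⟨B, hB⟩ := hg
    exact ⟨A + B, fun n => (abs_add_le _ _).trans (by rw [add_mul]; exact add_le_add (hA n) (hB n))⟩
  | smul a f _ hf =>
    obtain ⟨A, hA⟩ := hf
    exact ⟨|a| * A, fun n => by
      rw [Pi.smul_apply, smul_eq_mul, abs_mul, mul_assoc]
      exact mul_le_mul_of_nonneg_left (hA n) (abs_nonneg _)⟩

/-- Growth of the higher cohomology of twists. -/
def Growth (L F : X.Modules) (e : ℕ) : Prop :=
  ∃ C : ℕ, ∀ n : ℕ, hpos k ((tF (CohB1.tensorPow L n)).obj F) ≤ C * (n + 1) ^ e

variable {k}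

theorem growth_mono {L F : X.Modules} {e e' : ℕ} (he : e ≤ e') (h : Growth k L F e) : Growth k L F e' := by
  obtain ⟨C, hC⟩ := h
  exact ⟨C, fun n => (hC n).trans (Nat.mul_le_mul_left C (Nat.pow_le_pow_right (Nat.succ_pos n) he))⟩

variable (k) in
include k in
theorem isCoh_twist {L F : X.Modules} (hL : PicF.IsInvertible L) (hF : Coh.IsCoh F) (n : ℕ) :
    Coh.IsCoh ((tF (CohB1.tensorPow L n)).obj F) := by
  haveI := Euler.isNoetherian_of_proper (X := X) k
  exact Euler.isCoh_tF hF (Euler.isFinLocFree_of_isInvertible (Ample.isInvertible_tensorPow hL n))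

theorem shortExact_twist {L : X.Modules} (hL : PicF.IsInvertible L) (n : ℕ) {S : ShortComplex X.Modules}
    (hS : S.ShortExact) : (S.map (tF (CohB1.tensorPow L n))).ShortExact :=
  OX.tensor_map_shortExact
    (OX.flat_of_isFinLocFree (Euler.isFinLocFree_of_isInvertible (Ample.isInvertible_tensorPow hL n))) hS

theorem support_twist_subset {L F : X.Modules} (hL : PicF.IsInvertible L) (n : ℕ) :
    CohB1.support ((tF (CohB1.tensorPow L n)).obj F) ⊆ CohB1.support F :=
  Euler.support_tF_subset (Euler.isFinLocFreeOfRank_one' (Ample.isInvertible_tensorPow hL n))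

/-- Iterating `h(n + m) ≤ h(n) + C (n + 1)^e`. -/
theorem le_of_step {h : ℕ → ℕ} {m C e : ℕ} (hm : 0 < m) (hstep : ∀ n, h (n + m) ≤ h n + C * (n + 1) ^ e) :
    ∃ A, ∀ n, h n ≤ A * (n + 1) ^ (e + 1) := by
  refine ⟨C + ∑ r ∈ Finset.range m, h r, fun n => ?_⟩
  induction n using Nat.strong_induction_on with
  | _ n ih =>
    set A := C + ∑ r ∈ Finset.range m, h r with hA
    by_cases hn : n < m
    · have h1 : h n ≤ A := le_trans (Finset.single_le_sum (fun r _ => Nat.zero_le (h r)) (Finset.mem_range.2 hn))
        (Nat.le_add_left _ _)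
      exact h1.trans (Nat.le_mul_of_pos_right _ (pow_pos n.succ_pos _))
    · obtain ⟨j, rfl⟩ : ∃ j, n = j + m := ⟨n - m, by omega⟩
      refine (hstep j).trans ((Nat.add_le_add (ih j (by omega))
        (Nat.mul_le_mul_right _ (show C ≤ A by omega))).trans ?_)
      rw [← Nat.mul_add]
      refine Nat.mul_le_mul_left _ ?_
      calc (j + 1) ^ (e + 1) + (j + 1) ^ e = (j + 1) ^ e * (j + 2) := by ring
        _ ≤ (j + m + 1) ^ e * (j + m + 1) :=
            Nat.mul_le_mul (Nat.pow_le_pow_left (by omega) e) (by omega)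
        _ = (j + m + 1) ^ (e + 1) := by ring

/-- A periodically non-increasing function is bounded. -/
theorem le_of_step_zero {h : ℕ → ℕ} {m : ℕ} (hm : 0 < m) (hstep : ∀ n, h (n + m) ≤ h n) : ∃ A, ∀ n, h n ≤ A := by
  refine ⟨∑ r ∈ Finset.range m, h r, fun n => ?_⟩
  induction n using Nat.strong_induction_on with
  | _ n ih =>
    by_cases hn : n < m
    · exact Finset.single_le_sum (fun r _ => Nat.zero_le (h r)) (Finset.mem_range.2 hn)
    · obtain ⟨j, rfl⟩ : ∃ j, n = j + m := ⟨n - m, by omega⟩
      exact (hstep j).trans (ih j (by omega))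

variable (k) in
include k in
/-- The higher cohomology of the twists of a coherent module with `d`-dimensional support is `O(n^{d-1})`. -/
theorem growth_hpos {L : X.Modules} (hA : CohB1.IsAmple L) : ∀ (d : ℕ) (F : X.Modules), Coh.IsCoh F →
    DimLT (CohB1.support F) (d + 1) → Growth k L F (d - 1) := by
  haveI := Euler.isNoetherian_of_proper (X := X) k
  have hL := hA.1
  intro d
  induction d with
  | zero =>
    intro F hF hd
    exact ⟨0, fun n => le_of_eq ((hpos_eq_zero_of_dimLT_one k (isCoh_twist k hL hF n)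
      (hd.mono (support_twist_subset hL n))).trans (by simp))⟩
  | succ d ih =>
    intro F hF hd
    refine QCoh.coh_induction (fun M => Growth k L M (d + 1 - 1)) ?_ ?_ ?_ F hF ?_
    · rintro M N ⟨e⟩ ⟨C, hC⟩
      exact ⟨C, fun n => (hpos_of_iso k ((tF _).mapIso e)).symm.le.trans (hC n)⟩
    · intro M hM
      refine ⟨0, fun n => le_of_eq ((finsum_eq_zero_of_forall_eq_zero fun i => ?_).trans (zero_mul _).symm)⟩
      haveI := Cohom.subsingleton_HH_of_isZero ((tF (CohB1.tensorPow L n)).map_isZero hM) (i + 1)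
      exact Module.finrank_zero_of_subsingleton
    · rintro S hS a b c ⟨C₁, h₁⟩ ⟨C₃, h₃⟩
      refine ⟨C₁ + C₃, fun n => ?_⟩
      refine (hpos_X₂_le k (shortExact_twist hL n hS) (isCoh_twist k hL a n) (isCoh_twist k hL b n)
        (isCoh_twist k hL c n)).trans ?_
      rw [Nat.add_mul]
      exact Nat.add_le_add (h₁ n) (h₃ n)
    · intro Z i hi hZ N ι hι hN hN0 hsub
      let P := (Coh.push i).obj N
      have hP : Coh.IsCoh P := by
        haveI := hN.1
        haveI : IsLocallyNoetherian Z := LocallyOfFiniteType.isLocallyNoetherian i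
        exact ⟨QCoh.isQuasicoherent_pushforward i N, QCoh.isFiniteType_pushforward i N hN.2⟩
      have hPd : DimLT (CohB1.support P) (d + 1 + 1) := hd.mono hsub
      by_cases hsmall : DimLT (CohB1.support P) (d + 1)
      · exact growth_mono (by omega) (ih P hP hsmall)
      let η := i (genericPoint Z)
      have hcl : closure ({η} : Set X) = Set.range i := QCoh.closure_singleton_eq_range i
      have hPr : CohB1.support P ⊆ closure {η} := hcl ▸ QCoh.support_pushforward_subset_range i N
      have hη : DimLT (closure ({η} : Set X)) (d + 1 + 1) := hPd.mono ((QCoh.isClosed_support_of_isCoh hP).closure_subset_iff.2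
        (Set.singleton_subset_iff.2 (QCoh.genericPoint_mem_support_push i N ι hN0)))
      obtain ⟨m, s, hηs, -, -⟩ := Ample.exists_affine_genLocus_le hA (O := ⊤) (p := η) trivial
      let M := CohB1.tensorPow L (m + 1)
      have hM : PicF.IsInvertible M := Ample.isInvertible_tensorPow hL _
      let μ : P ⟶ (tF M).obj P :=
        (Euler.tFUnitIso P).inv ≫ ((DCoh.tensorBi (X := X)).obj P).map s
      have hM' : Coh.IsCoh ((tF M).obj P) := Euler.isCoh_tF hP (Euler.isFinLocFree_of_isInvertible hM)
      have hbij : ∀ x ∈ CohB1.genLocus M s, Function.Bijective (stalkLin μ x) := by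
        intro x hx
        obtain ⟨U, hU, hxU⟩ := Opens.mem_sSup.1 hx
        suffices h : ∀ U : X.Opens, IsIso ((Scheme.Modules.restrictFunctor U.ι).map s) → x ∈ U →
            Function.Bijective (stalkLin μ x) from h U hU hxU
        intro U hU hxU
        haveI : IsIso ((Scheme.Modules.pullback U.ι).map s) :=
          (NatIso.isIso_map_iff (Scheme.Modules.restrictFunctorIsoPullback U.ι) s).1 hU
        haveI : IsIso ((Scheme.Modules.pullback U.ι).map (((DCoh.tensorBi (X := X)).obj P).map s)) := by
          have h : (Scheme.Modules.pullback U.ι).map (((DCoh.tensorBi (X := X)).obj P).map s) ≫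
              (OX.pullTensorIso U.ι P M).hom = (OX.pullTensorIso U.ι P _).hom ≫
              ((DCoh.tensorBi (X := U.toScheme)).obj _).map ((Scheme.Modules.pullback U.ι).map s) :=
            OX.pullTensorIso_natural₂ U.ι P s
          rw [← isIso_comp_right_iff _ (OX.pullTensorIso U.ι P M).hom, h]
          infer_instance
        haveI : IsIso ((Scheme.Modules.restrictFunctor U.ι).map μ) := by
          rw [NatIso.isIso_map_iff (Scheme.Modules.restrictFunctorIsoPullback U.ι), Functor.map_comp]
          infer_instance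
        exact stalk_bijective_of_isIso_restrict μ U hxU
      let T : Set X := closure {η} ∩ (CohB1.genLocus M s : Set X)ᶜ
      have hT : DimLT T (d + 1) := dimLT_of_notMem hη Set.inter_subset_left fun h => h.2 hηs
      have hPM : CohB1.support ((tF M).obj P) ⊆ closure {η} :=
        (Euler.support_tF_subset (Euler.isFinLocFreeOfRank_one' hM)).trans hPr
      let I := Abelian.image μ
      have hK := QCoh.isCoh_kernel μ hP hM'
      have hQ := QCoh.isCoh_cokernel μ hP hM'
      have hI : Coh.IsCoh I := QCoh.isCoh_kernel _ hM' hQ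
      obtain ⟨CK, hCK⟩ := ih (kernel μ) hK (hT.mono fun x hx => ⟨hPr (QCoh.support_subset_of_mono (kernel.ι μ) hx),
        fun hxs => QCoh.notMem_support_kernel_of_injective μ (hbij x hxs).1 hx⟩)
      obtain ⟨CQ, hCQ⟩ := ih (cokernel μ) hQ (hT.mono fun x hx => ⟨hPM (QCoh.support_subset_of_epi (cokernel.π μ) hx),
        fun hxs => QCoh.notMem_support_cokernel_of_surjective μ (hbij x hxs).2 hx⟩)
      have hstep : ∀ n, hpos k ((tF (CohB1.tensorPow L (n + (m + 1)))).obj P) ≤
          hpos k ((tF (CohB1.tensorPow L n)).obj P) + (CK + CQ) * (n + 1) ^ (d - 1) := by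
        intro n
        obtain ⟨e⟩ := nonempty_tensorPow_add L (m + 1) n
        have e1 : (tF (CohB1.tensorPow L (n + (m + 1)))).obj P ≅
            (tF (CohB1.tensorPow L n)).obj ((tF M).obj P) :=
          ((DCoh.tensorBi (X := X)).obj P).mapIso ((eqToIso (by rw [add_comm])) ≪≫ e) ≪≫
            (OX.tensorAssoc P M (CohB1.tensorPow L n)).symm
        rw [hpos_of_iso k e1]
        have hT2 := hpos_X₂_le k (shortExact_twist hL n (Euler.imageSeq_shortExact μ)) (isCoh_twist k hL hI n)
          (isCoh_twist k hL hM' n) (isCoh_twist k hL hQ n)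
        have hT1 := hpos_X₃_le k (shortExact_twist hL n (Euler.kernelSeq_shortExact μ)) (isCoh_twist k hL hK n)
          (isCoh_twist k hL hP n) (isCoh_twist k hL hI n)
        simp only [ShortComplex.map_X₁, ShortComplex.map_X₂, ShortComplex.map_X₃] at hT1 hT2
        have := hCK n
        have := hCQ n
        rw [Nat.add_mul]
        omega
      cases d with
      | zero =>
        have hz : ∀ G : X.Modules, Coh.IsCoh G → DimLT (CohB1.support G) 1 → ∀ n,
            hpos k ((tF (CohB1.tensorPow L n)).obj G) = 0 := fun G hG hGd n =>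
          hpos_eq_zero_of_dimLT_one k (isCoh_twist k hL hG n) (hGd.mono (support_twist_subset hL n))
        have hstep' : ∀ n, hpos k ((tF (CohB1.tensorPow L (n + (m + 1)))).obj P) ≤
            hpos k ((tF (CohB1.tensorPow L n)).obj P) := fun n => by
          obtain ⟨e⟩ := nonempty_tensorPow_add L (m + 1) n
          have e1 : (tF (CohB1.tensorPow L (n + (m + 1)))).obj P ≅
              (tF (CohB1.tensorPow L n)).obj ((tF M).obj P) :=
            ((DCoh.tensorBi (X := X)).obj P).mapIso ((eqToIso (by rw [add_comm])) ≪≫ e) ≪≫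
              (OX.tensorAssoc P M (CohB1.tensorPow L n)).symm
          rw [hpos_of_iso k e1]
          have hT2 := hpos_X₂_le k (shortExact_twist hL n (Euler.imageSeq_shortExact μ)) (isCoh_twist k hL hI n)
            (isCoh_twist k hL hM' n) (isCoh_twist k hL hQ n)
          have hT1 := hpos_X₃_le k (shortExact_twist hL n (Euler.kernelSeq_shortExact μ)) (isCoh_twist k hL hK n)
            (isCoh_twist k hL hP n) (isCoh_twist k hL hI n)
          simp only [ShortComplex.map_X₁, ShortComplex.map_X₂, ShortComplex.map_X₃] at hT1 hT2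
          have := hz (kernel μ) hK (hT.mono fun x hx => ⟨hPr (QCoh.support_subset_of_mono (kernel.ι μ) hx),
            fun hxs => QCoh.notMem_support_kernel_of_injective μ (hbij x hxs).1 hx⟩) n
          have := hz (cokernel μ) hQ (hT.mono fun x hx => ⟨hPM (QCoh.support_subset_of_epi (cokernel.π μ) hx),
            fun hxs => QCoh.notMem_support_cokernel_of_surjective μ (hbij x hxs).2 hx⟩) n
          omega
        obtain ⟨A, hA'⟩ := le_of_step_zero (h := fun n => hpos k ((tF (CohB1.tensorPow L n)).obj P))
          m.succ_pos hstep'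
        exact ⟨A, fun n => by simpa using hA' n⟩
      | succ e =>
        exact le_of_step (h := fun n => hpos k ((tF (CohB1.tensorPow L n)).obj P)) m.succ_pos hstep

end GrothLib.Snapper
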