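import Groth.Agent.Lib.NegTwist.Avoid
import Groth.Agent.Lib.Kodaira.Bound
import Groth.Agent.Lib.WeakAss.Basic
import Groth.Agent.Lib.CMReg.NegGrowth

/-!
# Injective twists with small cokernel in every large degree
-/

set_option autoImplicit false
set_option linter.all false
set_option backward.isDefEq.respectTransparency false

universe u

open CategoryTheory CategoryTheory.Limits AlgebraicGeometry TopologicalSpace

noncomputable section

namespace GrothLib.Snapper

open GrothLib.Ample (Cocycle)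
open GrothLib.Euler (tF)

variable {X : Scheme.{u}}

/-- In every large degree some section is nonzero at a given point. -/
theorem exists_sect_mem [CompactSpace X] (c : Cocycle X) (hc : c.IsAmp) :
    ∃ j₀ : ℕ, ∀ j, j₀ ≤ j → ∀ x : X, ∃ a : c.sect j ⊤, x ∈ c.locus a := by
  have hA : CohB1.IsAmple (c.twist 1) := (c.isAmple_iff (Iso.refl _)).2 ⟨inferInstance, hc⟩
  obtain ⟨j₀, hj₀⟩ := Kodaira.exists_hom_isoOn hA Euler.isInvertible_structure
  refine ⟨j₀, fun j hj x => ?_⟩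
  obtain ⟨U, σ, hxU, hσ⟩ := hj₀ j hj x
  obtain ⟨d⟩ := c.nonempty_tensorPow_iso (Iso.refl (c.twist 1)) j
  obtain ⟨a, ha⟩ := c.exists_sect_of_section d σ
  refine ⟨a, ha ▸ Opens.mem_sSup.2 ⟨U, ?_, hxU⟩⟩
  exact (NatIso.isIso_map_iff (Scheme.Modules.restrictFunctorIsoPullback U.ι) σ).2 hσ

/-- In every large degree some section is nonzero at finitely many given points. -/
theorem exists_sect_all [CompactSpace X] (c : Cocycle X) (hc : c.IsAmp) {T : Set X} (hT : T.Finite) :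
    ∃ m₀ : ℕ, ∀ m, m₀ ≤ m → ∃ v : c.sect m ⊤, ∀ η ∈ T, η ∈ c.locus v := by
  classical
  obtain ⟨j₀, hj₀⟩ := exists_sect_mem c hc
  let P := hT.toFinset.filter fun η => ∀ η' ∈ T, η ⤳ η' → η' = η
  have hP : ∀ η, η ∈ T → ∃ π ∈ P, η ⤳ π := by
    intro η hη
    obtain ⟨π, hπ, hmin⟩ := (hT.toFinset.filter fun z => η ⤳ z).exists_min_image
      (fun x => (hT.toFinset.filter fun z => x ⤳ z).card)
      ⟨η, Finset.mem_filter.2 ⟨hT.mem_toFinset.2 hη, specializes_rfl⟩⟩
    obtain ⟨hπT, hηπ⟩ := Finset.mem_filter.1 hπ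
    refine ⟨π, Finset.mem_filter.2 ⟨hπT, fun z hz hπz => ?_⟩, hηπ⟩
    by_contra hne
    have hle := hmin z (Finset.mem_filter.2 ⟨hT.mem_toFinset.2 hz, hηπ.trans hπz⟩)
    refine absurd hle (not_le.2 (Finset.card_lt_card ⟨fun y hy => ?_, fun hsub => hne ?_⟩))
    · simp only [Finset.mem_filter] at hy ⊢
      exact ⟨hy.1, hπz.trans hy.2⟩
    · have := Finset.mem_filter.1 (hsub (Finset.mem_filter.2 ⟨hπT, specializes_rfl⟩))
      exact (this.2.antisymm hπz).eq
  have hPT : ∀ η ∈ P, η ∈ T := fun η hη => hT.mem_toFinset.1 (Finset.mem_filter.1 hη).1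
  have hw : ∀ η ∈ P, ∃ (e : ℕ) (w : c.sect (e + 1) ⊤), η ∈ c.locus w ∧
      ∀ η' ∈ P, η' ≠ η → η' ∉ c.locus w := by
    intro η hη
    let C : Set X := ⋃ η' ∈ P.erase η, closure {η'}
    have hC : IsClosed C := isClosed_biUnion_finset fun _ _ => isClosed_closure
    have hηC : η ∉ C := fun hmem => by
      obtain ⟨η', hη', hcl⟩ := Set.mem_iUnion₂.1 hmem
      obtain ⟨hne, hη'P⟩ := Finset.mem_erase.1 hη'
      exact hne ((Finset.mem_filter.1 hη'P).2 η (hPT η hη) (specializes_iff_mem_closure.2 hcl)).symm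
    obtain ⟨e, w, h1, h2, -⟩ := c.exists_affine_locus_le hc (O := ⟨Cᶜ, hC.isOpen_compl⟩) hηC
    exact ⟨e, w, h1, fun η' hη' hne hmem => h2 hmem
      (Set.mem_iUnion₂.2 ⟨η', Finset.mem_erase.2 ⟨hne, hη'⟩, subset_closure rfl⟩)⟩
  choose! e w hw₁ hw₂ using hw
  let D : ℕ := ∏ η ∈ P, (e η + 1)
  refine ⟨D + j₀, fun m hm => ?_⟩
  have hy : ∀ η ∈ P, ∃ y : c.sect m ⊤, η ∈ c.locus y ∧ ∀ η' ∈ P, η' ≠ η → η' ∉ c.locus y := by
    intro η hη
    obtain ⟨r, hr⟩ : e η + 1 ∣ D := Finset.dvd_prod_of_mem _ hη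
    have hr0 : 0 < r := by
      rcases Nat.eq_zero_or_pos r with h | h
      · have hD : 0 < D := Finset.prod_pos fun η _ => Nat.succ_pos _
        simp [h] at hr; omega
      · exact h
    obtain ⟨v, hv⟩ := hj₀ (m - D) (by omega) η
    refine ⟨c.sectCast (show (e η + 1) * r + (m - D) = m by omega) (c.mul (c.sectPow (w η) r) v),
      ?_, fun η' hη' hne => ?_⟩
    · rw [c.locus_sectCast, c.locus_mul, c.locus_sectPow _ hr0]
      exact ⟨hw₁ η hη, hv⟩
    · rw [c.locus_sectCast, c.locus_mul, c.locus_sectPow _ hr0]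
      exact fun h => hw₂ η hη η' hη' hne h.1
  choose! y hy₁ hy₂ using hy
  refine ⟨∑ η ∈ P, y η, fun η hη => ?_⟩
  obtain ⟨π, hπ, hηπ⟩ := hP η hη
  refine hηπ.mem_open (c.locus _).2 ?_
  obtain ⟨i, hi⟩ := c.exists_mem π
  have hmem : π ∈ (⊤ : X.Opens) ⊓ c.D i := ⟨trivial, hi⟩
  show π ∈ c.locus _
  rw [c.mem_locus_iff _ hi, Scheme.mem_basicOpen _ _ π hmem]
  rw [AddSubgroup.val_finsetSum, Finset.sum_apply, map_sum, ← Finset.add_sum_erase _ _ hπ]
  by_contra hu
  have hrest : ∑ z ∈ P.erase π, X.presheaf.germ _ π hmem ((y z).1 i) ∈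
      IsLocalRing.maximalIdeal (X.presheaf.stalk π) := Ideal.sum_mem _ fun z hz => by
    obtain ⟨hne, hzP⟩ := Finset.mem_erase.1 hz
    have := hy₂ z hzP π hπ (Ne.symm hne)
    rw [c.mem_locus_iff _ hi, Scheme.mem_basicOpen _ _ π hmem] at this
    exact (IsLocalRing.mem_maximalIdeal _).2 this
  have hmain : IsUnit (X.presheaf.germ _ π hmem ((y π).1 i)) :=
    (Scheme.mem_basicOpen _ _ π hmem).1 ((c.mem_locus_iff _ hi).1 (hy₁ π hπ))
  refine IsLocalRing.notMem_maximalIdeal.2 hmain ?_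
  have hs : X.presheaf.germ _ π hmem ((y π).1 i) + ∑ z ∈ P.erase π, X.presheaf.germ _ π hmem ((y z).1 i) ∈
      IsLocalRing.maximalIdeal (X.presheaf.stalk π) := (IsLocalRing.mem_maximalIdeal _).2 hu
  exact (Submodule.add_mem_iff_left _ hrest).1 hs

/-- The points where a set attains its dimension lie among its maximal points. -/
theorem dimLT_of_maximal_mem {S : Set X} {d : ℕ} (hS : DimLT S (d + 1)) {S' : Set X} (hS' : S' ⊆ S)
    (h : ∀ x ∈ S', ∃ y ∈ S, y ⤳ x ∧ y ≠ x) : DimLT S' d := by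
  intro l hl
  obtain ⟨y, hy, hyx, hne⟩ := h l.last (hl _)
  have hlt : l.last < y :=
    lt_of_le_not_ge hyx fun h2 => hne (Specializes.antisymm hyx h2).eq
  have := hS (l.snoc y hlt) fun i => by
    refine Fin.lastCases ?_ (fun i => ?_) i
    · rw [show (l.snoc y hlt) (Fin.last _) = y from RelSeries.last_snoc l y hlt]
      exact hy
    · rw [show (l.snoc y hlt) i.castSucc = l i from RelSeries.snoc_castSucc l y hlt i]
      exact hS' (hl i)
  simp at this
  omega

variable (k : Type u) [Field k] [X.Over (Spec (CommRingCat.of k))] [IsProper (X ↘ Spec (CommRingCat.of k))]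

include k in
/-- **Injective twists with small cokernel in every large degree.** -/
theorem exists_mono_small {H : X.Modules} (hH : CohB1.IsAmple H) {F : X.Modules} (hF : Coh.IsCoh F) {d : ℕ}
    (hd : DimLT (CohB1.support F) (d + 1)) :
    ∃ m₀ : ℕ, ∀ m, m₀ ≤ m → ∃ S : ShortComplex X.Modules, S.ShortExact ∧
      S.X₁ = F ∧ S.X₂ = (tF (CohB1.tensorPow H m)).obj F ∧ Coh.IsCoh S.X₃ ∧ DimLT (CohB1.support S.X₃) d := by
  haveI := Euler.isNoetherian_of_proper (X := X) k
  haveI := hF.1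
  obtain ⟨c, ⟨e⟩⟩ := Ample.exists_cocycle hH.1
  have hc := ((c.isAmple_iff e).1 hH).2
  let M : Set X := {x | x ∈ CohB1.support F ∧ ∀ y ∈ CohB1.support F, y ⤳ x → y = x}
  have hM : M.Finite := finite_of_maximal (QCoh.isClosed_support_of_isCoh hF) (fun x hx => hx.1) (fun x hx => hx.2)
  obtain ⟨m₀, hm₀⟩ := exists_sect_all c hc ((NegTwist.finite_weakAss hF).union hM)
  refine ⟨m₀, fun m hm => ?_⟩
  obtain ⟨a, ha⟩ := hm₀ m hm
  obtain ⟨d'⟩ := c.nonempty_tensorPow_iso e m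
  have hτ : Kodaira.IsoOn (c.locus a) (c.hom a) :=
    (NatIso.isIso_map_iff (Scheme.Modules.restrictFunctorIsoPullback (c.locus a).ι) (c.hom a)).1
      (c.isIso_restrict_hom a le_rfl)
  let u : ((DCoh.tensorBi (X := X)).obj F).obj (Coh.structureModule X) ≅ F :=
    (OX.tensorBraiding.app F).symm.app _ ≪≫ OX.tensorUnitLeftIso F
  let f₀ : F ⟶ ((DCoh.tensorBi (X := X)).obj F).obj (c.twist m) :=
    u.inv ≫ ((DCoh.tensorBi (X := X)).obj F).map (c.hom a)
  have hf₀ : Kodaira.IsoOn (c.locus a) f₀ := (Kodaira.isoOn_of_iso (c.locus a) _).comp (hτ.tensor_left F)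
  let f : F ⟶ CohB1.tensorMod F (CohB1.tensorPow H m) :=
    f₀ ≫ (Ample.LineData.tensorModMapIso (Iso.refl F) d'.symm).hom
  have hf : Kodaira.IsoOn (c.locus a) f := hf₀.comp (Kodaira.isoOn_of_iso (c.locus a) _)
  haveI : Mono f := CMReg.mono_of_stalk_injective_weakAss f fun x hx => (hf.stalk_bijective (ha x (Or.inl hx))).1
  have hHm : PicF.IsInvertible (CohB1.tensorPow H m) := Ample.isInvertible_tensorPow hH.1 m
  have hF2 : Coh.IsCoh ((tF (CohB1.tensorPow H m)).obj F) := isCoh_twist k hH.1 hF m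
  refine ⟨ShortComplex.mk f (cokernel.π f) (cokernel.condition f),
    { exact := ShortComplex.exact_of_g_is_cokernel _ (cokernelIsCokernel f) }, rfl, rfl,
    QCoh.isCoh_cokernel f hF hF2, ?_⟩
  refine dimLT_of_maximal_mem hd
    ((QCoh.support_subset_of_epi (cokernel.π f)).trans (support_twist_subset hH.1 m)) fun x hx => ?_
  have hxa : x ∉ c.locus a := fun h =>
    QCoh.notMem_support_cokernel_of_surjective f (hf.stalk_bijective h).2 hx
  have hxS : x ∈ CohB1.support F :=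
    support_twist_subset hH.1 m (QCoh.support_subset_of_epi (cokernel.π f) hx)
  by_contra hno
  push Not at hno
  exact hxa (ha x (Or.inr ⟨hxS, hno⟩))

end GrothLib.Snapper
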