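import Groth.Agent.Lib.Snapper.PushEuler
import Groth.Agent.Lib.Euler.TensorSupport
import Groth.Agent.Lib.Euler.Divisor
import Groth.Agent.Lib.Ample.Functorial
import Groth.Agent.Lib.RelProjK.Local
import Groth.Agent.Lib.OX.TensorAssoc
import Groth.Agent.Lib.OX.PullbackTensor
import Groth.Agent.Lib.ProjFormula.Iso
import Groth.Prelude.Def_Curv2

/-!
# Twisting by products of powers of invertible modules
-/

set_option linter.style.haveILetI false

universe u

open CategoryTheory CategoryTheory.Limits AlgebraicGeometry TopologicalSpace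

noncomputable section

namespace GrothLib.Snapper

open GrothLib.Euler (tF)

variable {X : Scheme.{u}}

/-- `L₁^{n₁} ⊗ ⋯ ⊗ L_r^{n_r}`. -/
abbrev invPows (r : ℕ) (L : Fin r → X.Modules) (n : Fin r → ℕ) : X.Modules :=
  Curv2.tensorPows (Coh.structureModule X) r L n

theorem isInvertible_invPows : ∀ (r : ℕ) (L : Fin r → X.Modules), (∀ i, PicF.IsInvertible (L i)) →
    ∀ n, PicF.IsInvertible (invPows r L n) := by
  intro r
  induction r with
  | zero => exact fun _ _ _ => Euler.isInvertible_structure
  | succ r ih => exact fun L hL n =>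
      Ample.isInvertible_tensorMod (ih _ (fun i => hL _) _) (Ample.isInvertible_tensorPow (hL _) _)

theorem nonempty_tensorPows_iso (F : X.Modules) : ∀ (r : ℕ) (L : Fin r → X.Modules) (n : Fin r → ℕ),
    Nonempty (Curv2.tensorPows F r L n ≅ (tF (invPows r L n)).obj F) := by
  intro r
  induction r with
  | zero => exact fun L n => ⟨(Euler.tFUnitIso F).symm⟩
  | succ r ih =>
    intro L n
    obtain ⟨e⟩ := ih (fun i => L i.castSucc) (fun i => n i.castSucc)
    exact ⟨(tF (CohB1.tensorPow (L (Fin.last r)) (n (Fin.last r)))).mapIso e ≪≫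
      OX.tensorAssoc F (invPows r (fun i => L i.castSucc) fun i => n i.castSucc)
        (CohB1.tensorPow (L (Fin.last r)) (n (Fin.last r)))⟩

theorem nonempty_invPows_add_single : ∀ (r : ℕ) (L : Fin r → X.Modules) (n : Fin r → ℕ) (i : Fin r),
    Nonempty (invPows r L (n + Pi.single i 1) ≅ (tF (invPows r L n)).obj (L i)) := by
  intro r
  induction r with
  | zero => exact fun L n i => i.elim0
  | succ r ih =>
    intro L n i
    let L' : Fin r → X.Modules := fun j => L j.castSucc
    let n' : Fin r → ℕ := fun j => n j.castSucc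
    let P : ℕ → X.Modules := fun m => CohB1.tensorPow (L (Fin.last r)) m
    have hdef : ∀ m : Fin (r + 1) → ℕ, invPows (r + 1) L m =
        (tF (P (m (Fin.last r)))).obj (invPows r L' fun j => m j.castSucc) := fun m => rfl
    refine Fin.lastCases ?_ (fun j => ?_) i
    · have h1 : (fun j : Fin r => (n + Pi.single (Fin.last r) 1 : Fin (r + 1) → ℕ) j.castSucc) = n' :=
        funext fun j => by simp [n', (Fin.castSucc_lt_last j).ne]
      have h2 : (n + Pi.single (Fin.last r) 1 : Fin (r + 1) → ℕ) (Fin.last r) = n (Fin.last r) + 1 := by simp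
      rw [hdef, h1, h2]
      let A := invPows (r + 1) L n
      let M := L (Fin.last r)
      have a : ((DCoh.tensorBi (X := X)).obj A).obj M ≅
          ((DCoh.tensorBi (X := X)).obj (invPows r L' n')).obj (((DCoh.tensorBi (X := X)).obj (P (n (Fin.last r)))).obj M) :=
        OX.tensorAssoc (invPows r L' n') (P (n (Fin.last r))) M
      have b : (tF A).obj M ≅ ((DCoh.tensorBi (X := X)).obj A).obj M :=
        ((OX.tensorBraiding (X := X)).app A).app M
      exact ⟨a.symm ≪≫ b.symm⟩
    · obtain ⟨e⟩ := ih L' n' j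
      have h1 : (fun l : Fin r => (n + Pi.single j.castSucc 1 : Fin (r + 1) → ℕ) l.castSucc) =
          n' + Pi.single j 1 := funext fun l => by simp [n', Pi.single_apply]
      have h2 : (n + Pi.single j.castSucc 1 : Fin (r + 1) → ℕ) (Fin.last r) = n (Fin.last r) := by
        simp [(Fin.castSucc_lt_last j).ne']
      rw [hdef, h1, h2]
      exact ⟨(tF (P (n (Fin.last r)))).mapIso e ≪≫
        OX.tensorAssoc (L j.castSucc) (invPows r L' n') (P (n (Fin.last r)))⟩

theorem invPows_zero_iso : ∀ (r : ℕ) (L : Fin r → X.Modules),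
    Nonempty (invPows r L 0 ≅ Coh.structureModule X) := by
  intro r
  induction r with
  | zero => exact fun L => ⟨Iso.refl _⟩
  | succ r ih =>
    intro L
    obtain ⟨e⟩ := ih fun i => L i.castSucc
    exact ⟨(tF (Coh.structureModule X)).mapIso e ≪≫ OX.tensorUnitLeftIso _⟩

variable (k : Type u) [Field k] [X.Over (Spec (CommRingCat.of k))]

/-- The twisted Euler characteristic. -/
def phi (r : ℕ) (L : Fin r → X.Modules) (F : X.Modules) : (Fin r → ℕ) → ℚ :=
  fun n => (Curv2.euler k X ((tF (invPows r L n)).obj F) : ℚ)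

theorem euler_tensorPows {r : ℕ} (L : Fin r → X.Modules) (F : X.Modules) (n : Fin r → ℕ) :
    (Curv2.euler k X (Curv2.tensorPows F r L n) : ℚ) = phi k r L F n := by
  rw [phi, Euler.euler_of_iso k (nonempty_tensorPows_iso F r L n).some]

theorem phi_of_iso {r : ℕ} (L : Fin r → X.Modules) {F G : X.Modules} (e : F ≅ G) :
    phi k r L F = phi k r L G :=
  funext fun n => by rw [phi, phi, Euler.euler_of_iso k ((tF (invPows r L n)).mapIso e)]

theorem phi_add_single {r : ℕ} (L : Fin r → X.Modules) (F : X.Modules) (n : Fin r → ℕ) (i : Fin r) :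
    phi k r L F (n + Pi.single i 1) = phi k r L ((tF (L i)).obj F) n := by
  obtain ⟨e⟩ := nonempty_invPows_add_single r L n i
  exact congrArg Int.cast (Euler.euler_of_iso k (((DCoh.tensorBi (X := X)).obj F).mapIso e ≪≫
    (OX.tensorAssoc F (L i) (invPows r L n)).symm))

theorem phi_zero {r : ℕ} (L : Fin r → X.Modules) (F : X.Modules) :
    phi k r L F 0 = (Curv2.euler k X F : ℚ) := by
  exact congrArg Int.cast (Euler.euler_of_iso k (((DCoh.tensorBi (X := X)).obj F).mapIso
    (invPows_zero_iso r L).some ≪≫ Euler.tFUnitIso F))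

theorem phi_additive [IsProper (X ↘ Spec (CommRingCat.of k))] {r : ℕ} {L : Fin r → X.Modules}
    (hL : ∀ i, PicF.IsInvertible (L i)) {S : ShortComplex X.Modules} (hS : S.ShortExact)
    (h₁ : Coh.IsCoh S.X₁) (h₂ : Coh.IsCoh S.X₂) (h₃ : Coh.IsCoh S.X₃) :
    phi k r L S.X₂ = phi k r L S.X₁ + phi k r L S.X₃ := by
  have := Euler.isNoetherian_of_proper (X := X) k
  funext n
  have hlf := Euler.isFinLocFree_of_isInvertible (isInvertible_invPows r L hL n)
  have h := Euler.euler_additive k (OX.tensor_map_shortExact (OX.flat_of_isFinLocFree hlf) hS)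
    (Euler.isCoh_tF h₁ hlf) (Euler.isCoh_tF h₂ hlf) (Euler.isCoh_tF h₃ hlf)
  simp only [ShortComplex.map_X₁, ShortComplex.map_X₂, ShortComplex.map_X₃] at h
  simp only [phi, Pi.add_apply, h]
  push_cast
  rfl

variable {Z : Scheme.{u}}

theorem nonempty_pullback_invPows (i : Z ⟶ X) : ∀ (r : ℕ) (L : Fin r → X.Modules),
    (∀ j, PicF.IsInvertible (L j)) → ∀ n : Fin r → ℕ,
      Nonempty ((Scheme.Modules.pullback i).obj (invPows r L n) ≅
        invPows r (fun j => (Scheme.Modules.pullback i).obj (L j)) n) := by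
  intro r
  induction r with
  | zero => exact fun L _ n => ⟨OX.pullUnitIso i⟩
  | succ r ih =>
    intro L hL n
    obtain ⟨e⟩ := ih (fun j => L j.castSucc) (fun j => hL _) (fun j => n j.castSucc)
    obtain ⟨e'⟩ := Ample.nonempty_pullback_tensorPow i (hL (Fin.last r)) (n (Fin.last r))
    exact ⟨OX.pullTensorIso i (invPows r (fun j => L j.castSucc) fun j => n j.castSucc) _ ≪≫
      (tF _).mapIso e ≪≫ ((DCoh.tensorBi (X := Z)).obj _).mapIso e'⟩

/-- The twisted Euler characteristic of a direct image along a closed immersion. -/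
theorem phi_push (i : Z ⟶ X) [IsAffineHom i] [Z.Over (Spec (CommRingCat.of k))]
    (hi : i ≫ X ↘ Spec (CommRingCat.of k) = Z ↘ Spec (CommRingCat.of k))
    {r : ℕ} {L : Fin r → X.Modules} (hL : ∀ j, PicF.IsInvertible (L j)) (n : Fin r → ℕ) :
    phi k r L ((Coh.push i).obj (Coh.structureModule Z)) n =
      (Curv2.euler k Z (invPows r (fun j => (Scheme.Modules.pullback i).obj (L j)) n) : ℚ) := by
  let N := invPows r L n
  have hN := isInvertible_invPows r L hL n
  haveI := ProjFormula.isIso_projHom i (Euler.isFinLocFree_of_isInvertible hN) (Coh.structureModule Z)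
  obtain ⟨e⟩ := nonempty_pullback_invPows i r L hL n
  let E := (Scheme.Modules.pullback i).obj N
  haveI hq : E.IsQuasicoherent :=
    Euler.isQuasicoherent_of_isFinLocFree
      (Euler.isFinLocFree_of_isInvertible (RelProjK.isInvertible_pullback i hN))
  have e1 : (tF N).obj ((Coh.push i).obj (Coh.structureModule Z)) ≅ (Scheme.Modules.pushforward i).obj E :=
    ((OX.tensorBraiding (X := X)).app N).app _ ≪≫
      asIso (ProjFormula.projHom i N (Coh.structureModule Z)) ≪≫
      (Scheme.Modules.pushforward i).mapIso (Euler.tFUnitIso E)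
  rw [phi, Euler.euler_of_iso k e1, euler_pushforward i hi E, Euler.euler_of_iso k e]

end GrothLib.Snapper
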