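import Groth.Agent.Lib.Snapper.PolyFun
import Groth.Agent.Lib.Snapper.Twist
import Groth.Agent.Lib.Snapper.TopDecomp
import Groth.Agent.Lib.Euler.GenericCompare
import Mathlib.LinearAlgebra.Quotient.Basic

/-!
# The Euler characteristic of twists is a polynomial of degree at most the dimension of the support
-/

set_option linter.style.haveILetI false

universe u

open CategoryTheory CategoryTheory.Limits AlgebraicGeometry TopologicalSpace

noncomputable section

namespace GrothLib.Snapper

open GrothLib.Euler (tF)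
open GrothLib.QCoh (stalkLin)

variable {X : Scheme.{u}}

/-- Modules isomorphic on an open receive maps from a common one, supported where they are, bijective there. -/
theorem exists_comparison_support [IsNoetherian X] {A B : X.Modules} (hA : Coh.IsCoh A) (hB : Coh.IsCoh B)
    (U : X.Opens) (φ : A.restrict U.ι ≅ B.restrict U.ι) :
    ∃ (H : X.Modules) (p : H ⟶ A) (q : H ⟶ B), Coh.IsCoh H ∧
      CohB1.support H ⊆ CohB1.support A ∪ CohB1.support B ∧
      ∀ y ∈ U, Function.Bijective (stalkLin p y) ∧ Function.Bijective (stalkLin q y) := by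
  obtain ⟨H, p, q, hH, hpq⟩ := Euler.exists_comparison hA hB U φ
  let f := biprod.lift p q
  have hAB := QCoh.isCoh_biprod' hA hB
  let π := Abelian.factorThruImage f
  let ι := Abelian.image.ι f
  have hπι : π ≫ ι = f := Abelian.image.fac f
  have hI : Coh.IsCoh (Abelian.image f) := QCoh.isCoh_kernel _ hAB (QCoh.isCoh_cokernel f hH hAB)
  have hsplit : CohB1.support (A ⊞ B) ⊆ CohB1.support A ∪ CohB1.support B :=
    QCoh.support_subset_union (ShortComplex.Splitting.ofHasBinaryBiproduct A B).shortExact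
  refine ⟨Abelian.image f, ι ≫ biprod.fst, ι ≫ biprod.snd, hI,
    (QCoh.support_subset_of_mono ι).trans hsplit, fun y hy => ?_⟩
  obtain ⟨hp, hq⟩ := hpq y hy
  have h1 : ⇑(stalkLin p y) = stalkLin (ι ≫ biprod.fst) y ∘ stalkLin π y := funext fun e => by
    show _ = stalkLin (ι ≫ biprod.fst) y (stalkLin π y e)
    rw [← QCoh.stalkLin_comp, ← Category.assoc, hπι, biprod.lift_fst]
  have h2 : ⇑(stalkLin q y) = stalkLin (ι ≫ biprod.snd) y ∘ stalkLin π y := funext fun e => by
    show _ = stalkLin (ι ≫ biprod.snd) y (stalkLin π y e)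
    rw [← QCoh.stalkLin_comp, ← Category.assoc, hπι, biprod.lift_snd]
  have hπ : Function.Bijective (stalkLin π y) :=
    ⟨Function.Injective.of_comp (h1 ▸ hp.1), QCoh.stalkLin_surjective π y⟩
  rw [h1] at hp
  rw [h2] at hq
  exact ⟨(Function.Bijective.of_comp_iff _ hπ).1 hp, (Function.Bijective.of_comp_iff _ hπ).1 hq⟩

/-- An additive function killing kernel and cokernel takes the same value at both ends of a map. -/
theorem eq_of_kernel_cokernel {V : Type*} [AddCommGroup V] (φ : X.Modules → V) [IsNoetherian X]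
    (hadd : ∀ T : ShortComplex X.Modules, T.ShortExact → Coh.IsCoh T.X₁ → Coh.IsCoh T.X₂ → Coh.IsCoh T.X₃ →
      φ T.X₂ = φ T.X₁ + φ T.X₃)
    {A B : X.Modules} (hA : Coh.IsCoh A) (hB : Coh.IsCoh B) (f : A ⟶ B)
    (hK : φ (kernel f) = 0) (hC : φ (cokernel f) = 0) : φ A = φ B := by
  obtain ⟨w, hS⟩ := QCoh.shortExact_kernel_image f
  have hS' := QCoh.shortExact_image_cokernel f
  have hKc := QCoh.isCoh_kernel f hA hB
  have hCc := QCoh.isCoh_cokernel f hA hB
  have hI : Coh.IsCoh (Abelian.image f) := QCoh.isCoh_kernel _ hB hCc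
  have e1 := hadd _ hS hKc hA hI
  have e2 := hadd _ hS' hI hB hCc
  dsimp at e1 e2
  rw [e1, e2, hK, hC, zero_add, add_zero]

variable (k : Type u) [Field k] [X.Over (Spec (CommRingCat.of k))] [IsProper (X ↘ Spec (CommRingCat.of k))]

theorem euler_eq_zero_of_isZero {M : X.Modules} (hM : IsZero M) : Curv2.euler k X M = 0 := by
  have hc := Euler.isCoh_of_isZero hM
  let S := ShortComplex.mk (𝟙 M) (0 : M ⟶ M) (by simp)
  haveI : Mono S.f := inferInstanceAs (Mono (𝟙 M))
  haveI : Epi S.g := ⟨fun a b _ => hM.eq_of_src a b⟩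
  have hS : S.ShortExact := { exact := ShortComplex.exact_of_isZero_X₂ S hM }
  have h := Euler.euler_additive k hS hc hc hc
  dsimp [S] at h
  omega

variable {r : ℕ} {L : Fin r → X.Modules}

/-- Twisting by an invertible module changes `χ` of twists only in lower degree. -/
theorem twist_sub_mem (hL : ∀ i, PicF.IsInvertible (L i)) {d : ℕ}
    (ih : ∀ G : X.Modules, Coh.IsCoh G → DimLT (CohB1.support G) d → phi k r L G ∈ polyLT r d)
    {M : X.Modules} (hM0 : PicF.IsInvertible M) {F : X.Modules} (hF : Coh.IsCoh F)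
    (hd : DimLT (CohB1.support F) (d + 1)) : phi k r L ((tF M).obj F) - phi k r L F ∈ polyLT r d := by
  have := Euler.isNoetherian_of_proper (X := X) k
  have hM : FlatMod.IsFinLocFree M := Euler.isFinLocFree_of_isInvertible hM0
  have hM1 : FlatMod.IsFinLocFreeOfRank 1 M := Euler.isFinLocFreeOfRank_one' hM0
  let S := CohB1.support F
  let q := (polyLT r d).mkQ
  let φ : X.Modules → ((Fin r → ℕ) → ℚ) ⧸ polyLT r d :=
    fun G => q (phi k r L ((tF M).obj G)) - q (phi k r L G)
  suffices h : φ F = 0 by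
    have h' : q (phi k r L ((tF M).obj F) - phi k r L F) = 0 := by rw [map_sub]; exact h
    exact (Submodule.Quotient.mk_eq_zero _).1 h'
  have hflat : FlatMod.IsFlat M := OX.flat_of_isFinLocFree hM
  have hiso : ∀ A B : X.Modules, Nonempty (A ≅ B) → φ A = φ B := fun A B ⟨e⟩ => by
    simp only [φ, phi_of_iso k L e, phi_of_iso k L ((tF M).mapIso e)]
  have hadd : ∀ T : ShortComplex X.Modules, T.ShortExact → Coh.IsCoh T.X₁ → Coh.IsCoh T.X₂ →
      Coh.IsCoh T.X₃ → φ T.X₂ = φ T.X₁ + φ T.X₃ := by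
    intro T hT a b c
    have e1 := phi_additive k hL hT a b c
    have e2 := phi_additive k hL (OX.tensor_map_shortExact hflat hT)
      (Euler.isCoh_tF a hM) (Euler.isCoh_tF b hM) (Euler.isCoh_tF c hM)
    simp only [ShortComplex.map_X₁, ShortComplex.map_X₂, ShortComplex.map_X₃] at e2
    simp only [φ, e1, e2, map_add]
    abel
  have hsmall : ∀ G : X.Modules, Coh.IsCoh G → DimLT (CohB1.support G) d → φ G = 0 := by
    intro G hG hGd
    have h1 := ih G hG hGd
    have h2 := ih _ (Euler.isCoh_tF hG hM) (hGd.mono (Euler.support_tF_subset hM1))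
    simp only [φ, q, Submodule.mkQ_apply, (Submodule.Quotient.mk_eq_zero _).2 h1,
      (Submodule.Quotient.mk_eq_zero _).2 h2, sub_self]
  obtain ⟨-, hdec⟩ := top_decomposition φ hiso (QCoh.isClosed_support_of_isCoh hF) hd
    (fun T hT a b c _ => hadd T hT a b c) (fun G hG _ hGd => hsmall G hG hGd) F hF subset_rfl
  rw [hdec]
  refine finsum_eq_zero_of_forall_eq_zero fun η => ?_
  by_cases hη : IsTop d η
  swap
  · simp [topTerm, hη]
  rw [topTerm_of φ hη]
  suffices h : φ (ptMod η) = 0 by rw [h, smul_zero]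
  -- `M` is trivial near `η`
  obtain ⟨U, hηU, ⟨e⟩⟩ := hM0 η
  let A := ptMod η
  let B := (tF M).obj A
  have hA := isCoh_ptMod (X := X) η
  have hB := Euler.isCoh_tF hA hM
  let P := Scheme.Modules.restrictFunctorIsoPullback U.ι
  let eBA : B.restrict U.ι ≅ A.restrict U.ι :=
    P.app _ ≪≫ OX.pullTensorIso U.ι A M ≪≫
      ((DCoh.tensorBi (X := U.toScheme)).obj _).mapIso ((P.app M).symm ≪≫ e) ≪≫
        Euler.tFUnitIso _ ≪≫ (P.app A).symm
  obtain ⟨H, p, p', hH, hHs, hbij⟩ := exists_comparison_support hA hB U eBA.symm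
  let T : Set X := closure {η} ∩ (U : Set X)ᶜ
  have hT : DimLT T d := dimLT_of_notMem hη.dimLT Set.inter_subset_left fun h => h.2 hηU
  have hBs : CohB1.support B ⊆ closure {η} := (Euler.support_tF_subset hM1).trans (support_ptMod η)
  have hHs' : CohB1.support H ⊆ closure {η} := hHs.trans (Set.union_subset (support_ptMod η) hBs)
  have hzero : ∀ (C : X.Modules) (f : H ⟶ C), Coh.IsCoh C → CohB1.support C ⊆ closure {η} →
      (∀ y ∈ U, Function.Bijective (stalkLin f y)) → ∀ (ψ : X.Modules → ((Fin r → ℕ) → ℚ) ⧸ polyLT r d),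
      (∀ G : X.Modules, Coh.IsCoh G → DimLT (CohB1.support G) d → ψ G = 0) →
      ψ (kernel f) = 0 ∧ ψ (cokernel f) = 0 := by
    intro C f hC hCs hb ψ hψ
    refine ⟨hψ _ (QCoh.isCoh_kernel f hH hC) (hT.mono fun y hy => ⟨hHs' (QCoh.support_subset_of_mono (kernel.ι f) hy),
        fun hyU => QCoh.notMem_support_kernel_of_injective f (hb y hyU).1 hy⟩),
      hψ _ (QCoh.isCoh_cokernel f hH hC) (hT.mono fun y hy => ⟨hCs (QCoh.support_subset_of_epi (cokernel.π f) hy),
        fun hyU => QCoh.notMem_support_cokernel_of_surjective f (hb y hyU).2 hy⟩)⟩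
  let ψ : X.Modules → ((Fin r → ℕ) → ℚ) ⧸ polyLT r d := fun G => q (phi k r L G)
  have hψ : ∀ G : X.Modules, Coh.IsCoh G → DimLT (CohB1.support G) d → ψ G = 0 := fun G hG hGd =>
    (Submodule.Quotient.mk_eq_zero _).2 (ih G hG hGd)
  have hψadd : ∀ T : ShortComplex X.Modules, T.ShortExact → Coh.IsCoh T.X₁ → Coh.IsCoh T.X₂ →
      Coh.IsCoh T.X₃ → ψ T.X₂ = ψ T.X₁ + ψ T.X₃ := fun T hT a b c => by
    simp only [ψ, phi_additive k hL hT a b c, map_add]
  obtain ⟨k1, c1⟩ := hzero A p hA (support_ptMod η) (fun y hy => (hbij y hy).1) ψ hψ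
  obtain ⟨k2, c2⟩ := hzero B p' hB hBs (fun y hy => (hbij y hy).2) ψ hψ
  have h1 := eq_of_kernel_cokernel ψ hψadd hH hA p k1 c1
  have h2 := eq_of_kernel_cokernel ψ hψadd hH hB p' k2 c2
  show ψ B - ψ A = 0
  rw [← h2, h1, sub_self]

/-- `χ` of twists of `F` is of degree `< d` when the support of `F` has dimension `< d`. -/
theorem phi_mem_polyLT (hL : ∀ i, PicF.IsInvertible (L i)) : ∀ (d : ℕ) (F : X.Modules), Coh.IsCoh F →
    DimLT (CohB1.support F) d → phi k r L F ∈ polyLT r d := by
  have := Euler.isNoetherian_of_proper (X := X) k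
  intro d
  induction d with
  | zero =>
    intro F hF hd
    have hF0 : IsZero F := by
      rw [IsZero.iff_id_eq_zero]
      have he := eq_empty_of_dimLT_zero hd
      refine Scheme.Modules.hom_ext _ _ fun U => AddCommGrpCat.ext fun s => ?_
      have hs : (show Γ(F, U) from s) = 0 := QCoh.section_eq_zero_of_germ F _ fun x hx =>
        @Subsingleton.elim _ (QCoh.stalk_subsingleton_of_notMem fun h => by rw [he] at h; exact h.elim) _ _
      exact hs
    have : phi k r L F = 0 := funext fun n => by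
      rw [phi, euler_eq_zero_of_isZero k ((tF _).map_isZero hF0)]
      simp
    rw [this]
    exact zero_mem _
  | succ d ih =>
    intro F hF hd
    refine mem_of_diff _ fun i => ?_
    simp only [phi_add_single]
    exact twist_sub_mem k hL ih (hL i) hF hd

theorem phi_tF_sub_mem (hL : ∀ i, PicF.IsInvertible (L i)) {M : X.Modules} (hM : PicF.IsInvertible M) {d : ℕ}
    {F : X.Modules} (hF : Coh.IsCoh F) (hd : DimLT (CohB1.support F) (d + 1)) :
    phi k r L ((tF M).obj F) - phi k r L F ∈ polyLT r d :=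
  twist_sub_mem k hL (phi_mem_polyLT k hL d) hM hF hd

/-- Modulo lower degree, `χ` of twists is the sum over the top-dimensional pieces. -/
theorem phi_sub_sum_mem (hL : ∀ i, PicF.IsInvertible (L i)) {d : ℕ} {F : X.Modules} (hF : Coh.IsCoh F)
    (hd : DimLT (CohB1.support F) (d + 1)) :
    phi k r L F - ∑ᶠ x : X, topTerm (phi k r L) d F x ∈ polyLT r d := by
  have := Euler.isNoetherian_of_proper (X := X) k
  let q := (polyLT r d).mkQ
  let ψ : X.Modules → ((Fin r → ℕ) → ℚ) ⧸ polyLT r d := fun G => q (phi k r L G)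
  obtain ⟨-, hdec⟩ := top_decomposition ψ (fun A B ⟨e⟩ => by simp only [ψ, phi_of_iso k L e])
    (QCoh.isClosed_support_of_isCoh hF) hd
    (fun T hT a b c _ => by simp only [ψ, phi_additive k hL hT a b c, map_add])
    (fun G hG _ hGd => (Submodule.Quotient.mk_eq_zero _).2 (phi_mem_polyLT k hL d G hG hGd)) F hF subset_rfl
  refine (Submodule.Quotient.mk_eq_zero _).1 ?_
  show q (phi k r L F - ∑ᶠ x : X, topTerm (phi k r L) d F x) = 0
  rw [map_sub, map_finsum q
    (finite_support_topTerm (phi k r L) (QCoh.isClosed_support_of_isCoh hF) hd subset_rfl), sub_eq_zero]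
  refine hdec.trans (finsum_congr fun x => ?_)
  unfold topTerm
  split_ifs
  · exact (map_nsmul q _ _).symm
  · exact (map_zero q).symm

include k in
/-- Finiteness of multiplicities. -/
theorem length_ne_top {d : ℕ} {F : X.Modules} (hF : Coh.IsCoh F)
    (hd : DimLT (CohB1.support F) (d + 1)) {x : X} (hx : IsTop d x) :
    Module.length (X.presheaf.stalk x) (F.presheaf.stalk x) ≠ ⊤ := by
  have := Euler.isNoetherian_of_proper (X := X) k
  exact (top_decomposition (fun _ : X.Modules => (0 : ℤ)) (fun _ _ _ => rfl)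
    (QCoh.isClosed_support_of_isCoh hF) hd (fun _ _ _ _ _ _ => (add_zero 0).symm) (fun _ _ _ _ => rfl)
    F hF subset_rfl).1 x hx

end GrothLib.Snapper
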