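import Groth.Agent.Lib.Snapper.Intersection

/-!
# The degree is the sum over one-dimensional components with multiplicities
-/

set_option linter.style.haveILetI false

universe u

open CategoryTheory CategoryTheory.Limits AlgebraicGeometry TopologicalSpace

noncomputable section

namespace GrothLib.Snapper

open GrothLib.Euler (tF)

variable {X : Scheme.{u}} (k : Type u) [Field k] [X.Over (Spec (CommRingCat.of k))]

/-- `χ(M ⊗ E) - n χ(M)`. -/
def degFun (E : X.Modules) (n : ℕ) (M : X.Modules) : ℤ :=
  Curv2.euler k X ((tF E).obj M) - n * Curv2.euler k X M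

/-- The degree of `E` on a closed subscheme. -/
def degSub (E : X.Modules) (n : ℕ) (I : X.IdealSheafData) : ℤ :=
  @Curv2.deg k _ I.subscheme ⟨I.subschemeι ≫ (X ↘ (Spec (CommRingCat.of k)))⟩
    ((Scheme.Modules.pullback I.subschemeι).obj E) n

variable [IsProper (X ↘ Spec (CommRingCat.of k))]

theorem degFun_quotMod {E : X.Modules} (hE : FlatMod.IsFinLocFree E) (n : ℕ) (I : X.IdealSheafData) :
    degFun k E n (ClSub.quotMod I) = degSub k E n I := by
  rw [degFun, euler_tF_quotMod k I hE, euler_quotMod k I]
  rfl

theorem mult_structure (x : X) :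
    mult (Coh.structureModule X) x =
      (Module.length (X.presheaf.stalk x) (X.presheaf.stalk x)).toNat := by
  rw [mult]
  obtain ⟨e⟩ := AssPts.exists_stalk_unit_equiv x
  rw [e.length_eq]

include k in
/-- In dimension at most one, `χ(M ⊗ E) - n χ(M)` is the sum over the one-dimensional pieces. -/
theorem degFun_eq_finsum (hd : topologicalKrullDim X ≤ 1) {n : ℕ} {E : X.Modules}
    (hE : FlatMod.IsFinLocFreeOfRank n E) {M : X.Modules} (hM : Coh.IsCoh M) :
    degFun k E n M = ∑ᶠ x : X, topTerm (degFun k E n) 1 M x := by
  have := Euler.isNoetherian_of_proper (X := X) k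
  have hlf := FinCov.isFinLocFree_of_rank hE
  have hflat := OX.flat_of_isFinLocFree hlf
  have hu : DimLT (Set.univ : Set X) (1 + 1) := dimLT_of_dim_le
    ((IsHomeomorph.topologicalKrullDim_eq _ (Homeomorph.Set.univ X).isHomeomorph).le.trans (by exact_mod_cast hd))
  obtain ⟨-, h⟩ := top_decomposition (degFun k E n)
    (fun A B ⟨e⟩ => by
      rw [degFun, degFun, Euler.euler_of_iso k e, Euler.euler_of_iso k ((tF E).mapIso e)])
    isClosed_univ hu
    (fun T hT a b c _ => by
      have e1 := Euler.euler_additive k hT a b c
      have e2 := Euler.euler_additive k (OX.tensor_map_shortExact hflat hT)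
        (Euler.isCoh_tF a hlf) (Euler.isCoh_tF b hlf) (Euler.isCoh_tF c hlf)
      simp only [ShortComplex.map_X₁, ShortComplex.map_X₂, ShortComplex.map_X₃] at e2
      simp only [degFun]
      linear_combination e2 - (n : ℤ) * e1)
    (fun M hM _ hMd => by
      have hcl := QCoh.isClosed_support_of_isCoh hM
      have h0 : topologicalKrullDim (CohB1.support M) ≤ 0 := by exact_mod_cast dim_le_of_dimLT hcl hMd
      have hp := fun x hx => Euler.isClosed_singleton_of_dim_le_zero hcl h0 (x := x) hx
      have hfin := Euler.finite_of_closed_points hcl hp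
      rw [degFun, Euler.euler_tF_of_finite_support k hE hM hfin hp,
        Euler.euler_eq_of_finite_support k M hfin hp, sub_self])
    M hM (Set.subset_univ _)
  exact h

include k in
/-- In dimension at most one, the degree is the sum over the one-dimensional pieces. -/
theorem deg_eq_finsum (hd : topologicalKrullDim X ≤ 1) {n : ℕ} {E : X.Modules}
    (hE : FlatMod.IsFinLocFreeOfRank n E) :
    Curv2.deg k X E n = ∑ᶠ x : X, topTerm (degFun k E n) 1 (Coh.structureModule X) x := by
  have := Euler.isNoetherian_of_proper (X := X) k
  rw [← degFun_eq_finsum k hd hE (Euler.isCoh_of_isInvertible Euler.isInvertible_structure), degFun,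
    show Curv2.euler k X ((tF E).obj (Coh.structureModule X)) = Curv2.euler k X E from
    Euler.euler_of_iso k (OX.tensorUnitLeftIso E)]
  rfl

end GrothLib.Snapper
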