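import Groth.Agent.Lib.Snapper.AvoidAll
import Groth.Agent.Lib.NefGrowth.Growth
import Groth.Agent.Lib.Kodaira.Cones
import Groth.Agent.Lib.Cube.Square
import Groth.Agent.Lib.Hilb20.Stable

/-!
# Growth of cohomology along integral combinations of classes

For a coherent module with support of dimension `≤ d` on a proper scheme with an ample module, the
dimension of `H^j(F ⊗ x^a y^b)` is `O((|a| + |b| + 1)^d)`, it changes by `O((|a| + |b| + 1)^{d-1})` when the
class is multiplied by a fixed one, and it stays small on the ample side of a window of vanishing.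
-/

set_option autoImplicit false
set_option linter.all false
set_option backward.isDefEq.respectTransparency false

universe u

open CategoryTheory CategoryTheory.Limits AlgebraicGeometry TopologicalSpace

noncomputable section

namespace GrothLib.Snapper

open GrothLib.Euler (tF)
open GrothLib.Cube (Pic clsMod HasCls hasCls_clsMod hasCls_structureModule)
open GrothLib.HodgeIndex (rep isInv_rep cls_rep)
open GrothLib.NefGrowth (hl hl_iso hl_X₂_le hl_X₁_le)

variable {X : Scheme.{u}} (k : Type u) [Field k] [X.Over (Spec (CommRingCat.of k))]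

/-- The twist of a module by a class. -/
abbrev tw (F : X.Modules) (z : Pic X) : X.Modules := (tF (rep z)).obj F

/-- The dimensions of the cohomology of twists by classes. -/
def hf (F : X.Modules) (z : Pic X) (j : ℕ) : ℕ := hl k (tw F z) j

omit [X.Over (Spec (CommRingCat.of k))] in
theorem tw_iso {F : X.Modules} {L : X.Modules} {z : Pic X} (hL : HasCls L z) :
    Nonempty (tw F z ≅ (tF L).obj F) := by
  obtain ⟨e⟩ := (show HasCls (rep z) z from ⟨isInv_rep z, cls_rep z⟩).iso hL rfl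
  exact ⟨((DCoh.tensorBi (X := X)).obj F).mapIso e⟩

theorem hf_iso {F G : X.Modules} (e : F ≅ G) (z : Pic X) (j : ℕ) : hf k F z j = hf k G z j :=
  hl_iso k ((tF (rep z)).mapIso e) j

theorem hf_twist (F : X.Modules) (z w : Pic X) (j : ℕ) : hf k (tw F z) w j = hf k F (z * w) j := by
  have h : HasCls (CohB1.tensorMod (rep z) (rep w)) (z * w) :=
    HasCls.tensor ⟨isInv_rep z, cls_rep z⟩ ⟨isInv_rep w, cls_rep w⟩
  obtain ⟨e⟩ := tw_iso (F := F) h
  exact hl_iso k (OX.tensorAssoc F (rep z) (rep w) ≪≫ e.symm) j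

/-- `|a| + |b| + 1`. -/
def wt (a b : ℤ) : ℕ := a.natAbs + b.natAbs + 1

theorem one_le_wt (a b : ℤ) : 1 ≤ wt a b := Nat.le_add_left _ _

theorem wt_pow_pos (a b : ℤ) (e : ℕ) : 0 < wt a b ^ e := pow_pos (one_le_wt a b) e

/-- Functions of classes growing like the cohomology of a module with support of dimension `< d`. -/
def Sm (d : ℕ) (G : Pic X → ℕ) : Prop :=
  (d = 0 → ∀ w, G w = 0) ∧
    ∀ w x y : Pic X, ∃ C : ℕ, ∀ a b : ℤ, G (w * x ^ a * y ^ b) ≤ C * wt a b ^ (d - 1)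

theorem Sm.zero (d : ℕ) : Sm (X := X) d (fun _ => 0) :=
  ⟨fun _ _ => rfl, fun _ _ _ => ⟨0, fun _ _ => Nat.zero_le _⟩⟩

theorem Sm.add {d : ℕ} {G G' : Pic X → ℕ} (h : Sm d G) (h' : Sm d G') : Sm d (fun w => G w + G' w) := by
  refine ⟨fun h0 w => by simp [h.1 h0, h'.1 h0], fun w x y => ?_⟩
  obtain ⟨C, hC⟩ := h.2 w x y
  obtain ⟨C', hC'⟩ := h'.2 w x y
  exact ⟨C + C', fun a b => by rw [Nat.add_mul]; exact Nat.add_le_add (hC a b) (hC' a b)⟩

theorem Sm.shift {d : ℕ} {G : Pic X → ℕ} (h : Sm d G) (z : Pic X) : Sm d (fun w => G (z * w)) := by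
  refine ⟨fun h0 w => h.1 h0 _, fun w x y => ?_⟩
  obtain ⟨C, hC⟩ := h.2 (z * w) x y
  exact ⟨C, fun a b => by simpa [mul_assoc] using hC a b⟩

variable [IsProper (X ↘ Spec (CommRingCat.of k))]

include k in
theorem isCoh_tw {F : X.Modules} (hF : Coh.IsCoh F) (z : Pic X) : Coh.IsCoh (tw F z) := by
  haveI := Euler.isNoetherian_of_proper (X := X) k
  exact Euler.isCoh_tF hF (Euler.isFinLocFree_of_isInvertible (isInv_rep z))

omit [X.Over (Spec (CommRingCat.of k))] in
theorem support_tw_subset (F : X.Modules) (z : Pic X) : CohB1.support (tw F z) ⊆ CohB1.support F :=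
  Euler.support_tF_subset (Euler.isFinLocFreeOfRank_one' (isInv_rep z))

include k in
/-- **The comparison of a module with its twist by a large power of an ample class.** -/
theorem exists_twist_step {H : X.Modules} (hH : CohB1.IsAmple H) {F : X.Modules} (hF : Coh.IsCoh F) {d : ℕ}
    (hd : DimLT (CohB1.support F) (d + 1)) :
    ∃ m₀ : ℕ, ∀ m, m₀ ≤ m → ∃ Q : X.Modules, Coh.IsCoh Q ∧ DimLT (CohB1.support Q) d ∧
      ∀ (v : Pic X) (l : ℕ),
        hf k F (v * clsMod hH.1 ^ m) l ≤ hf k F v l + hf k Q v l ∧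
        hf k Q v l ≤ hf k F (v * clsMod hH.1 ^ m) l + hf k F v (l + 1) ∧
        hf k F v (l + 1) ≤ hf k Q v l + hf k F (v * clsMod hH.1 ^ m) (l + 1) ∧
        hf k F v 0 ≤ hf k F (v * clsMod hH.1 ^ m) 0 := by
  haveI := Euler.isNoetherian_of_proper (X := X) k
  obtain ⟨m₀, hm₀⟩ := exists_mono_small k hH hF hd
  refine ⟨m₀, fun m hm => ?_⟩
  obtain ⟨S, hS, e1, e2, hQ, hQd⟩ := hm₀ m hm
  have hE : PicF.IsInvertible (CohB1.tensorPow H m) := Ample.isInvertible_tensorPow hH.1 m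
  have hcls : HasCls (CohB1.tensorPow H m) (clsMod hH.1 ^ m) := (hasCls_clsMod hH.1).tensorPow m
  have h1 : Coh.IsCoh S.X₁ := by rw [e1]; exact hF
  have h2 : Coh.IsCoh S.X₂ := by rw [e2]; exact isCoh_twist k hH.1 hF m
  refine ⟨S.X₃, hQ, hQd, fun v l => ?_⟩
  have hT : (S.map (tF (rep v))).ShortExact :=
    OX.tensor_map_shortExact (OX.flat_of_isFinLocFree (Euler.isFinLocFree_of_isInvertible (isInv_rep v))) hS
  have c1 : Coh.IsCoh (S.map (tF (rep v))).X₁ := isCoh_tw k h1 v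
  have c2 : Coh.IsCoh (S.map (tF (rep v))).X₂ := isCoh_tw k h2 v
  have c3 : Coh.IsCoh (S.map (tF (rep v))).X₃ := isCoh_tw k hQ v
  have f1 : ∀ i, hl k (S.map (tF (rep v))).X₁ i = hf k F v i := fun i => hf_iso k (eqToIso e1) v i
  have f2 : ∀ i, hl k (S.map (tF (rep v))).X₂ i = hf k F (v * clsMod hH.1 ^ m) i := fun i => by
    obtain ⟨t⟩ := tw_iso (F := F) hcls
    refine (hf_iso k (eqToIso e2 ≪≫ t.symm) v i).trans ?_
    rw [hf_twist, mul_comm]
  have f3 : ∀ i, hl k (S.map (tF (rep v))).X₃ i = hf k S.X₃ v i := fun i => rfl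
  refine ⟨?_, ?_, ?_, ?_⟩
  · rw [← f1, ← f2, ← f3]
    exact hl_X₂_le k hT c1 c2 c3 l
  · rw [← f1, ← f2, ← f3]
    haveI := Euler.finiteDimensional_HH k c1 (l + 1)
    haveI := Euler.finiteDimensional_HH k c2 l
    haveI := Euler.finiteDimensional_HH k c3 l
    exact exact_finrank_le k (Cohom.exact₃ hT l)
  · rw [← f1, ← f2, ← f3]
    exact hl_X₁_le k hT c1 c2 c3 l
  · rw [← f1, ← f2]
    haveI : Mono (S.map (tF (rep v))).f := hT.mono_f
    exact Euler.finrank_H0_le_of_mono k (S.map (tF (rep v))).f c2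

include k in
theorem hf_eq_zero {F : X.Modules} (hd : DimLT (CohB1.support F) 0) (hF : Coh.IsCoh F) (z : Pic X) (j : ℕ) :
    hf k F z j = 0 := by
  haveI := Euler.isNoetherian_of_proper (X := X) k
  have hc := isCoh_tw k hF z
  have hs : CohB1.support (tw F z) = ∅ :=
    Set.subset_eq_empty (support_tw_subset F z) (eq_empty_of_dimLT_zero hd)
  haveI := Cohom.subsingleton_HH_of_isZero (Hilb20.isZero_of_support_eq_empty hs) j
  exact Module.finrank_zero_of_subsingleton

/-- Multiplying by `z` changes the cohomology of `F` by a function of class `d`. -/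
def StepP (F : X.Modules) (d j : ℕ) (z : Pic X) : Prop :=
  ∃ G : Pic X → ℕ, Sm d G ∧ ∀ w, hf k F (w * z) j ≤ hf k F w j + G w ∧ hf k F w j ≤ hf k F (w * z) j + G w

theorem StepP.mul {F : X.Modules} {d j : ℕ} {z z' : Pic X} (h : StepP k F d j z) (h' : StepP k F d j z') :
    StepP k F d j (z * z') := by
  obtain ⟨G, hG, e⟩ := h
  obtain ⟨G', hG', e'⟩ := h'
  refine ⟨fun w => G w + G' (z * w), hG.add (hG'.shift z), fun w => ?_⟩
  obtain ⟨a1, a2⟩ := e w
  obtain ⟨b1, b2⟩ := e' (z * w)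
  rw [show z * w = w * z from mul_comm _ _] at b1 b2
  show hf k F (w * (z * z')) j ≤ _ + (G w + G' (z * w)) ∧ _ ≤ _ + (G w + G' (z * w))
  rw [show z * w = w * z from mul_comm _ _]
  rw [← mul_assoc]
  constructor <;> omega

theorem StepP.inv {F : X.Modules} {d j : ℕ} {z : Pic X} (h : StepP k F d j z) : StepP k F d j z⁻¹ := by
  obtain ⟨G, hG, e⟩ := h
  refine ⟨fun w => G (z⁻¹ * w), hG.shift z⁻¹, fun w => ?_⟩
  obtain ⟨a1, a2⟩ := e (w * z⁻¹)
  rw [inv_mul_cancel_right] at a1 a2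
  show _ ≤ _ + G (z⁻¹ * w) ∧ _ ≤ _ + G (z⁻¹ * w)
  rw [show z⁻¹ * w = w * z⁻¹ from mul_comm _ _]
  exact ⟨a2, a1⟩

theorem le_telescope {f : ℤ → ℕ} {C : ℕ} {e : ℕ} (c : ℤ)
    (h : ∀ i : ℤ, i.natAbs ≤ c.natAbs → f (i + 1) ≤ f i + e ∧ f i ≤ f (i + 1) + e) :
    f c ≤ f 0 + c.natAbs * e := by
  suffices H : ∀ n : ℕ, n ≤ c.natAbs → f n ≤ f 0 + n * e ∧ f (-(n : ℤ)) ≤ f 0 + n * e by
    rcases Int.natAbs_eq c with hc | hc
    · have := (H _ le_rfl).1
      rwa [← hc] at this
    · have := (H _ le_rfl).2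
      rwa [← hc] at this
  intro n
  induction n with
  | zero => intro _; simp
  | succ n ih =>
    intro hn
    obtain ⟨i1, i2⟩ := ih (by omega)
    obtain ⟨p1, -⟩ := h n (by omega)
    obtain ⟨-, q2⟩ := h (-((n + 1 : ℕ) : ℤ)) (by omega)
    rw [show -((n + 1 : ℕ) : ℤ) + 1 = -(n : ℤ) by push_cast; ring] at q2
    push_cast at p1 q2 ⊢
    rw [Nat.add_mul, Nat.one_mul]
    constructor <;> omega

variable {k}

theorem stepP_all {H : X.Modules} (hH : CohB1.IsAmple H) {F : X.Modules} (hF : Coh.IsCoh F) {d : ℕ}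
    (hd : DimLT (CohB1.support F) (d + 1))
    (ih : ∀ Q : X.Modules, Coh.IsCoh Q → DimLT (CohB1.support Q) d → ∀ l, Sm d (fun w => hf k Q w l))
    (j : ℕ) (z : Pic X) : StepP k F d j z := by
  have hamp : ∀ {A : X.Modules} (hA : CohB1.IsAmple A), StepP k F d j (clsMod hA.1) := by
    intro A hA
    obtain ⟨m₀, hm₀⟩ := exists_twist_step k hA hF hd
    have hp : ∀ m, m₀ ≤ m → StepP k F d j (clsMod hA.1 ^ m) := by
      intro m hm
      obtain ⟨Q, hQ, hQd, hs⟩ := hm₀ m hm
      cases j with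
      | zero =>
        refine ⟨_, ih Q hQ hQd 0, fun w => ?_⟩
        obtain ⟨a1, -, -, a4⟩ := hs w 0
        exact ⟨a1, a4.trans (Nat.le_add_right _ _)⟩
      | succ l =>
        refine ⟨_, (ih Q hQ hQd (l + 1)).add (ih Q hQ hQd l), fun w => ?_⟩
        obtain ⟨a1, -, -, -⟩ := hs w (l + 1)
        obtain ⟨-, -, a3, -⟩ := hs w l
        constructor <;> omega
    have := (hp (m₀ + 1) (Nat.le_succ _)).mul k (hp m₀ le_rfl).inv
    rwa [pow_succ, mul_comm (clsMod hA.1 ^ m₀), mul_inv_cancel_right] at this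
  obtain ⟨j₀, hj₀⟩ := Kodaira.exists_isAmple_pow_tensor hH (isInv_rep z)
  have hA := hj₀ (j₀ + 1) (Nat.le_succ _)
  have hHj : CohB1.IsAmple (CohB1.tensorPow H (j₀ + 1)) :=
    (Ample.isAmple_tensorPow_iff hH.1 (Nat.succ_pos j₀)).1 hH
  have h := (hamp hA).mul k (hamp hHj).inv
  have e1 : clsMod hA.1 = clsMod hHj.1 * z := by
    rw [← Cube.HasCls.eq ((hasCls_clsMod hHj.1).tensor ⟨isInv_rep z, cls_rep z⟩) (hasCls_clsMod hA.1) ⟨Iso.refl _⟩]
  rwa [e1, mul_comm (clsMod hHj.1), mul_inv_cancel_right] at h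

/-- **Growth along two classes.** -/
theorem sm_hf {H : X.Modules} (hH : CohB1.IsAmple H) : ∀ (d : ℕ) (F : X.Modules), Coh.IsCoh F →
    DimLT (CohB1.support F) d → ∀ j, Sm d (fun w => hf k F w j) := by
  intro d
  induction d with
  | zero =>
    intro F hF hd j
    exact ⟨fun _ w => hf_eq_zero k hd hF w j,
      fun w x y => ⟨0, fun a b => le_of_eq ((hf_eq_zero k hd hF _ j).trans (Nat.zero_mul _).symm)⟩⟩
  | succ d ih =>
    intro F hF hd j
    refine ⟨fun h => absurd h (Nat.succ_ne_zero d), fun w x y => ?_⟩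
    obtain ⟨G, hG, eG⟩ := stepP_all hH hF hd (fun Q hQ hQd l => ih Q hQ hQd l) j x
    obtain ⟨G', hG', eG'⟩ := stepP_all hH hF hd (fun Q hQ hQd l => ih Q hQ hQd l) j y
    obtain ⟨C, hC⟩ := hG.2 w x y
    obtain ⟨C', hC'⟩ := hG'.2 w x y
    refine ⟨hf k F w j + 2 ^ d * C + 2 ^ d * C', fun a b => ?_⟩
    rcases Nat.eq_zero_or_pos d with rfl | hdpos
    · have e1 := le_telescope (f := fun i => hf k F (w * x ^ i) j) (C := 0) (e := 0) a (fun i _ => by
        obtain ⟨a1, a2⟩ := eG (w * x ^ i)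
        rw [hG.1 rfl, add_zero, mul_assoc, ← zpow_add_one] at a1 a2
        exact ⟨a1, a2⟩)
      have e2 := le_telescope (f := fun i => hf k F (w * x ^ a * y ^ i) j) (C := 0) (e := 0) b (fun i _ => by
        obtain ⟨a1, a2⟩ := eG' (w * x ^ a * y ^ i)
        rw [hG'.1 rfl, add_zero, mul_assoc (w * x ^ a), ← zpow_add_one] at a1 a2
        exact ⟨a1, a2⟩)
      simp only [zpow_zero, mul_one, mul_zero, add_zero] at e1 e2
      simp only [Nat.reduceAdd, Nat.sub_self, pow_zero, mul_one]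
      omega
    set N := wt a b
    have hmono : ∀ i l : ℤ, wt i l ≤ 2 * N → wt i l ^ (d - 1) ≤ 2 ^ (d - 1) * N ^ (d - 1) := fun i l h => by
      rw [← mul_pow]; exact Nat.pow_le_pow_left h _
    have e1 := le_telescope (f := fun i => hf k F (w * x ^ i) j) (C := 0) (e := C * (2 ^ (d - 1) * N ^ (d - 1))) a
      (fun i hi => by
        obtain ⟨a1, a2⟩ := eG (w * x ^ i)
        have hb := hC i 0
        rw [zpow_zero, mul_one] at hb
        have hb' := hb.trans (Nat.mul_le_mul_left C (hmono i 0 (by simp [N, wt]; omega)))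
        rw [mul_assoc, ← zpow_add_one] at a1 a2
        constructor <;> omega)
    have e2 := le_telescope (f := fun i => hf k F (w * x ^ a * y ^ i) j) (C := 0)
      (e := C' * (2 ^ (d - 1) * N ^ (d - 1))) b (fun i hi => by
        obtain ⟨a1, a2⟩ := eG' (w * x ^ a * y ^ i)
        have hb' := (hC' a i).trans (Nat.mul_le_mul_left C' (hmono a i (by simp [N, wt]; omega)))
        rw [mul_assoc (w * x ^ a), ← zpow_add_one] at a1 a2
        constructor <;> omega)
    simp only [zpow_zero, mul_one] at e1 e2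
    have hN : N ^ d = N * N ^ (d - 1) := by rw [← pow_succ', Nat.sub_add_cancel hdpos]
    have h2 : 2 ^ (d - 1) ≤ 2 ^ d := Nat.pow_le_pow_right (by omega) (by omega)
    have ha : a.natAbs * (C * (2 ^ (d - 1) * N ^ (d - 1))) ≤ 2 ^ d * C * N ^ d := by
      rw [hN]
      calc a.natAbs * (C * (2 ^ (d - 1) * N ^ (d - 1))) ≤ N * (C * (2 ^ d * N ^ (d - 1))) :=
            Nat.mul_le_mul (by simp [N, wt]; omega) (Nat.mul_le_mul_left _ (Nat.mul_le_mul_right _ h2))
        _ = _ := by ring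
    have hb : b.natAbs * (C' * (2 ^ (d - 1) * N ^ (d - 1))) ≤ 2 ^ d * C' * N ^ d := by
      rw [hN]
      calc b.natAbs * (C' * (2 ^ (d - 1) * N ^ (d - 1))) ≤ N * (C' * (2 ^ d * N ^ (d - 1))) :=
            Nat.mul_le_mul (by simp [N, wt]; omega) (Nat.mul_le_mul_left _ (Nat.mul_le_mul_right _ h2))
        _ = _ := by ring
    have hw : hf k F w j ≤ hf k F w j * N ^ d := Nat.le_mul_of_pos_right _ (wt_pow_pos a b d)
    show hf k F (w * x ^ a * y ^ b) j ≤ _
    rw [Nat.add_sub_cancel, Nat.add_mul, Nat.add_mul]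
    omega

/-- **The Lipschitz bound.** -/
theorem exists_lipschitz {H : X.Modules} (hH : CohB1.IsAmple H) {F : X.Modules} (hF : Coh.IsCoh F) {d : ℕ}
    (hd : DimLT (CohB1.support F) (d + 1)) (x y z : Pic X) (j : ℕ) :
    ∃ C : ℕ, (d = 0 → C = 0) ∧ ∀ a b : ℤ,
      hf k F (x ^ a * y ^ b * z) j ≤ hf k F (x ^ a * y ^ b) j + C * wt a b ^ (d - 1) ∧
      hf k F (x ^ a * y ^ b) j ≤ hf k F (x ^ a * y ^ b * z) j + C * wt a b ^ (d - 1) := by
  obtain ⟨G, hG, e⟩ := stepP_all (k := k) hH hF hd (fun Q hQ hQd l => sm_hf hH d Q hQ hQd l) j z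
  obtain ⟨C, hC⟩ := hG.2 1 x y
  simp only [one_mul] at hC
  rcases Nat.eq_zero_or_pos d with rfl | hd0
  · refine ⟨0, fun _ => rfl, fun a b => ?_⟩
    obtain ⟨a1, a2⟩ := e (x ^ a * y ^ b)
    rw [hG.1 rfl] at a1 a2
    constructor <;> simpa using by assumption
  · refine ⟨C, fun h => absurd h (by omega), fun a b => ?_⟩
    obtain ⟨a1, a2⟩ := e (x ^ a * y ^ b)
    have := hC a b
    constructor <;> omega

/-- **Growth behind a window of vanishing.** If the cohomology of `F ⊗ x^a y^{b-s}` vanishes in degrees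
`j, …, j + n - 1` for the finitely many `s ≤ S`, then `h^j(F ⊗ x^a y^{b+t})` is `O(t^n N^{d-n})`. -/
theorem exists_window {H : X.Modules} (hH : CohB1.IsAmple H) (x : Pic X) :
    ∀ (n d : ℕ) (F : X.Modules), Coh.IsCoh F → DimLT (CohB1.support F) (d + 1) → ∀ j : ℕ,
      ∃ S C : ℕ, ∀ a b : ℤ,
        (∀ l, j ≤ l → l < j + n → ∀ s : ℕ, s ≤ S → hf k F (x ^ a * clsMod hH.1 ^ (b - s)) l = 0) →
        ∀ t : ℕ, hf k F (x ^ a * clsMod hH.1 ^ (b + t)) j ≤ C * (t + 1) ^ n * (wt a b + t) ^ (d - n) := by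
  intro n
  induction n with
  | zero =>
    intro d F hF hd j
    obtain ⟨C, hC⟩ := (sm_hf (k := k) hH (d + 1) F hF hd j).2 1 x (clsMod hH.1)
    refine ⟨0, C, fun a b _ t => ?_⟩
    have := hC a (b + t)
    rw [one_mul, Nat.add_sub_cancel] at this
    refine this.trans ?_
    rw [pow_zero, mul_one, Nat.sub_zero]
    exact Nat.mul_le_mul_left C (Nat.pow_le_pow_left (by simp [wt]; omega) d)
  | succ n ih =>
    intro d F hF hd j
    set h := clsMod hH.1
    obtain ⟨m₀, hm₀⟩ := exists_twist_step k hH hF hd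
    obtain ⟨Q₀, hQ₀, hQ₀d, hs⟩ := hm₀ (m₀ + 1) (Nat.le_succ _)
    set m := m₀ + 1 with hm
    -- the cokernel twisted down by `m`
    let Q := tw Q₀ (h ^ (-(m : ℤ)))
    have hQ : Coh.IsCoh Q := isCoh_tw k hQ₀ _
    have hQd : DimLT (CohB1.support Q) d := hQ₀d.mono (support_tw_subset Q₀ _)
    have hQe : ∀ (a c : ℤ) (l : ℕ), hf k Q₀ (x ^ a * h ^ (c - m)) l = hf k Q (x ^ a * h ^ c) l := fun a c l => by
      rw [hf_twist, mul_left_comm, ← zpow_add, neg_add_eq_sub]
    obtain ⟨S', C', hQb⟩ : ∃ S' C' : ℕ, ∀ a b : ℤ,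
        (∀ l, j ≤ l → l < j + n → ∀ s : ℕ, s ≤ S' → hf k Q (x ^ a * h ^ (b - s)) l = 0) →
        ∀ t : ℕ, hf k Q (x ^ a * h ^ (b + t)) j ≤ C' * (t + 1) ^ n * (wt a b + t) ^ (d - (n + 1)) := by
      rcases Nat.eq_zero_or_pos d with rfl | hd0
      · exact ⟨0, 0, fun a b _ t => le_of_eq ((hf_eq_zero k hQd hQ _ j).trans (by simp))⟩
      · obtain ⟨e, rfl⟩ : ∃ e, d = e + 1 := ⟨d - 1, by omega⟩
        obtain ⟨S', C', h'⟩ := ih e Q hQ hQd j
        exact ⟨S', C', fun a b hv t => by rw [Nat.add_sub_add_right]; exact h' a b hv t⟩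
    refine ⟨S' + m, C', fun a b hv t => ?_⟩
    have hQv : ∀ l, j ≤ l → l < j + n → ∀ s : ℕ, s ≤ S' → hf k Q (x ^ a * h ^ (b - s)) l = 0 := by
      intro l h1 h2 s hs'
      obtain ⟨-, a2, -, -⟩ := hs (x ^ a * h ^ (b - s - m)) l
      rw [mul_assoc, ← zpow_natCast h m, ← zpow_add, sub_add_cancel, hQe,
        hv l h1 (by omega) s (by omega),
        show b - (s : ℤ) - m = b - ((s + m : ℕ) : ℤ) by push_cast; ring,
        hv (l + 1) (by omega) (by omega) (s + m) (by omega)] at a2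
      omega
    have hstep : ∀ c : ℤ, hf k F (x ^ a * h ^ c) j ≤ hf k F (x ^ a * h ^ (c - m)) j + hf k Q (x ^ a * h ^ c) j := by
      intro c
      obtain ⟨a1, -, -, -⟩ := hs (x ^ a * h ^ (c - m)) j
      rw [mul_assoc, ← zpow_natCast h m, ← zpow_add, sub_add_cancel, hQe] at a1
      exact a1
    have hb := hQb a b hQv
    -- descend by steps of `m` into the window
    suffices hsum : ∀ t : ℕ, hf k F (x ^ a * h ^ (b + t)) j ≤
        t * (C' * (t + 1) ^ n * (wt a b + t) ^ (d - (n + 1))) by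
      refine (hsum t).trans ?_
      calc t * (C' * (t + 1) ^ n * (wt a b + t) ^ (d - (n + 1)))
          ≤ (t + 1) * (C' * (t + 1) ^ n * (wt a b + t) ^ (d - (n + 1))) := Nat.mul_le_mul_right _ (Nat.le_succ t)
        _ = _ := by ring
    intro t
    induction t using Nat.strong_induction_on with
    | _ t iht =>
      rcases Nat.eq_zero_or_pos t with rfl | ht0
      · have := hv j le_rfl (by omega) 0 (Nat.zero_le _)
        rw [Nat.cast_zero, sub_zero] at this
        simp [this]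
      refine (hstep _).trans ?_
      refine le_trans (Nat.add_le_add_left (hb t) _) ?_
      rcases Nat.lt_or_ge t m with htm | htm
      · have := hv j le_rfl (by omega) (m - t) (by omega)
        rw [show b - ((m - t : ℕ) : ℤ) = b + t - m by omega] at this
        rw [this, zero_add]
        exact Nat.le_mul_of_pos_left _ ht0
      · have := iht (t - m) (by omega)
        rw [show b + ((t - m : ℕ) : ℤ) = b + t - m by omega] at this
        refine le_trans (Nat.add_le_add_right (this.trans (Nat.mul_le_mul_left _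
          (Nat.mul_le_mul (Nat.mul_le_mul_left _ (Nat.pow_le_pow_left (show t - m + 1 ≤ t + 1 by omega) n))
            (Nat.pow_le_pow_left (show wt a b + (t - m) ≤ wt a b + t by omega) _)))) _) ?_
        calc (t - m) * (C' * (t + 1) ^ n * (wt a b + t) ^ (d - (n + 1))) +
              C' * (t + 1) ^ n * (wt a b + t) ^ (d - (n + 1))
            = (t - m + 1) * (C' * (t + 1) ^ n * (wt a b + t) ^ (d - (n + 1))) := by ring
          _ ≤ _ := Nat.mul_le_mul_right _ (by omega)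

end GrothLib.Snapper
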