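import Groth.Agent.Lib.Snapper.Leray

/-!
# Cohomology through higher direct images without higher cohomology
-/

set_option linter.style.haveILetI false

universe u

open CategoryTheory CategoryTheory.Limits AlgebraicGeometry Opposite TopologicalSpace Abelian

noncomputable section

namespace GrothLib.Snapper

open GrothLib.Cohom

variable (k : Type u) [Field k] {X Y : Scheme.{u}} [X.Over (Spec (CommRingCat.of k))]

/-- One step of a complex with acyclic terms and acyclic homology. -/
theorem exists_step_acyclic [IsProper (X ↘ Spec (CommRingCat.of k))] (C : CochainComplex X.Modules ℕ)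
    (hC : ∀ n q, Subsingleton (Coh.HH X (C.X n) (q + 1))) (hR : ∀ n, Coh.IsCoh (C.homology n)) (n : ℕ)
    (hz : ∀ q, Subsingleton (Coh.HH X (C.homology (n + 1)) (q + 1)))
    (hK : ∀ q, Subsingleton (Coh.HH X (C.cycles n) (q + 1))) :
    (∀ q, Subsingleton (Coh.HH X (C.cycles (n + 1)) (q + 1))) ∧
      gamma k C (n + 1) = Module.finrank k (Coh.HH X (C.homology (n + 1)) 0) := by
  have hj : (ComplexShape.up ℕ).next n = n + 1 := by simp
  have hi : (ComplexShape.up ℕ).prev (n + 1) = n := by simp
  let π := C.homologyπ (n + 1)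
  have hπ := C.homologyIsCokernel n (n + 1) hi
  haveI : Epi π := Cofork.IsColimit.epi hπ
  let p : C.X n ⟶ kernel π := kernel.lift π _ (C.toCycles_comp_homologyπ n (n + 1))
  haveI : Epi p := (ShortComplex.exact_of_g_is_cokernel
    (ShortComplex.mk _ π (C.toCycles_comp_homologyπ n (n + 1))) hπ).epi_kernelLift
  have hd : p ≫ kernel.ι π ≫ C.iCycles (n + 1) = C.d n (n + 1) := by
    rw [kernel.lift_ι_assoc, HomologicalComplex.toCycles_i]
  have hip : C.iCycles n ≫ p = 0 := by
    rw [← cancel_mono (kernel.ι π ≫ C.iCycles (n + 1)), Category.assoc, zero_comp, hd, HomologicalComplex.iCycles_d]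
  let Sa : ShortComplex X.Modules := ShortComplex.mk (C.iCycles n) p hip
  have hSa : Sa.ShortExact := by
    haveI : Mono Sa.f := inferInstanceAs (Mono (C.iCycles n))
    haveI : Epi Sa.g := ‹Epi p›
    refine { exact := ShortComplex.exact_of_f_is_kernel _ ?_ }
    exact isKernelOfComp (kernel.ι π ≫ C.iCycles (n + 1)) (C.d n (n + 1)) (C.cyclesIsKernel n (n + 1) hj) hip hd
  let Sb : ShortComplex X.Modules := ShortComplex.mk (kernel.ι π) π (kernel.condition π)
  have hSb : Sb.ShortExact :=
    haveI : Epi Sb.g := ‹Epi π›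
    haveI : Mono Sb.f := inferInstanceAs (Mono (kernel.ι π))
    { exact := ShortComplex.exact_of_f_is_kernel _ (kernelIsKernel _) }
  have hB : ∀ q, Subsingleton (Coh.HH X Sb.X₁ (q + 1)) := fun q => by
    haveI := hK (q + 1)
    exact (LinearEquiv.ofBijective _ (bijective_delta (k := k) hSa (hC n) q)).toEquiv.subsingleton
  refine ⟨fun q => subsingleton_of_forall_eq 0 fun x => ?_, ?_⟩
  · haveI : Subsingleton (Coh.HH X Sb.X₃ (q + 1)) := hz q
    haveI := hB q
    obtain ⟨y, hy⟩ := (Cohom.exact₂ (A := k) hSb (q + 1) x).1 (Subsingleton.elim _ _)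
    rw [← hy, Subsingleton.elim y 0, map_zero]
  · have hKF : FinPos k (C.cycles n) := by
      refine ⟨fun q => ?_, 0, fun q _ => hK q⟩
      haveI := hK q
      exact Module.Finite.of_surjective (0 : k →ₗ[k] Coh.HH X (C.cycles n) (q + 1))
        (fun y => ⟨0, Subsingleton.elim _ _⟩)
    have hQ : gamma k C (n + 1) =
        Module.finrank k (Coh.HH X (C.cycles n) 1) + Module.finrank k (LinearMap.range (hhMap k Sb.g 0)) := by
      rw [gamma_succ]
      refine Eq.trans ?_ (finrank_quotient_eq hSa hSb (hC n) hKF (hR (n + 1)))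
      rw [show p ≫ kernel.ι π = C.toCycles n (n + 1) from kernel.lift_ι _ _ _]
    haveI := hK 0
    haveI := hB 0
    have hs : LinearMap.range (hhMap k Sb.g 0) = ⊤ := by
      rw [LinearMap.range_eq_top]
      exact fun z => (Cohom.exact₃ (A := k) hSb 0 z).1 (Subsingleton.elim (α := Coh.HH X Sb.X₁ (0 + 1)) _ _)
    rw [hQ, Module.finrank_zero_of_subsingleton, zero_add, hs, finrank_top]

variable [Y.Over (Spec (CommRingCat.of k))] {f : Y ⟶ X}

/-- `h^n(Y, G) = h^0(X, R^n f_* G)` when the higher direct images have no higher cohomology. -/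
theorem finrank_HH_eq_of_acyclic_Rpush [IsProper (X ↘ Spec (CommRingCat.of k))]
    [IsProper (Y ↘ Spec (CommRingCat.of k))]
    (hf : f ≫ X ↘ Spec (CommRingCat.of k) = Y ↘ Spec (CommRingCat.of k))
    [HasInjectiveResolutions Y.Modules] (G : Y.Modules) (hG : Coh.IsCoh G)
    (hA : ∀ i q, Subsingleton (Coh.HH X ((Coh.Rpush f i).obj G) (q + 1))) (n : ℕ) :
    Module.finrank k (Coh.HH Y G n) = Module.finrank k (Coh.HH X ((Coh.Rpush f n).obj G) 0) := by
  haveI := Euler.isNoetherian_of_proper (X := X) k
  haveI : IsProper (f ≫ X ↘ Spec (CommRingCat.of k)) := by rw [hf]; infer_instance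
  haveI : IsProper f := IsProper.of_comp f (X ↘ Spec (CommRingCat.of k))
  haveI := hG.1
  let P := injectiveResolution G
  let C := ((Scheme.Modules.pushforward f).mapHomologicalComplex (ComplexShape.up ℕ)).obj P.cocomplex
  have eR : ∀ i, (Coh.Rpush f i).obj G ≅ C.homology i := fun i =>
    P.isoRightDerivedObj (Scheme.Modules.pushforward f) i
  have hC : ∀ n q, Subsingleton (Coh.HH X (C.X n) (q + 1)) := fun n q => subsingleton_HH_push_injective f _ q
  have hR : ∀ n, Coh.IsCoh (C.homology n) := fun n =>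
    QCoh.isCoh_of_iso (eR n) (Cohom.isCoh_Rpush f G hG n)
  have hz : ∀ i q, Subsingleton (Coh.HH X (C.homology i) (q + 1)) := fun i q => by
    haveI := hA i q
    exact (Euler.hhEquiv (A := k) (eR i) (q + 1)).symm.toEquiv.subsingleton
  have hZ : ∀ m q, Subsingleton (Coh.HH X (C.cycles m) (q + 1)) := fun m => by
    induction m with
    | zero =>
      intro q
      haveI := hz 0 q
      exact (Euler.hhEquiv (A := k) (CochainComplex.isoHomologyπ₀ C) (q + 1)).toEquiv.subsingleton
    | succ m ih => exact (exists_step_acyclic k C hC hR m (hz (m + 1)) ih).1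
  rw [← (gamma_push hf P.cocomplex n).trans (gamma_resolution k P hG n)]
  cases n with
  | zero =>
    exact (gamma_zero C).trans ((Euler.hhEquiv (A := k) (CochainComplex.isoHomologyπ₀ C) 0).finrank_eq.trans
      (Euler.hhEquiv (A := k) (eR 0) 0).finrank_eq.symm)
  | succ n =>
    exact (exists_step_acyclic k C hC hR n (hz (n + 1)) (hZ n)).2.trans
      (Euler.hhEquiv (A := k) (eR (n + 1)) 0).finrank_eq.symm

end GrothLib.Snapper
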