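import Mathlib.Algebra.MvPolynomial.Funext
import Mathlib.Algebra.BigOperators.Fin
import Mathlib.Algebra.BigOperators.Ring.Finset
import Mathlib.NumberTheory.Bernoulli

/-!
# Functions `ℕ^r → ℚ` given by polynomials of bounded degree
-/

open Finset

noncomputable section

namespace GrothLib.Snapper

variable {r d : ℕ}

/-- The monomial function with exponents `m`. -/
def mono (m : Fin r → ℕ) : (Fin r → ℕ) → ℚ := fun n => ∏ i, (n i : ℚ) ^ m i

/-- Functions given by polynomials of degree `< d`. -/
def polyLT (r d : ℕ) : Submodule ℚ ((Fin r → ℕ) → ℚ) :=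
  Submodule.span ℚ (mono '' {m | ∑ i, m i < d})

theorem mono_mem {m : Fin r → ℕ} (h : ∑ i, m i < d) : mono m ∈ polyLT r d :=
  Submodule.subset_span ⟨m, h, rfl⟩

theorem polyLT_zero (r : ℕ) : polyLT r 0 = ⊥ := by
  rw [polyLT, Submodule.span_eq_bot]
  rintro _ ⟨m, hm, rfl⟩
  exact absurd hm (Nat.not_lt_zero _)

theorem polyLT_mono {e : ℕ} (h : d ≤ e) : polyLT r d ≤ polyLT r e :=
  Submodule.span_le.2 fun _ ⟨_, hm, hf⟩ => hf ▸ mono_mem (lt_of_lt_of_le hm h)

/-- Composition with a substitution sending monomials into the span. -/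
theorem comp_mem {s e : ℕ} (σ : (Fin s → ℕ) → (Fin r → ℕ))
    (hσ : ∀ m : Fin r → ℕ, ∑ i, m i < d → mono m ∘ σ ∈ polyLT s e) {f : (Fin r → ℕ) → ℚ}
    (hf : f ∈ polyLT r d) : f ∘ σ ∈ polyLT s e := by
  have h : polyLT r d ≤ (polyLT s e).comap (LinearMap.funLeft ℚ ℚ σ) :=
    Submodule.span_le.2 fun _ ⟨m, hm, hg⟩ => hg ▸ hσ m hm
  exact h hf

theorem const_mem (c : ℚ) : (fun _ : Fin r → ℕ => c) ∈ polyLT r (d + 1) := by
  have h : (fun _ : Fin r → ℕ => c) = c • mono (0 : Fin r → ℕ) := by
    funext n
    simp [mono]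
  rw [h]
  exact Submodule.smul_mem _ _ (mono_mem (by simp))

theorem mono_comp_init (m : Fin r → ℕ) :
    mono m ∘ (Fin.init : (Fin (r + 1) → ℕ) → Fin r → ℕ) = mono (Fin.snoc m 0) := by
  funext n
  simp [mono, Fin.prod_univ_castSucc, Fin.init]

theorem mono_comp_snoc (m : Fin (r + 1) → ℕ) :
    mono m ∘ (fun n : Fin r → ℕ => Fin.snoc n 0) = ((0 : ℚ) ^ m (Fin.last r)) • mono (Fin.init m) := by
  funext n
  simp [mono, Fin.prod_univ_castSucc, Fin.init, mul_comm]

/-- A function whose partial differences are of degree `< d` is of degree `< d + 1`. -/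
theorem mem_of_diff : ∀ {r : ℕ} (f : (Fin r → ℕ) → ℚ),
    (∀ i, (fun n => f (n + Pi.single i 1) - f n) ∈ polyLT r d) → f ∈ polyLT r (d + 1) := by
  intro r
  induction r with
  | zero =>
    intro f _
    have h : f = fun _ => f 0 := funext fun n => congrArg f (Subsingleton.elim n 0)
    rw [h]
    exact const_mem _
  | succ r ih =>
    intro f hf
    let sn : (Fin r → ℕ) → Fin (r + 1) → ℕ := fun n => Fin.snoc n 0
    have hsn : ∀ {e : ℕ} {g : (Fin (r + 1) → ℕ) → ℚ}, g ∈ polyLT (r + 1) e → g ∘ sn ∈ polyLT r e := by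
      intro e g hg
      refine comp_mem sn (fun m hm => ?_) hg
      rw [mono_comp_snoc]
      refine Submodule.smul_mem _ _ (mono_mem ?_)
      rw [Fin.sum_univ_castSucc] at hm
      exact lt_of_le_of_lt (Nat.le_add_right _ _) hm
    have hin : ∀ {e : ℕ} {g : (Fin r → ℕ) → ℚ}, g ∈ polyLT r e →
        g ∘ (Fin.init : (Fin (r + 1) → ℕ) → Fin r → ℕ) ∈ polyLT (r + 1) e := by
      intro e g hg
      refine comp_mem _ (fun m hm => ?_) hg
      rw [mono_comp_init]
      exact mono_mem (by simpa [Fin.sum_univ_castSucc] using hm)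
    let last := Fin.last r
    let Δ : ((Fin (r + 1) → ℕ) → ℚ) →ₗ[ℚ] ((Fin (r + 1) → ℕ) → ℚ) :=
      LinearMap.funLeft ℚ ℚ (fun n => n + Pi.single last 1) - LinearMap.id
    have hT : polyLT (r + 1) d ≤ (polyLT (r + 1) (d + 1)).map Δ := by
      refine Submodule.span_le.2 ?_
      rintro _ ⟨m, hm, rfl⟩
      let p := m last
      let S : (Fin (r + 1) → ℕ) → ℚ := ∑ i ∈ Finset.range (p + 1),
        (bernoulli i * ((p + 1).choose i) / (p + 1)) • mono (Function.update m last (p + 1 - i))
      refine ⟨S, Submodule.sum_mem _ fun i _ => Submodule.smul_mem _ _ (mono_mem ?_), ?_⟩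
      · have hm' : ∑ j, m j < d := hm
        rw [Fin.sum_univ_castSucc] at hm' ⊢
        simp only [last, Function.update_self, ne_eq, Fin.castSucc_ne_last, not_false_eq_true,
          Function.update_of_ne, p]
        omega
      · funext n
        have hS : ∀ n, S n = (∏ j : Fin r, (n j.castSucc : ℚ) ^ m j.castSucc) *
            ∑ x ∈ Finset.range (n last), (x : ℚ) ^ p := by
          intro n
          rw [sum_range_pow, Finset.mul_sum]
          simp only [S, Finset.sum_apply, Pi.smul_apply, smul_eq_mul]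
          refine Finset.sum_congr rfl fun i _ => ?_
          simp only [mono, Fin.prod_univ_castSucc, last, Function.update_self, ne_eq, Fin.castSucc_ne_last,
            not_false_eq_true, Function.update_of_ne]
          ring
        show S (n + Pi.single last 1) - S n = mono m n
        have e1 : (n + Pi.single last 1 : Fin (r + 1) → ℕ) last = n last + 1 := by simp
        have e2 : ∀ j : Fin r, (n + Pi.single last 1 : Fin (r + 1) → ℕ) j.castSucc = n j.castSucc := fun j => by
          simp [last, (Fin.castSucc_lt_last j).ne]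
        rw [hS, hS, e1, Finset.sum_range_succ]
        simp only [e2, mono, Fin.prod_univ_castSucc, last, p]
        ring
    obtain ⟨P, hP, hPΔ⟩ := hT (hf last)
    let f₀ : (Fin r → ℕ) → ℚ := f ∘ sn
    have hf₀ : f₀ ∈ polyLT r (d + 1) := by
      refine ih f₀ fun i => ?_
      have h := hsn (hf i.castSucc)
      have he : (fun n => f₀ (n + Pi.single i 1) - f₀ n) =
          (fun n => f (n + Pi.single i.castSucc 1) - f n) ∘ sn := by
        funext n
        show f (sn (n + Pi.single i 1)) - f (sn n) = f (sn n + Pi.single i.castSucc 1) - f (sn n)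
        congr 2
        funext j
        refine Fin.lastCases ?_ (fun j => ?_) j
        · simp [sn, (Fin.castSucc_lt_last i).ne']
        · simp [sn, Pi.single_apply]
      rw [he]
      exact h
    have hkey : ∀ n, f n = f₀ (Fin.init n) + P n - (P ∘ sn) (Fin.init n) := by
      intro n
      suffices h : ∀ (t : ℕ) (a : Fin r → ℕ), f (Fin.snoc a t) - P (Fin.snoc a t) =
          f (Fin.snoc a 0) - P (Fin.snoc a 0) by
        have h' := h (n (Fin.last r)) (Fin.init n)
        rw [Fin.snoc_init_self] at h'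
        show f n = f (Fin.snoc (Fin.init n) 0) + P n - P (Fin.snoc (Fin.init n) 0)
        linarith
      intro t a
      induction t with
      | zero => rfl
      | succ t iht =>
        have e : (Fin.snoc a (t + 1) : Fin (r + 1) → ℕ) = Fin.snoc a t + Pi.single last 1 := by
          funext j
          refine Fin.lastCases ?_ (fun j => ?_) j
          · simp [last]
          · simp [last, (Fin.castSucc_lt_last j).ne]
        have h1 := congrFun hPΔ (Fin.snoc a t)
        change P (Fin.snoc a t + Pi.single last 1) - P (Fin.snoc a t) =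
          f (Fin.snoc a t + Pi.single last 1) - f (Fin.snoc a t) at h1
        rw [e]
        linarith
    rw [show f = f₀ ∘ Fin.init + P - (P ∘ sn) ∘ Fin.init from funext hkey]
    exact Submodule.sub_mem _ (Submodule.add_mem _ (hin hf₀) hP) (hin (hsn hP))

/-- The function of a polynomial. -/
def evalFun (P : MvPolynomial (Fin r) ℚ) : (Fin r → ℕ) → ℚ :=
  fun n => MvPolynomial.eval (fun i => (n i : ℚ)) P

theorem evalFun_injective : Function.Injective (evalFun (r := r)) := fun P Q h =>
  MvPolynomial.funext_set (fun _ => Set.range (Nat.cast : ℕ → ℚ))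
    (fun _ => Set.infinite_range_of_injective Nat.cast_injective) fun x hx => by
      choose n hn using fun i => hx i trivial
      have := congrFun h n
      simp only [evalFun, hn] at this
      exact this

theorem evalFun_eq_sum (P : MvPolynomial (Fin r) ℚ) :
    evalFun P = ∑ m ∈ P.support, P.coeff m • mono (fun i => m i) := by
  funext n
  simp [evalFun, MvPolynomial.eval_eq', mono]

theorem sum_eq_fintype_sum (m : Fin r →₀ ℕ) : (m.sum fun _ e => e) = ∑ i, m i :=
  Finsupp.sum_fintype _ _ fun _ => rfl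

theorem evalFun_mem {P : MvPolynomial (Fin r) ℚ} (hP : ∀ m ∈ P.support, (m.sum fun _ e => e) < d) :
    evalFun P ∈ polyLT r d := by
  rw [evalFun_eq_sum]
  refine Submodule.sum_mem _ fun m hm => Submodule.smul_mem _ _ (mono_mem ?_)
  rw [← sum_eq_fintype_sum]
  exact hP m hm

theorem exists_of_mem {f : (Fin r → ℕ) → ℚ} (hf : f ∈ polyLT r d) :
    ∃ P : MvPolynomial (Fin r) ℚ, (∀ m ∈ P.support, (m.sum fun _ e => e) < d) ∧ evalFun P = f := by
  classical
  induction hf using Submodule.span_induction with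
  | mem g hg =>
    obtain ⟨m, hm, rfl⟩ := hg
    refine ⟨MvPolynomial.monomial (Finsupp.equivFunOnFinite.symm m) 1, fun m' hm' => ?_, ?_⟩
    · obtain rfl := Finset.mem_singleton.1 (MvPolynomial.support_monomial_subset hm')
      rw [sum_eq_fintype_sum]
      simpa using hm
    · funext n
      simp [evalFun, MvPolynomial.eval_monomial, mono, Finsupp.prod_fintype]
  | zero => exact ⟨0, by simp, by funext n; simp [evalFun]⟩
  | add f g _ _ hf hg =>
    obtain ⟨P, hP, rfl⟩ := hf
    obtain ⟨Q, hQ, rfl⟩ := hg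
    refine ⟨P + Q, fun m hm => ?_, funext fun n => by simp [evalFun]⟩
    rcases Finset.mem_union.1 (MvPolynomial.support_add hm) with h | h
    · exact hP m h
    · exact hQ m h
  | smul c f _ hf =>
    obtain ⟨P, hP, rfl⟩ := hf
    exact ⟨c • P, fun m hm => hP m (MvPolynomial.support_smul hm), funext fun n => by simp [evalFun]⟩

theorem exists_totalDegree_le {f : (Fin r → ℕ) → ℚ} (hf : f ∈ polyLT r (d + 1)) :
    ∃ P : MvPolynomial (Fin r) ℚ, P.totalDegree ≤ d ∧ evalFun P = f := by
  obtain ⟨P, hP, h⟩ := exists_of_mem hf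
  exact ⟨P, Finset.sup_le fun m hm => Nat.lt_succ_iff.1 (hP m hm), h⟩

/-- The indicator of a set of variables. -/
def ind (S : Finset (Fin d)) : Fin d → ℕ := fun i => if i ∈ S then 1 else 0

/-- The mixed difference at the origin, as a functional. -/
def mixed (d : ℕ) : ((Fin d → ℕ) → ℚ) →ₗ[ℚ] ℚ where
  toFun f := ∑ S : Finset (Fin d), (-1 : ℚ) ^ (d - S.card) * f (ind S)
  map_add' f g := by simp [mul_add, Finset.sum_add_distrib]
  map_smul' c f := by simp [Finset.mul_sum, mul_left_comm]

theorem mixed_mono (m : Fin d → ℕ) :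
    mixed d (mono m) = if ∀ i, 1 ≤ m i then 1 else 0 := by
  show ∑ S : Finset (Fin d), (-1 : ℚ) ^ (d - S.card) * mono m (ind S) = _
  have h := Finset.prod_add (fun i : Fin d => (1 : ℚ)) (fun i => -((0 : ℚ) ^ m i)) Finset.univ
  rw [Finset.powerset_univ] at h
  have e : ∀ S : Finset (Fin d), (-1 : ℚ) ^ (d - S.card) * mono m (ind S) =
      (∏ i ∈ S, (1 : ℚ)) * ∏ i ∈ Finset.univ \ S, -((0 : ℚ) ^ m i) := by
    intro S
    rw [Finset.prod_const_one, one_mul, Finset.prod_neg, Finset.card_sdiff_of_subset (Finset.subset_univ S),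
      Finset.card_univ, Fintype.card_fin]
    congr 1
    simp only [mono]
    rw [← Finset.prod_sdiff (Finset.subset_univ S)]
    have h1 : ∏ i ∈ S, (ind S i : ℚ) ^ m i = 1 := Finset.prod_eq_one fun i hi => by simp [ind, hi]
    rw [h1, mul_one]
    exact Finset.prod_congr rfl fun i hi => by simp [ind, (Finset.mem_sdiff.1 hi).2]
  simp only [e, ← h]
  split_ifs with hm
  · exact Finset.prod_eq_one fun i _ => by rw [zero_pow (by have := hm i; omega)]; norm_num
  · push Not at hm
    obtain ⟨i, hi⟩ := hm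
    exact Finset.prod_eq_zero (Finset.mem_univ i) (by rw [show m i = 0 by omega]; norm_num)

theorem mixed_eq_zero {f : (Fin d → ℕ) → ℚ} (hf : f ∈ polyLT d d) : mixed d f = 0 := by
  have h : polyLT d d ≤ LinearMap.ker (mixed d) := Submodule.span_le.2 fun _ ⟨m, hm, hg⟩ => hg ▸ by
    show mixed d (mono m) = 0
    rw [mixed_mono, if_neg]
    intro h
    have h2 : ∑ _i : Fin d, 1 ≤ ∑ i, m i := Finset.sum_le_sum fun i _ => h i
    have hm' : ∑ i, m i < d := hm
    simp at h2
    omega
  exact h hf

/-- The coefficient of `x₁ ⋯ x_d` of a polynomial whose function has degree `≤ d`. -/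
theorem coeff_eq_mixed {P : MvPolynomial (Fin d) ℚ} (h : evalFun P ∈ polyLT d (d + 1)) :
    MvPolynomial.coeff (Finsupp.equivFunOnFinite.symm fun _ : Fin d => 1) P = mixed d (evalFun P) := by
  classical
  obtain ⟨Q, hQ, hQP⟩ := exists_of_mem h
  obtain rfl := evalFun_injective hQP
  rw [evalFun_eq_sum, map_sum]
  simp only [map_smul, mixed_mono, smul_eq_mul, mul_ite, mul_one, mul_zero]
  rw [Finset.sum_eq_single (Finsupp.equivFunOnFinite.symm fun _ : Fin d => 1)]
  · simp
  · intro m hm hne
    rw [if_neg]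
    intro hall
    refine hne (Finsupp.ext fun i => ?_)
    have hlt := hQ m hm
    rw [sum_eq_fintype_sum] at hlt
    by_contra h'
    have h2 : ∑ _j : Fin d, 1 < ∑ j, m j :=
      Finset.sum_lt_sum (fun j _ => hall j) ⟨i, Finset.mem_univ i, lt_of_le_of_ne (hall i) fun h'' => h' (by simp [← h''])⟩
    simp at h2
    omega
  · intro hm
    simp [MvPolynomial.notMem_support_iff.1 hm]

end GrothLib.Snapper
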