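import Groth.Agent.Lib.Snapper.Leray

/-!
# An isolated term of the Leray spectral sequence survives
-/

set_option autoImplicit false
set_option linter.all false
set_option backward.isDefEq.respectTransparency false
set_option maxHeartbeats 1000000

universe u

open CategoryTheory CategoryTheory.Limits AlgebraicGeometry Opposite TopologicalSpace Abelian

noncomputable section

namespace GrothLib.Snapper

open GrothLib.Cohom

variable (k : Type u) [Field k] {X Y : Scheme.{u}} [X.Over (Spec (CommRingCat.of k))]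

local notation "h[" F "," q "]" => Module.finrank k (Coh.HH X F q)

/-- How the cohomology of the cycles moves along one step of a complex with acyclic terms. -/
theorem exists_step_corner [IsProper (X ↘ Spec (CommRingCat.of k))] (C : CochainComplex X.Modules ℕ)
    (hC : ∀ n q, Subsingleton (Coh.HH X (C.X n) (q + 1))) (hR : ∀ n, Coh.IsCoh (C.homology n)) (n : ℕ)
    (hK : FinPos k (C.cycles n)) :
    (∀ q, Subsingleton (Coh.HH X (C.cycles n) (q + 2)) → Subsingleton (Coh.HH X (C.homology (n + 1)) (q + 1)) →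
      Subsingleton (Coh.HH X (C.cycles (n + 1)) (q + 1))) ∧
    (∀ q, Subsingleton (Coh.HH X (C.homology (n + 1)) q) → Subsingleton (Coh.HH X (C.homology (n + 1)) (q + 1)) →
      h[C.cycles (n + 1), q + 1] = h[C.cycles n, q + 2]) ∧
    (∀ q, Subsingleton (Coh.HH X (C.cycles n) (q + 2)) → Subsingleton (Coh.HH X (C.cycles n) (q + 3)) →
      h[C.cycles (n + 1), q + 1] = h[C.homology (n + 1), q + 1]) ∧
    (Subsingleton (Coh.HH X (C.homology (n + 1)) 0) → gamma k C (n + 1) = h[C.cycles n, 1]) ∧
    (Subsingleton (Coh.HH X (C.cycles n) 1) → Subsingleton (Coh.HH X (C.cycles n) 2) →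
      gamma k C (n + 1) = h[C.homology (n + 1), 0]) := by
  have hj : (ComplexShape.up ℕ).next n = n + 1 := by simp
  have hi : (ComplexShape.up ℕ).prev (n + 1) = n := by simp
  let π := C.homologyπ (n + 1)
  have hπ := C.homologyIsCokernel n (n + 1) hi
  haveI : Epi π := Cofork.IsColimit.epi hπ
  let p : C.X n ⟶ kernel π := kernel.lift π _ (C.toCycles_comp_homologyπ n (n + 1))
  haveI : Epi p := (ShortComplex.exact_of_g_is_cokernel
    (ShortComplex.mk _ π (C.toCycles_comp_homologyπ n (n + 1))) hπ).epi_kernelLift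
  have hd : p ≫ kernel.ι π ≫ C.iCycles (n + 1) = C.d n (n + 1) := by
    rw [kernel.lift_ι_assoc, HomologicalComplex.toCycles_i]
  have hip : C.iCycles n ≫ p = 0 := by
    rw [← cancel_mono (kernel.ι π ≫ C.iCycles (n + 1)), Category.assoc, zero_comp, hd, HomologicalComplex.iCycles_d]
  let Sa : ShortComplex X.Modules := ShortComplex.mk (C.iCycles n) p hip
  have hSa : Sa.ShortExact := by
    haveI : Mono Sa.f := inferInstanceAs (Mono (C.iCycles n))
    haveI : Epi Sa.g := ‹Epi p›
    refine { exact := ShortComplex.exact_of_f_is_kernel _ ?_ }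
    exact isKernelOfComp (kernel.ι π ≫ C.iCycles (n + 1)) (C.d n (n + 1)) (C.cyclesIsKernel n (n + 1) hj) hip hd
  let Sb : ShortComplex X.Modules := ShortComplex.mk (kernel.ι π) π (kernel.condition π)
  have hSb : Sb.ShortExact :=
    haveI : Epi Sb.g := ‹Epi π›
    haveI : Mono Sb.f := inferInstanceAs (Mono (kernel.ι π))
    { exact := ShortComplex.exact_of_f_is_kernel _ (kernelIsKernel _) }
  have δ : ∀ q, Coh.HH X Sb.X₁ (q + 1) ≃ₗ[k] Coh.HH X (C.cycles n) (q + 2) :=
    fun q => LinearEquiv.ofBijective _ (bijective_delta hSa (hC n) q)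
  have hB : ∀ q, Subsingleton (Coh.HH X (C.cycles n) (q + 2)) → Subsingleton (Coh.HH X Sb.X₁ (q + 1)) :=
    fun q h => @Equiv.subsingleton _ _ (δ q).toEquiv h
  have hQ : gamma k C (n + 1) =
      Module.finrank k (Coh.HH X (C.cycles n) 1) + Module.finrank k (LinearMap.range (hhMap k Sb.g 0)) := by
    rw [gamma_succ]
    refine Eq.trans ?_ (finrank_quotient_eq hSa hSb (hC n) hK (hR (n + 1)))
    rw [show p ≫ kernel.ι π = C.toCycles n (n + 1) from kernel.lift_ι _ _ _]
  refine ⟨fun q h1 h2 => ?_, fun q h1 h2 => ?_, fun q h1 h2 => ?_, fun h => ?_, fun h1 h2 => ?_⟩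
  · haveI := hB q h1
    haveI : Subsingleton (Coh.HH X Sb.X₃ (q + 1)) := h2
    refine subsingleton_of_forall_eq 0 fun x => ?_
    obtain ⟨y, hy⟩ := (Cohom.exact₂ (A := k) hSb (q + 1) x).1 (Subsingleton.elim _ _)
    rw [← hy, Subsingleton.elim y 0, map_zero]
  · haveI : Subsingleton (Coh.HH X Sb.X₃ q) := h1
    haveI : Subsingleton (Coh.HH X Sb.X₃ (q + 1)) := h2
    have hb : Function.Bijective (hhMap k Sb.f (q + 1)) := by
      refine ⟨(injective_iff_map_eq_zero _).2 fun x hx => ?_, fun x => ?_⟩
      · obtain ⟨y, rfl⟩ := (Cohom.exact₁ (A := k) hSb q x).1 hx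
        rw [Subsingleton.elim y 0, map_zero]
      · exact (Cohom.exact₂ (A := k) hSb (q + 1) x).1 (Subsingleton.elim _ _)
    exact ((LinearEquiv.ofBijective _ hb).symm.trans (δ q)).finrank_eq
  · haveI := hB q h1
    haveI : Subsingleton (Coh.HH X Sb.X₁ (q + 1 + 1)) := hB (q + 1) h2
    have hb : Function.Bijective (hhMap k Sb.g (q + 1)) := by
      refine ⟨(injective_iff_map_eq_zero _).2 fun x hx => ?_, fun x => ?_⟩
      · obtain ⟨y, rfl⟩ := (Cohom.exact₂ (A := k) hSb (q + 1) x).1 hx
        rw [Subsingleton.elim y 0, map_zero]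
      · exact (Cohom.exact₃ (A := k) hSb (q + 1) x).1 (Subsingleton.elim _ _)
    exact (LinearEquiv.ofBijective _ hb).finrank_eq
  · haveI : Subsingleton (Coh.HH X Sb.X₃ 0) := h
    rw [hQ, show LinearMap.range (hhMap k Sb.g 0) = ⊥ from
      LinearMap.range_eq_bot.2 (LinearMap.ext fun x => Subsingleton.elim (α := Coh.HH X Sb.X₃ 0) _ _),
      finrank_bot, add_zero]
  · haveI := h1
    haveI : Subsingleton (Coh.HH X Sb.X₁ (0 + 1)) := hB 0 h2
    have hs : LinearMap.range (hhMap k Sb.g 0) = ⊤ := by
      rw [LinearMap.range_eq_top]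
      exact fun z => (Cohom.exact₃ (A := k) hSb 0 z).1 (Subsingleton.elim _ _)
    rw [hQ, Module.finrank_zero_of_subsingleton, zero_add, hs, finrank_top]

variable [Y.Over (Spec (CommRingCat.of k))] {f : Y ⟶ X}

/-- **An isolated term survives**: `h^{a+b}(Y, G) = h^b(X, R^a f_* G)`. -/
theorem finrank_HH_eq_of_corner [IsProper (X ↘ Spec (CommRingCat.of k))]
    [IsProper (Y ↘ Spec (CommRingCat.of k))]
    (hf : f ≫ X ↘ Spec (CommRingCat.of k) = Y ↘ Spec (CommRingCat.of k))
    [HasInjectiveResolutions Y.Modules] (G : Y.Modules) (hG : Coh.IsCoh G) (a b : ℕ)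
    (h1 : ∀ a' b', a' < a → a' + b' = a + b + 1 → Subsingleton (Coh.HH X ((Coh.Rpush f a').obj G) b'))
    (h2 : ∀ a' b', a' ≠ a → a' + b' = a + b → Subsingleton (Coh.HH X ((Coh.Rpush f a').obj G) b'))
    (h3 : ∀ a' b', a < a' → a' + b' + 1 = a + b → Subsingleton (Coh.HH X ((Coh.Rpush f a').obj G) b')) :
    Module.finrank k (Coh.HH Y G (a + b)) = Module.finrank k (Coh.HH X ((Coh.Rpush f a).obj G) b) := by
  haveI := Euler.isNoetherian_of_proper (X := X) k
  haveI : IsProper (f ≫ X ↘ Spec (CommRingCat.of k)) := by rw [hf]; infer_instance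
  haveI : IsProper f := IsProper.of_comp f (X ↘ Spec (CommRingCat.of k))
  haveI := hG.1
  let P := injectiveResolution G
  let C := ((Scheme.Modules.pushforward f).mapHomologicalComplex (ComplexShape.up ℕ)).obj P.cocomplex
  have eR : ∀ i, (Coh.Rpush f i).obj G ≅ C.homology i := fun i =>
    P.isoRightDerivedObj (Scheme.Modules.pushforward f) i
  have hC : ∀ n q, Subsingleton (Coh.HH X (C.X n) (q + 1)) := fun n q => subsingleton_HH_push_injective f _ q
  have hR : ∀ n, Coh.IsCoh (C.homology n) := fun n =>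
    QCoh.isCoh_of_iso (eR n) (Cohom.isCoh_Rpush f G hG n)
  have tr : ∀ i q, Subsingleton (Coh.HH X ((Coh.Rpush f i).obj G) q) → Subsingleton (Coh.HH X (C.homology i) q) :=
    fun i q h => @Equiv.subsingleton _ _ (Euler.hhEquiv (A := k) (eR i) q).symm.toEquiv h
  have z0 : ∀ q, Subsingleton (Coh.HH X (C.homology 0) q) → Subsingleton (Coh.HH X (C.cycles 0) q) :=
    fun q h => @Equiv.subsingleton _ _ (Euler.hhEquiv (A := k) (CochainComplex.isoHomologyπ₀ C) q).toEquiv h
  have hF : ∀ n, FinPos k (C.cycles n) := fun n => by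
    induction n with
    | zero => exact (finPos_of_isCoh (hR 0)).of_iso (CochainComplex.isoHomologyπ₀ C).symm
    | succ n ih => exact (exists_step k C hC hR n ih).1
  have S := fun m => exists_step_corner k C hC hR m (hF m)
  rw [← (gamma_push hf P.cocomplex (a + b)).trans (gamma_resolution k P hG (a + b))]
  show gamma k C (a + b) = _
  rw [(Euler.hhEquiv (A := k) (eR a) b).finrank_eq]
  -- below `a`
  have hlo : ∀ m, m < a → ∀ q, (m + q + 1 = a + b ∨ m + q = a + b) →
      Subsingleton (Coh.HH X (C.cycles m) (q + 1)) := by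
    intro m
    induction m with
    | zero =>
      intro hm q hq
      refine z0 _ (tr _ _ ?_)
      rcases hq with hq | hq
      · exact h2 0 (q + 1) (by omega) (by omega)
      · exact h1 0 (q + 1) hm (by omega)
    | succ m ih =>
      intro hm q hq
      refine (S m).1 q (ih (by omega) (q + 1) (by omega)) (tr _ _ ?_)
      rcases hq with hq | hq
      · exact h2 (m + 1) (q + 1) (by omega) (by omega)
      · exact h1 (m + 1) (q + 1) hm (by omega)
  -- from `a` on
  have hhi : ∀ i q, i + q + 1 = b →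
      Module.finrank k (Coh.HH X (C.cycles (a + i)) (q + 1)) = Module.finrank k (Coh.HH X (C.homology a) b) := by
    intro i
    induction i with
    | zero =>
      intro q hq
      obtain rfl : b = q + 1 := by omega
      cases a with
      | zero => exact (Euler.hhEquiv (A := k) (CochainComplex.isoHomologyπ₀ C) _).finrank_eq
      | succ a' =>
        exact (S a').2.2.1 q (hlo a' (by omega) (q + 1) (by omega)) (hlo a' (by omega) (q + 2) (by omega))
    | succ i ih =>
      intro q hq
      rw [← ih (q + 1) (by omega), show a + (i + 1) = (a + i) + 1 from rfl]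
      exact (S (a + i)).2.1 q (tr _ _ (h3 _ _ (by omega) (by omega))) (tr _ _ (h2 _ _ (by omega) (by omega)))
  cases b with
  | zero =>
    cases a with
    | zero =>
      exact (gamma_zero C).trans (Euler.hhEquiv (A := k) (CochainComplex.isoHomologyπ₀ C) 0).finrank_eq
    | succ a' =>
      exact (S a').2.2.2.2 (hlo a' (by omega) 0 (by omega)) (hlo a' (by omega) 1 (by omega))
  | succ b' =>
    rw [← hhi b' 0 (by omega)]
    exact (S (a + b')).2.2.2.1 (tr _ _ (h2 _ _ (by omega) (by omega)))

end GrothLib.Snapper
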