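import Groth.Agent.Lib.Euler.Basic
import Mathlib.Algebra.Homology.ShortComplex.HomologicalComplex
import Mathlib.LinearAlgebra.Dimension.RankNullity

/-!
# The complex of global sections of an acyclic complex with coherent cohomology sheaves
-/

set_option linter.style.haveILetI false

universe u

open CategoryTheory CategoryTheory.Limits AlgebraicGeometry HomologicalComplex

noncomputable section

namespace GrothLib.Snapper

open GrothLib.Cohom (hhMap hhDelta)

variable (k : Type u) [Field k] {X : Scheme.{u}} [X.Over (Spec (CommRingCat.of k))]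

/-- Finite positive-degree cohomology. -/
def FinPos (F : X.Modules) : Prop :=
  (∀ q, FiniteDimensional k (Coh.HH X F (q + 1))) ∧ ∃ N, ∀ q, N ≤ q → Subsingleton (Coh.HH X F (q + 1))

/-- The alternating sum of the dimensions of the cohomology in positive degrees. -/
def rho (F : X.Modules) : ℤ :=
  ∑ᶠ q : ℕ, (-1 : ℤ) ^ (q + 1) * (Module.finrank k (Coh.HH X F (q + 1)) : ℤ)

/-- The dimensions of the cohomology of the complex of global sections. -/
def gamma (C : CochainComplex X.Modules ℕ) : ℕ → ℕ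
  | 0 => Module.finrank k (LinearMap.ker (hhMap k (C.d 0 1) 0))
  | n + 1 => Module.finrank k (LinearMap.ker (hhMap k (C.d (n + 1) (n + 2)) 0) ⧸
      (LinearMap.range (hhMap k (C.d n (n + 1)) 0)).comap (LinearMap.ker (hhMap k (C.d (n + 1) (n + 2)) 0)).subtype)

variable {k}

theorem rho_eq_sum {F : X.Modules} {N : ℕ} (h : ∀ q, N ≤ q → Subsingleton (Coh.HH X F (q + 1))) :
    rho k F = ∑ i ∈ Finset.range N, (-1 : ℤ) ^ (i + 1) * (Module.finrank k (Coh.HH X F (i + 1)) : ℤ) := by
  refine finsum_eq_sum_of_support_subset _ fun i hi => ?_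
  rw [Finset.coe_range, Set.mem_Iio]
  by_contra hle
  have := h i (not_lt.1 hle)
  exact hi (by simp [Module.finrank_zero_of_subsingleton])

theorem finPos_of_isCoh [IsProper (X ↘ Spec (CommRingCat.of k))] {F : X.Modules} (hF : Coh.IsCoh F) :
    FinPos k F := by
  obtain ⟨N, hN⟩ := Euler.exists_bound (X := X) k
  haveI := hF.1
  exact ⟨fun q => Euler.finiteDimensional_HH k hF _, N, fun q hq => hN F _ (by omega)⟩

theorem FinPos.of_iso {F G : X.Modules} (e : F ≅ G) (h : FinPos k F) : FinPos k G := by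
  obtain ⟨h1, N, hN⟩ := h
  refine ⟨fun q => ?_, N, fun q hq => ?_⟩
  · haveI := h1 q
    exact (Euler.hhEquiv (A := k) e (q + 1)).finiteDimensional
  · haveI := hN q hq
    exact (Euler.hhEquiv (A := k) e (q + 1)).symm.toEquiv.subsingleton

theorem rho_of_iso {F G : X.Modules} (e : F ≅ G) : rho k F = rho k G :=
  finsum_congr fun q => by rw [(Euler.hhEquiv (A := k) e (q + 1)).finrank_eq]

/-- The rank on global sections of the quotient map. -/
theorem finrank_range_zero_eq [IsProper (X ↘ Spec (CommRingCat.of k))] {S : ShortComplex X.Modules}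
    (hS : S.ShortExact) (h₁ : FinPos k S.X₁) (h₂ : FinPos k S.X₂) (h₃ : Coh.IsCoh S.X₃) :
    (Module.finrank k (LinearMap.range (hhMap k S.g 0)) : ℤ) =
      Curv2.euler k X S.X₃ + rho k S.X₁ - rho k S.X₂ := by
  obtain ⟨f₁, N₁, v₁⟩ := h₁
  obtain ⟨f₂, N₂, v₂⟩ := h₂
  obtain ⟨N₃, v₃⟩ := Euler.exists_bound (X := X) k
  haveI := h₃.1
  haveI := fun n => Euler.finiteDimensional_HH k h₃ n
  haveI := f₁
  haveI := f₂
  obtain ⟨N, hN1, hN2, hN3⟩ : ∃ N, N₁ ≤ N ∧ N₂ ≤ N ∧ N₃ ≤ N := ⟨N₁ + N₂ + N₃, by omega, by omega, by omega⟩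
  rw [Euler.euler_eq_sum k S.X₃ (N := N + 1) (fun n hn => v₃ S.X₃ n (by omega)),
    rho_eq_sum (N := N) (fun q hq => v₁ q (by omega)), rho_eq_sum (N := N) (fun q hq => v₂ q (by omega))]
  let a := fun n => (Module.finrank k (LinearMap.range (hhMap k S.f n)) : ℤ)
  let b := fun n => (Module.finrank k (LinearMap.range (hhMap k S.g n)) : ℤ)
  let c := fun n => (Module.finrank k (LinearMap.range (hhDelta k hS n)) : ℤ)
  have e₂ : ∀ n, (Module.finrank k (Coh.HH X S.X₂ (n + 1)) : ℤ) = a (n + 1) + b (n + 1) := fun n => by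
    simp only [a, b]; exact_mod_cast Euler.finrank_eq_add_of_exact (Cohom.exact₂ hS (n + 1))
  have e₃ : ∀ n, (Module.finrank k (Coh.HH X S.X₃ n) : ℤ) = b n + c n := fun n => by
    simp only [b, c]; exact_mod_cast Euler.finrank_eq_add_of_exact (Cohom.exact₃ hS n)
  have e₁ : ∀ n, (Module.finrank k (Coh.HH X S.X₁ (n + 1)) : ℤ) = c n + a (n + 1) := fun n => by
    simp only [c, a]; exact_mod_cast Euler.finrank_eq_add_of_exact (Cohom.exact₁ hS n)
  have key : ∀ M : ℕ, (∑ i ∈ Finset.range (M + 1), (-1 : ℤ) ^ i * Module.finrank k (Coh.HH X S.X₃ i)) +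
      (∑ i ∈ Finset.range M, (-1 : ℤ) ^ (i + 1) * Module.finrank k (Coh.HH X S.X₁ (i + 1))) =
      (∑ i ∈ Finset.range M, (-1 : ℤ) ^ (i + 1) * Module.finrank k (Coh.HH X S.X₂ (i + 1))) +
        b 0 + (-1) ^ M * c M := by
    intro M
    induction M with
    | zero => simp [e₃]
    | succ M ih =>
      rw [Finset.sum_range_succ _ (M + 1),
        Finset.sum_range_succ (fun i => (-1 : ℤ) ^ (i + 1) * (Module.finrank k (Coh.HH X S.X₁ (i + 1)) : ℤ)) M,
        Finset.sum_range_succ (fun i => (-1 : ℤ) ^ (i + 1) * (Module.finrank k (Coh.HH X S.X₂ (i + 1)) : ℤ)) M,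
        e₁, e₂, e₃, pow_succ]
      linear_combination ih
  have hc : c N = 0 := by
    have := v₃ S.X₃ N (by omega)
    simp only [c, Nat.cast_eq_zero]
    have hb : LinearMap.range (hhDelta k hS N) = ⊥ := LinearMap.range_eq_bot.2
      (LinearMap.ext fun x => by rw [Subsingleton.elim x 0, map_zero]; rfl)
    rw [hb, finrank_bot]
  have := key N
  rw [hc, mul_zero, add_zero] at this
  show b 0 = _
  linear_combination -this

/-- Dimension shift along a sequence with acyclic middle term. -/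
theorem bijective_delta {S : ShortComplex X.Modules} (hS : S.ShortExact)
    (h₂ : ∀ q, Subsingleton (Coh.HH X S.X₂ (q + 1))) (q : ℕ) :
    Function.Bijective (hhDelta k hS (q + 1)) := by
  haveI := h₂
  constructor
  · refine (injective_iff_map_eq_zero _).2 fun x hx => ?_
    obtain ⟨y, rfl⟩ := (Cohom.exact₃ hS (q + 1) x).1 hx
    rw [Subsingleton.elim y 0, map_zero]
  · exact fun x => (Cohom.exact₁ hS (q + 1) x).1 (Subsingleton.elim _ _)

theorem surjective_delta_zero {S : ShortComplex X.Modules} (hS : S.ShortExact)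
    (h₂ : Subsingleton (Coh.HH X S.X₂ 1)) : Function.Surjective (hhDelta k hS 0) := by
  haveI := h₂
  exact fun x => (Cohom.exact₁ hS 0 x).1 (Subsingleton.elim _ _)

theorem finPos_X₃ {S : ShortComplex X.Modules} (hS : S.ShortExact)
    (h₂ : ∀ q, Subsingleton (Coh.HH X S.X₂ (q + 1))) (h₁ : FinPos k S.X₁) :
    FinPos k S.X₃ ∧ rho k S.X₃ = -rho k S.X₁ - Module.finrank k (Coh.HH X S.X₁ 1) := by
  obtain ⟨fK, NK, vK⟩ := h₁
  let δe : ∀ q, Coh.HH X S.X₃ (q + 1) ≃ₗ[k] Coh.HH X S.X₁ (q + 2) :=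
    fun q => LinearEquiv.ofBijective _ (bijective_delta hS h₂ q)
  have hv : ∀ q, NK ≤ q → Subsingleton (Coh.HH X S.X₃ (q + 1)) := fun q hq => by
    haveI := vK (q + 1) (by omega)
    exact (δe q).toEquiv.subsingleton
  refine ⟨⟨fun q => ?_, NK, hv⟩, ?_⟩
  · haveI := fK (q + 1)
    exact (δe q).symm.finiteDimensional
  · rw [rho_eq_sum (N := NK) hv, rho_eq_sum (N := NK + 1) (fun q hq => vK q (by omega)), Finset.sum_range_succ']
    simp only [zero_add, pow_one, pow_succ _ (_ + 1), mul_neg, mul_one, neg_mul, Finset.sum_neg_distrib]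
    rw [show (∑ x ∈ Finset.range NK, (-1 : ℤ) ^ (x + 1) * (Module.finrank k (Coh.HH X S.X₃ (x + 1)) : ℤ)) =
      ∑ x ∈ Finset.range NK, (-1 : ℤ) ^ (x + 1) * (Module.finrank k (Coh.HH X S.X₁ (x + 1 + 1)) : ℤ)
      from Finset.sum_congr rfl fun q _ => by rw [(δe q).finrank_eq]]
    ring

theorem finPos_X₂ [IsProper (X ↘ Spec (CommRingCat.of k))] {S : ShortComplex X.Modules} (hS : S.ShortExact)
    (h₁ : FinPos k S.X₁) (h₃ : Coh.IsCoh S.X₃) : FinPos k S.X₂ := by
  obtain ⟨fB, NB, vB⟩ := h₁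
  obtain ⟨NR, vR⟩ := Euler.exists_bound (X := X) k
  haveI := h₃.1
  refine ⟨fun q => ?_, NB + NR, fun q hq => ?_⟩
  · haveI : FiniteDimensional k (Coh.HH X S.X₃ (q + 1)) := Euler.finiteDimensional_HH k h₃ _
    haveI : FiniteDimensional k (Coh.HH X S.X₁ (q + 1)) := fB q
    exact Cohom.finite_X₂ hS (q + 1)
  · haveI : Subsingleton (Coh.HH X S.X₁ (q + 1)) := vB q (by omega)
    haveI : Subsingleton (Coh.HH X S.X₃ (q + 1)) := vR S.X₃ (q + 1) (by omega)
    refine subsingleton_of_forall_eq 0 fun x => ?_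
    obtain ⟨y, hy⟩ := (Cohom.exact₂ (A := k) hS (q + 1) x).1 (Subsingleton.elim _ _)
    rw [← hy, Subsingleton.elim y 0, map_zero]

theorem bijective_hhMap_succ {S : ShortComplex X.Modules} (hS : S.ShortExact) (hz : IsZero S.X₃) (q : ℕ) :
    Function.Bijective (hhMap k S.f (q + 1)) := by
  haveI : Subsingleton (Coh.HH X S.X₃ q) := Cohom.subsingleton_HH_of_isZero hz q
  haveI : Subsingleton (Coh.HH X S.X₃ (q + 1)) := Cohom.subsingleton_HH_of_isZero hz _
  constructor
  · refine (injective_iff_map_eq_zero _).2 fun x hx => ?_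
    obtain ⟨y, rfl⟩ := (Cohom.exact₁ hS q x).1 hx
    rw [Subsingleton.elim y 0, map_zero]
  · exact fun x => (Cohom.exact₂ hS (q + 1) x).1 (Subsingleton.elim _ _)

theorem injective_hhMap_of_mono {M N : X.Modules} (f : M ⟶ N) [Mono f] :
    Function.Injective (hhMap k f 0) :=
  Euler.hhMap_zero_injective (A := k) (S := ShortComplex.mk f (cokernel.π f) (cokernel.condition f))
    { exact := ShortComplex.exact_of_g_is_cokernel _ (cokernelIsCokernel _) }

/-- Global sections are left exact. -/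
theorem ker_hhMap_zero {K M N : X.Modules} {i : K ⟶ M} {g : M ⟶ N} (w : i ≫ g = 0)
    (hl : IsLimit (KernelFork.ofι i w)) :
    LinearMap.ker (hhMap k g 0) = LinearMap.range (hhMap k i 0) := by
  haveI : Mono i := Fork.IsLimit.mono hl
  have w' : i ≫ Abelian.factorThruImage g = 0 := by
    rw [← cancel_mono (Abelian.image.ι g), Category.assoc, Abelian.image.fac, w, zero_comp]
  let Sd : ShortComplex X.Modules := ShortComplex.mk i (Abelian.factorThruImage g) w'
  have hSd : Sd.ShortExact := by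
    haveI : Mono Sd.f := ‹Mono i›
    haveI : Epi Sd.g := inferInstanceAs (Epi (Abelian.factorThruImage g))
    refine { exact := ShortComplex.exact_of_f_is_kernel _ ?_ }
    exact isKernelOfComp (Abelian.image.ι g) g hl w' (Abelian.image.fac g)
  ext x
  have hfac : hhMap k g 0 x = hhMap k (Abelian.image.ι g) 0 (hhMap k (Abelian.factorThruImage g) 0 x) := by
    rw [← Euler.hhMap_comp, Abelian.image.fac]
  rw [LinearMap.mem_ker, hfac, LinearMap.map_eq_zero_iff _ (injective_hhMap_of_mono _)]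
  exact Cohom.exact₂ hSd 0 x

/-- The cokernel of `H⁰` of a composite `A → B → K'`. -/
theorem finrank_quotient_eq [IsProper (X ↘ Spec (CommRingCat.of k))] {X₁ X₂ X₃ Y₂ Y₃ : X.Modules}
    {f : X₁ ⟶ X₂} {g : X₂ ⟶ X₃} {w : f ≫ g = 0} {f' : X₃ ⟶ Y₂} {g' : Y₂ ⟶ Y₃} {w' : f' ≫ g' = 0}
    (hSa : (ShortComplex.mk f g w).ShortExact) (hSb : (ShortComplex.mk f' g' w').ShortExact)
    (h₂ : ∀ q, Subsingleton (Coh.HH X X₂ (q + 1))) (h₁ : FinPos k X₁) (h₃ : Coh.IsCoh Y₃) :
    Module.finrank k (Coh.HH X Y₂ 0 ⧸ LinearMap.range (hhMap k (g ≫ f') 0)) =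
      Module.finrank k (Coh.HH X X₁ 1) + Module.finrank k (LinearMap.range (hhMap k g' 0)) := by
  let R := LinearMap.range (hhMap k (g ≫ f') 0)
  let g₀ := hhMap k g' 0
  let a : Coh.HH X X₃ 0 →ₗ[k] Coh.HH X Y₂ 0 ⧸ R := R.mkQ ∘ₗ hhMap k f' 0
  let b : (Coh.HH X Y₂ 0 ⧸ R) →ₗ[k] LinearMap.range g₀ := R.liftQ g₀.rangeRestrict (by
    rintro _ ⟨z, rfl⟩
    exact LinearMap.mem_ker.2 (Subtype.ext ((Cohom.exact₂ hSb 0 _).2 ⟨hhMap k g 0 z, (Euler.hhMap_comp _ _ _ _).symm⟩)))
  have hab : Function.Exact a b := by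
    rintro ⟨x⟩
    constructor
    · intro h
      obtain ⟨y, hy⟩ := (Cohom.exact₂ hSb 0 x).1 (congrArg Subtype.val h)
      exact ⟨y, congrArg _ hy⟩
    · rintro ⟨y, hy⟩
      rw [← hy]
      exact Subtype.ext ((Cohom.exact₂ hSb 0 _).2 ⟨y, rfl⟩)
  have hb : Function.Surjective b := by
    rintro ⟨_, x, rfl⟩
    exact ⟨Submodule.Quotient.mk x, rfl⟩
  have hkera : LinearMap.ker a = LinearMap.ker (hhDelta k hSa 0) := by
    ext x
    simp only [a, R, LinearMap.mem_ker, LinearMap.comp_apply, Submodule.mkQ_apply, Submodule.Quotient.mk_eq_zero,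
      LinearMap.mem_range]
    exact ⟨fun ⟨z, hz⟩ => (Cohom.exact₃ hSa 0 x).2
        ⟨z, Euler.hhMap_zero_injective hSb ((Euler.hhMap_comp _ _ _ _).symm.trans hz)⟩, fun h => by
      obtain ⟨z, rfl⟩ := (Cohom.exact₃ hSa 0 x).1 h
      exact ⟨z, Euler.hhMap_comp _ _ _ _⟩⟩
  let ea : LinearMap.range a ≃ₗ[k] Coh.HH X X₁ 1 :=
    a.quotKerEquivRange.symm.trans ((Submodule.quotEquivOfEq _ _ hkera).trans
      ((hhDelta k hSa 0).quotKerEquivOfSurjective (surjective_delta_zero hSa (h₂ 0))))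
  haveI : FiniteDimensional k (Coh.HH X Y₃ 0) := Euler.finiteDimensional_HH k h₃ _
  haveI : FiniteDimensional k (LinearMap.range a) :=
    haveI := h₁.1 0
    ea.symm.finiteDimensional
  haveI : FiniteDimensional k (Coh.HH X Y₂ 0 ⧸ R) :=
    Cohom.moduleFinite_of_exact (f := (LinearMap.range a).subtype) (g := b) (fun x => by
      rw [hab x]
      exact ⟨fun h => ⟨⟨x, h⟩, rfl⟩, fun ⟨y, hy⟩ => hy ▸ y.2⟩)
  rw [Euler.finrank_eq_add_of_exact hab, ea.finrank_eq, LinearMap.range_eq_top.2 hb, finrank_top]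

theorem gamma_succ (C : CochainComplex X.Modules ℕ) (n : ℕ) :
    gamma k C (n + 1) =
      Module.finrank k (Coh.HH X (C.cycles (n + 1)) 0 ⧸ LinearMap.range (hhMap k (C.toCycles n (n + 1)) 0)) := by
  have hj : (ComplexShape.up ℕ).next (n + 1) = n + 2 := by simp
  let i₁ := hhMap k (C.iCycles (n + 1)) 0
  have hi : Function.Injective i₁ := injective_hhMap_of_mono _
  have hK : LinearMap.ker (hhMap k (C.d (n + 1) (n + 2)) 0) = LinearMap.range i₁ :=
    ker_hhMap_zero _ (C.cyclesIsKernel (n + 1) (n + 2) hj)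
  let K₂ := LinearMap.ker (hhMap k (C.d (n + 1) (n + 2)) 0)
  let e : Coh.HH X (C.cycles (n + 1)) 0 ≃ₗ[k] K₂ :=
    (LinearEquiv.ofInjective i₁ hi).trans (LinearEquiv.ofEq _ _ hK.symm)
  have hd : ∀ z, (e (hhMap k (C.toCycles n (n + 1)) 0 z)).1 = hhMap k (C.d n (n + 1)) 0 z := fun z => by
    show i₁ (hhMap k (C.toCycles n (n + 1)) 0 z) = _
    rw [← Euler.hhMap_comp, toCycles_i]
  refine (Submodule.Quotient.equiv _ _ e ?_).finrank_eq.symm
  ext y
  constructor
  · rintro ⟨_, ⟨z, rfl⟩, rfl⟩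
    exact ⟨z, (hd z).symm⟩
  · rintro ⟨z, hz⟩
    exact ⟨_, ⟨z, rfl⟩, Subtype.ext ((hd z).trans hz)⟩

variable (k) in
/-- One step of an acyclic complex. -/
theorem exists_step [IsProper (X ↘ Spec (CommRingCat.of k))] (C : CochainComplex X.Modules ℕ)
    (hC : ∀ n q, Subsingleton (Coh.HH X (C.X n) (q + 1))) (hR : ∀ n, Coh.IsCoh (C.homology n)) (n : ℕ)
    (hK : FinPos k (C.cycles n)) :
    FinPos k (C.cycles (n + 1)) ∧
      (gamma k C (n + 1) : ℤ) =
        Curv2.euler k X (C.homology (n + 1)) - rho k (C.cycles n) - rho k (C.cycles (n + 1)) ∧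
      (IsZero (C.homology (n + 1)) → gamma k C (n + 1) = Module.finrank k (Coh.HH X (C.cycles n) 1) ∧
        ∀ q, Module.finrank k (Coh.HH X (C.cycles (n + 1)) (q + 1)) =
          Module.finrank k (Coh.HH X (C.cycles n) (q + 2))) := by
  have hj : (ComplexShape.up ℕ).next n = n + 1 := by simp
  have hi : (ComplexShape.up ℕ).prev (n + 1) = n := by simp
  let π := C.homologyπ (n + 1)
  have hπ := C.homologyIsCokernel n (n + 1) hi
  haveI : Epi π := Cofork.IsColimit.epi hπ
  let p : C.X n ⟶ kernel π := kernel.lift π _ (C.toCycles_comp_homologyπ n (n + 1))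
  haveI : Epi p := (ShortComplex.exact_of_g_is_cokernel
    (ShortComplex.mk _ π (C.toCycles_comp_homologyπ n (n + 1))) hπ).epi_kernelLift
  have hd : p ≫ kernel.ι π ≫ C.iCycles (n + 1) = C.d n (n + 1) := by
    rw [kernel.lift_ι_assoc, toCycles_i]
  have hip : C.iCycles n ≫ p = 0 := by
    rw [← cancel_mono (kernel.ι π ≫ C.iCycles (n + 1)), Category.assoc, zero_comp, hd, iCycles_d]
  let Sa : ShortComplex X.Modules := ShortComplex.mk (C.iCycles n) p hip
  have hSa : Sa.ShortExact := by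
    haveI : Mono Sa.f := inferInstanceAs (Mono (C.iCycles n))
    haveI : Epi Sa.g := ‹Epi p›
    refine { exact := ShortComplex.exact_of_f_is_kernel _ ?_ }
    exact isKernelOfComp (kernel.ι π ≫ C.iCycles (n + 1)) (C.d n (n + 1)) (C.cyclesIsKernel n (n + 1) hj) hip hd
  let Sb : ShortComplex X.Modules := ShortComplex.mk (kernel.ι π) π (kernel.condition π)
  have hSb : Sb.ShortExact :=
    haveI : Epi Sb.g := ‹Epi π›
    haveI : Mono Sb.f := inferInstanceAs (Mono (kernel.ι π))
    { exact := ShortComplex.exact_of_f_is_kernel _ (kernelIsKernel _) }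
  obtain ⟨hB, hrho⟩ := finPos_X₃ hSa (hC n) hK
  have hK' : FinPos k (C.cycles (n + 1)) := finPos_X₂ hSb hB (hR (n + 1))
  have hQ : gamma k C (n + 1) =
      Module.finrank k (Coh.HH X (C.cycles n) 1) + Module.finrank k (LinearMap.range (hhMap k Sb.g 0)) := by
    rw [gamma_succ]
    refine Eq.trans ?_ (finrank_quotient_eq hSa hSb (hC n) hK (hR (n + 1)))
    rw [show p ≫ kernel.ι π = C.toCycles n (n + 1) from kernel.lift_ι _ _ _]
  refine ⟨hK', ?_, fun hz => ⟨?_, fun q => ?_⟩⟩
  · have h := finrank_range_zero_eq hSb hB hK' (hR (n + 1))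
    rw [hQ]
    push_cast
    rw [h]
    linear_combination hrho
  · rw [hQ, show LinearMap.range (hhMap k Sb.g 0) = ⊥ from by
      haveI := Cohom.subsingleton_HH_of_isZero hz 0
      exact LinearMap.range_eq_bot.2 (LinearMap.ext fun x => Subsingleton.elim (α := Coh.HH X Sb.X₃ 0) _ _),
      finrank_bot, add_zero]
  · exact (((LinearEquiv.ofBijective _ (bijective_hhMap_succ hSb hz q)).symm).trans
      (LinearEquiv.ofBijective _ (bijective_delta hSa (hC n) q))).finrank_eq

theorem gamma_zero (C : CochainComplex X.Modules ℕ) :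
    gamma k C 0 = Module.finrank k (Coh.HH X (C.cycles 0) 0) := by
  have hj : (ComplexShape.up ℕ).next 0 = 1 := by simp
  rw [gamma, ker_hhMap_zero _ (C.cyclesIsKernel 0 1 hj)]
  exact LinearMap.finrank_range_of_inj (injective_hhMap_of_mono _)

variable (k) in
/-- Alternating sum of the dimensions of the cohomology of global sections. -/
theorem sum_gamma [IsProper (X ↘ Spec (CommRingCat.of k))] (C : CochainComplex X.Modules ℕ)
    (hC : ∀ n q, Subsingleton (Coh.HH X (C.X n) (q + 1))) (hR : ∀ n, Coh.IsCoh (C.homology n)) {M : ℕ}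
    (hz : ∀ n, M ≤ n → IsZero (C.homology n)) (hg : ∀ n, M ≤ n → gamma k C n = 0) :
    ∑ n ∈ Finset.range (M + 1), (-1 : ℤ) ^ n * (gamma k C n : ℤ) =
      ∑ n ∈ Finset.range (M + 1), (-1 : ℤ) ^ n * Curv2.euler k X (C.homology n) := by
  have hF : ∀ n, FinPos k (C.cycles n) := fun n => by
    induction n with
    | zero => exact (finPos_of_isCoh (hR 0)).of_iso C.isoHomologyπ₀.symm
    | succ n ih => exact (exists_step k C hC hR n ih).1
  have h0 : (gamma k C 0 : ℤ) = Curv2.euler k X (C.homology 0) - rho k (C.cycles 0) := by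
    have hc := QCoh.isCoh_of_iso C.isoHomologyπ₀.symm (hR 0)
    obtain ⟨N, hN⟩ := Euler.exists_bound (X := X) k
    haveI := hc.1
    rw [gamma_zero, Euler.euler_of_iso k C.isoHomologyπ₀.symm,
      Euler.euler_eq_sum k (C.cycles 0) (N := N + 1) (fun n hn => hN _ n (by omega)),
      rho_eq_sum (N := N) (fun q hq => hN _ _ (by omega)), Finset.sum_range_succ']
    ring
  have hvan : ∀ q n, M ≤ n → Module.finrank k (Coh.HH X (C.cycles n) (q + 1)) = 0 := by
    intro q
    induction q with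
    | zero =>
      intro n hn
      rw [← ((exists_step k C hC hR n (hF n)).2.2 (hz _ (by omega))).1]
      exact hg _ (by omega)
    | succ q ih =>
      intro n hn
      rw [← ((exists_step k C hC hR n (hF n)).2.2 (hz _ (by omega))).2 q]
      exact ih _ (by omega)
  have hrho : rho k (C.cycles M) = 0 :=
    finsum_eq_zero_of_forall_eq_zero fun q => by rw [hvan q M le_rfl]; simp
  have key : ∀ m, ∑ n ∈ Finset.range (m + 1), (-1 : ℤ) ^ n * (gamma k C n : ℤ) =
      ∑ n ∈ Finset.range (m + 1), (-1 : ℤ) ^ n * Curv2.euler k X (C.homology n) -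
        (-1) ^ m * rho k (C.cycles m) := by
    intro m
    induction m with
    | zero => simp [h0]
    | succ m ih =>
      rw [Finset.sum_range_succ _ (m + 1), Finset.sum_range_succ _ (m + 1), ih,
        (exists_step k C hC hR m (hF m)).2.1, pow_succ]
      ring
  rw [key M, hrho, mul_zero, sub_zero]

end GrothLib.Snapper
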