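import Groth.Agent.Lib.Snapper.GammaComplex
import Groth.Agent.Lib.Snapper.Polynomial
import Groth.Agent.Lib.Cohom.InjModule
import Groth.Agent.Lib.Cohom.RpushModules
import Groth.Agent.S0031
import Groth.Agent.S11319

/-!
# The Euler characteristic through higher direct images
-/

set_option linter.style.haveILetI false

universe u

open CategoryTheory CategoryTheory.Limits AlgebraicGeometry Opposite TopologicalSpace Abelian

noncomputable section

namespace GrothLib.Snapper

open GrothLib.Cohom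

section Push

variable {A : Type u} [CommRing A] {X Y : Scheme.{u}} [X.Over (Spec (CommRingCat.of A))]
  [Y.Over (Spec (CommRingCat.of A))] (f : Y ⟶ X)

/-- Sections of a direct image, as degree zero cohomology. -/
def h0Push (M : Y.Modules) : Coh.HH X ((Scheme.Modules.pushforward f).obj M) 0 ≃+ Coh.HH Y M 0 :=
  (HEquivTop _ 0).trans (Ext.addEquiv₀.trans
    ((sectionsAddEquiv ⊤ _).trans ((sectionsAddEquiv ⊤ (Coh.toAb M)).symm.trans
      (Ext.addEquiv₀.symm.trans (HEquivTop _ 0).symm))))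

theorem h0Push_spec {M : Y.Modules} (x : Coh.HH X ((Scheme.Modules.pushforward f).obj M) 0) :
    sectionsAddEquiv ⊤ (Coh.toAb M) (Ext.addEquiv₀ (HEquivTop (Coh.toAb M) 0 (h0Push f M x))) =
      sectionsAddEquiv ⊤ (Coh.toAb ((Scheme.Modules.pushforward f).obj M))
        (Ext.addEquiv₀ (HEquivTop _ 0 x)) := by
  exact (congrArg (sectionsAddEquiv ⊤ (Coh.toAb M))
    ((congrArg Ext.addEquiv₀ ((HEquivTop (Coh.toAb M) 0).apply_symm_apply _)).trans
      (Ext.addEquiv₀.apply_symm_apply _))).trans ((sectionsAddEquiv ⊤ (Coh.toAb M)).apply_symm_apply _)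

theorem sections_map {T : Type u} [TopologicalSpace T] {F G : AbSheaf T} (φ : F ⟶ G) (x : Sheaf.H F 0) :
    sectionsAddEquiv ⊤ G (Ext.addEquiv₀ (HEquivTop G 0 (Sheaf.H.map φ 0 x))) =
      φ.hom.app (op ⊤) (sectionsAddEquiv ⊤ F (Ext.addEquiv₀ (HEquivTop F 0 x))) := by
  rw [HEquivTop_map]
  obtain ⟨a, ha⟩ : ∃ a, Ext.mk₀ a = HEquivTop F 0 x := (Ext.mk₀_bijective _ _).2 _
  rw [← ha, Ext.mk₀_comp_mk₀, show ∀ {G' : AbSheaf T} (b : freeFun.obj (⊤ : Opens T) ⟶ G'),
    Ext.addEquiv₀ (Ext.mk₀ b) = b from fun b => Ext.addEquiv₀.apply_symm_apply b,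
    show Ext.addEquiv₀ (Ext.mk₀ a) = a from Ext.addEquiv₀.apply_symm_apply a]
  exact sectionsEquiv_comp a φ

theorem h0Push_natural {M N : Y.Modules} (φ : M ⟶ N) (x : Coh.HH X ((Scheme.Modules.pushforward f).obj M) 0) :
    h0Push f N (Sheaf.H.map ((QCoh.toAbFun X).map ((Scheme.Modules.pushforward f).map φ)) 0 x) =
      Sheaf.H.map ((QCoh.toAbFun Y).map φ) 0 (h0Push f M x) := by
  apply (HEquivTop _ 0).injective
  apply Ext.addEquiv₀.injective
  apply (sectionsAddEquiv ⊤ (Coh.toAb N)).injective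
  refine (h0Push_spec f _).trans ((sections_map _ x).trans (Eq.trans ?_
    (sections_map (T := (Y : Type u)) ((QCoh.toAbFun Y).map φ) (h0Push f M x)).symm))
  exact congrArg _ (h0Push_spec f x).symm

variable {f} (hf : f ≫ X ↘ Spec (CommRingCat.of A) = Y ↘ Spec (CommRingCat.of A))

include hf in
theorem h0Push_smul (M : Y.Modules) (a : A) (x : Coh.HH X ((Scheme.Modules.pushforward f).obj M) 0) :
    h0Push f M (a • x) = a • h0Push f M x := by
  show h0Push f M (Sheaf.H.map (Coh.smulAb _ (Coh.toGlobal (X ↘ Spec (CommRingCat.of A)) a)) 0 x) =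
    Sheaf.H.map (Coh.smulAb M (Coh.toGlobal (Y ↘ Spec (CommRingCat.of A)) a)) 0 (h0Push f M x)
  rw [smulAb_pushforward f M, ← toGlobal_comp, hf]
  apply (HEquivTop _ 0).injective
  apply Ext.addEquiv₀.injective
  apply (sectionsAddEquiv ⊤ (Coh.toAb M)).injective
  refine (h0Push_spec f _).trans ((sections_map _ x).trans (Eq.trans ?_
    (sections_map (T := (Y : Type u)) (Coh.smulAb M (Coh.toGlobal (Y ↘ Spec (CommRingCat.of A)) a))
      (h0Push f M x)).symm))
  exact congrArg _ (h0Push_spec f x).symm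

/-- Sections of a direct image, linearly. -/
def h0PushLin (M : Y.Modules) : Coh.HH X ((Scheme.Modules.pushforward f).obj M) 0 ≃ₗ[A] Coh.HH Y M 0 :=
  { h0Push f M with map_smul' := h0Push_smul hf M }

theorem h0PushLin_natural {M N : Y.Modules} (φ : M ⟶ N)
    (x : Coh.HH X ((Scheme.Modules.pushforward f).obj M) 0) :
    h0PushLin hf N (hhMap A ((Scheme.Modules.pushforward f).map φ) 0 x) =
      hhMap A φ 0 (h0PushLin hf M x) :=
  h0Push_natural f φ x

end Push

theorem finrank_ker_quot_congr {k : Type*} [Field k] {A B C A' B' C' : Type*} [AddCommGroup A] [Module k A]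
    [AddCommGroup B] [Module k B] [AddCommGroup C] [Module k C] [AddCommGroup A'] [Module k A'] [AddCommGroup B']
    [Module k B'] [AddCommGroup C'] [Module k C'] (eA : A ≃ₗ[k] A') (eB : B ≃ₗ[k] B') (eC : C ≃ₗ[k] C')
    (d : A →ₗ[k] B) (d₂ : B →ₗ[k] C) (d' : A' →ₗ[k] B') (d₂' : B' →ₗ[k] C')
    (h : ∀ x, eB (d x) = d' (eA x)) (h₂ : ∀ x, eC (d₂ x) = d₂' (eB x)) :
    Module.finrank k (LinearMap.ker d₂ ⧸ (LinearMap.range d).comap (LinearMap.ker d₂).subtype) =
      Module.finrank k (LinearMap.ker d₂' ⧸ (LinearMap.range d').comap (LinearMap.ker d₂').subtype) := by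
  let e : LinearMap.ker d₂ ≃ₗ[k] LinearMap.ker d₂' :=
    eB.ofSubmodules _ _ (by
      ext y
      rw [Submodule.mem_map, LinearMap.mem_ker]
      constructor
      · rintro ⟨x, hx, rfl⟩
        show d₂' (eB x) = 0
        rw [← h₂, LinearMap.mem_ker.1 hx, map_zero]
      · intro hy
        refine ⟨eB.symm y, ?_, eB.apply_symm_apply y⟩
        apply eC.injective
        rw [h₂, eB.apply_symm_apply, hy, map_zero])
  refine (Submodule.Quotient.equiv _ _ e ?_).finrank_eq
  ext y
  constructor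
  · rintro ⟨x, ⟨z, hz⟩, rfl⟩
    exact ⟨eA z, (h z).symm.trans (congrArg eB hz)⟩
  · rintro ⟨z, hz⟩
    refine ⟨e.symm y, ⟨eA.symm z, eB.injective ?_⟩, e.apply_symm_apply y⟩
    refine ((h _).trans ((congrArg d' (eA.apply_symm_apply z)).trans hz)).trans ?_
    exact congrArg Subtype.val (e.apply_symm_apply y).symm

variable {k : Type u} [Field k] {X Y : Scheme.{u}} [X.Over (Spec (CommRingCat.of k))]
  [Y.Over (Spec (CommRingCat.of k))] {f : Y ⟶ X}

theorem finrank_ker_congr {k : Type*} [Field k] {B C B' C' : Type*} [AddCommGroup B] [Module k B]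
    [AddCommGroup C] [Module k C] [AddCommGroup B'] [Module k B'] [AddCommGroup C'] [Module k C']
    (eB : B ≃ₗ[k] B') (eC : C ≃ₗ[k] C') (d : B →ₗ[k] C) (d' : B' →ₗ[k] C')
    (h : ∀ x, eC (d x) = d' (eB x)) :
    Module.finrank k (LinearMap.ker d) = Module.finrank k (LinearMap.ker d') := by
  refine LinearEquiv.finrank_eq (eB.ofSubmodules _ _ ?_)
  ext y
  rw [Submodule.mem_map, LinearMap.mem_ker]
  constructor
  · rintro ⟨x, hx, rfl⟩
    show d' (eB x) = 0
    rw [← h, LinearMap.mem_ker.1 hx, map_zero]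
  · intro hy
    refine ⟨eB.symm y, ?_, eB.apply_symm_apply y⟩
    apply eC.injective
    rw [h, eB.apply_symm_apply, hy, map_zero]

theorem gamma_push (hf : f ≫ X ↘ Spec (CommRingCat.of k) = Y ↘ Spec (CommRingCat.of k))
    (C : CochainComplex Y.Modules ℕ) : ∀ n,
    gamma k (((Scheme.Modules.pushforward f).mapHomologicalComplex _).obj C) n = gamma k C n
  | 0 => finrank_ker_congr (h0PushLin hf (C.X 0)) (h0PushLin hf (C.X 1)) _ _ (h0PushLin_natural hf _)
  | n + 1 => finrank_ker_quot_congr (h0PushLin hf (C.X n)) (h0PushLin hf (C.X (n + 1)))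
      (h0PushLin hf (C.X (n + 2))) _ _ _ _ (h0PushLin_natural hf _) (h0PushLin_natural hf _)

theorem subsingleton_HH_injective {Z : Scheme.{u}} (I : Z.Modules) [Injective I] (q : ℕ) :
    Subsingleton (Coh.HH Z I (q + 1)) := by
  have : TopCat.Sheaf.IsFlasque (Coh.toAb I) := isFlasque_toAb_of_injective I
  have := SheafCoh.flasque_HU_subsingleton (Coh.toAb I) q ⊤
  exact @Equiv.subsingleton _ _ (HEquivTop (Coh.toAb I) (q + 1)).toEquiv this

theorem subsingleton_HH_push_injective (g : Y ⟶ X) (I : Y.Modules) [Injective I] (q : ℕ) :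
    Subsingleton (Coh.HH X ((Scheme.Modules.pushforward g).obj I) (q + 1)) := by
  have : TopCat.Sheaf.IsFlasque (Coh.toAb I) := isFlasque_toAb_of_injective I
  have : TopCat.Sheaf.IsFlasque ((pushFun g.base).obj (Coh.toAb I)) :=
    TopCat.Presheaf.IsFlasque.pushforward_isFlasque (Coh.toAb I).obj g.base
  have := SheafCoh.flasque_HU_subsingleton ((pushFun g.base).obj (Coh.toAb I)) q ⊤
  exact @Equiv.subsingleton _ _ (HEquivTop (Coh.toAb ((Scheme.Modules.pushforward g).obj I)) (q + 1)).toEquiv this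

variable (k) in
/-- The global sections of an injective resolution compute cohomology. -/
theorem gamma_resolution [IsProper (Y ↘ Spec (CommRingCat.of k))] {G : Y.Modules} (P : InjectiveResolution G)
    (hG : Coh.IsCoh G) (n : ℕ) : gamma k P.cocomplex n = Module.finrank k (Coh.HH Y G n) := by
  let C := P.cocomplex
  have hC : ∀ n q, Subsingleton (Coh.HH Y (C.X n) (q + 1)) := fun n q => subsingleton_HH_injective _ q
  have h0 : G ≅ C.homology 0 := ((HomologicalComplex.singleObjHomologySelfIso (ComplexShape.up ℕ) 0 G).symm ≪≫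
    isoOfQuasiIsoAt P.ι 0)
  have hz : ∀ n, IsZero (C.homology (n + 1)) := fun n =>
    (HomologicalComplex.exactAt_iff_isZero_homology _ _).1 (P.cocomplex_exactAt_succ n)
  have hR : ∀ n, Coh.IsCoh (C.homology n) := fun n => by
    cases n with
    | zero => exact QCoh.isCoh_of_iso h0 hG
    | succ n => exact Euler.isCoh_of_isZero (hz n)
  have e : C.cycles 0 ≅ G := C.isoHomologyπ₀ ≪≫ h0.symm
  have hF : ∀ n, FinPos k (C.cycles n) := fun n => by
    induction n with
    | zero => exact (finPos_of_isCoh hG).of_iso e.symm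
    | succ n ih => exact (exists_step k C hC hR n ih).1
  cases n with
  | zero => exact (gamma_zero C).trans (Euler.hhEquiv (A := k) e 0).finrank_eq
  | succ n =>
    have key : ∀ m q, Module.finrank k (Coh.HH Y (C.cycles m) (q + 1)) =
        Module.finrank k (Coh.HH Y (C.cycles 0) (q + 1 + m)) := by
      intro m
      induction m with
      | zero => exact fun q => rfl
      | succ m ih =>
        intro q
        rw [((exists_step k C hC hR m (hF m)).2.2 (hz m)).2 q, ih (q + 1),
          show q + 1 + (m + 1) = q + 1 + 1 + m by omega]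
    rw [((exists_step k C hC hR n (hF n)).2.2 (hz n)).1, key n 0, show 0 + 1 + n = n + 1 by omega]
    exact (Euler.hhEquiv (A := k) e (n + 1)).finrank_eq

variable (k) in
/-- `χ(Y, G) = Σ (-1)^i χ(X, R^i f_* G)`. -/
theorem euler_eq_finsum_Rpush [IsProper (X ↘ Spec (CommRingCat.of k))] [IsProper (Y ↘ Spec (CommRingCat.of k))]
    (hf : f ≫ X ↘ Spec (CommRingCat.of k) = Y ↘ Spec (CommRingCat.of k))
    [HasInjectiveResolutions Y.Modules] (G : Y.Modules) (hG : Coh.IsCoh G) :
    Curv2.euler k Y G = ∑ᶠ i : ℕ, (-1 : ℤ) ^ i * Curv2.euler k X ((Coh.Rpush f i).obj G) := by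
  haveI := Euler.isNoetherian_of_proper (X := X) k
  haveI : IsProper (f ≫ X ↘ Spec (CommRingCat.of k)) := by rw [hf]; infer_instance
  haveI : IsProper f := IsProper.of_comp f (X ↘ Spec (CommRingCat.of k))
  haveI := hG.1
  obtain ⟨M₁, hM₁⟩ := Groth.Agent.S0031.result f
  obtain ⟨M₂, hM₂⟩ := Euler.exists_bound (X := Y) k
  let M := M₁ + M₂
  have hRz : ∀ i, M₁ ≤ i → IsZero ((Coh.Rpush f i).obj G) := fun i hi => by
    obtain ⟨e⟩ := Groth.Agent.S11319.result f G i
    haveI : (QCoh.toAbFun X).Faithful := inferInstanceAs (SheafOfModules.toSheaf _).Faithful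
    have h : IsZero ((QCoh.toAbFun X).obj ((Coh.Rpush f i).obj G)) := (hM₁ G hG.1 i hi).of_iso e
    rw [IsZero.iff_id_eq_zero] at h ⊢
    apply (QCoh.toAbFun X).map_injective
    rw [CategoryTheory.Functor.map_id, Functor.map_zero]
    exact h
  let P := injectiveResolution G
  let C := ((Scheme.Modules.pushforward f).mapHomologicalComplex (ComplexShape.up ℕ)).obj P.cocomplex
  have eR : ∀ i, (Coh.Rpush f i).obj G ≅ C.homology i := fun i =>
    P.isoRightDerivedObj (Scheme.Modules.pushforward f) i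
  have hC : ∀ n q, Subsingleton (Coh.HH X (C.X n) (q + 1)) := fun n q => subsingleton_HH_push_injective f _ q
  have hR : ∀ n, Coh.IsCoh (C.homology n) := fun n =>
    QCoh.isCoh_of_iso (eR n) (Cohom.isCoh_Rpush f G hG n)
  have hg : ∀ n, gamma k C n = Module.finrank k (Coh.HH Y G n) := fun n =>
    (gamma_push hf P.cocomplex n).trans (gamma_resolution k P hG n)
  have h := sum_gamma k C hC hR (M := M) (fun n hn => (hRz n (by omega)).of_iso (eR n).symm) (fun n hn => by
    rw [hg]
    have := hM₂ G n (by omega)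
    exact Module.finrank_zero_of_subsingleton)
  rw [Euler.euler_eq_sum k G (N := M + 1) (fun n hn => hM₂ G n (by omega)),
    finsum_eq_sum_of_support_subset _ (s := Finset.range (M + 1)) (fun i hi => ?_)]
  · refine ((Finset.sum_congr rfl fun n _ => by rw [hg]).symm.trans h).trans
      (Finset.sum_congr rfl fun n _ => by rw [Euler.euler_of_iso k (eR n)])
  · rw [Finset.coe_range, Set.mem_Iio]
    by_contra hle
    exact hi (show (-1 : ℤ) ^ i * Curv2.euler k X ((Coh.Rpush f i).obj G) = 0 by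
      rw [euler_eq_zero_of_isZero k (hRz i (by omega)), mul_zero])

end GrothLib.Snapper
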